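import Mathlib
import Cfsg.Prelude.Def_Blocks

set_option autoImplicit false

namespace Cfsg.Agent.Helper15

section AlgIntMod

open Polynomial

/-- In the residue ring of a modular maximal ideal, `p = 0`. -/
theorem algInt_natCast_mk_eq_zero (p : ℕ) (M : Ideal Cfsg.AlgInt) (hM : Cfsg.IsPModular p M) :
    ((p : Cfsg.AlgInt ⧸ M)) = 0 := by
  have h : Ideal.Quotient.mk M (p : Cfsg.AlgInt) = 0 := Ideal.Quotient.eq_zero_iff_mem.mpr hM.2.2
  simpa using h

theorem algInt_charP (p : ℕ) (M : Ideal Cfsg.AlgInt) (hM : Cfsg.IsPModular p M) :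
    CharP (Cfsg.AlgInt ⧸ M) p := by
  haveI : M.IsMaximal := hM.2.1
  haveI : Nontrivial (Cfsg.AlgInt ⧸ M) := Ideal.Quotient.nontrivial_iff.mpr hM.2.1.ne_top
  exact (CharP.charP_iff_prime_eq_zero hM.1).mpr (algInt_natCast_mk_eq_zero p M hM)

/-- A natural number lies in a modular maximal ideal iff `p` divides it. -/
theorem algInt_natCast_mem_iff (p : ℕ) (M : Ideal Cfsg.AlgInt) (hM : Cfsg.IsPModular p M)
    (m : ℕ) : (m : Cfsg.AlgInt) ∈ M ↔ p ∣ m := by
  haveI := algInt_charP p M hM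
  rw [← Ideal.Quotient.eq_zero_iff_mem, map_natCast, CharP.cast_eq_zero_iff (Cfsg.AlgInt ⧸ M) p]

/-- A root of unity is an algebraic integer. -/
theorem isIntegral_of_pow_eq_one {z : ℂ} {n : ℕ} (hn : 0 < n) (hz : z ^ n = 1) :
    IsIntegral ℤ z :=
  IsIntegral.of_pow hn (by rw [hz]; exact isIntegral_one)

/-- Distinct roots of unity of order prime to `p` are distinct modulo `M`. -/
theorem algInt_root_inj (p : ℕ) (M : Ideal Cfsg.AlgInt) (hM : Cfsg.IsPModular p M)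
    (ε₁ ε₂ : Cfsg.AlgInt) (m : ℕ) (hm : ¬ p ∣ m) (h1 : ε₁ ^ m = 1) (h2 : ε₂ ^ m = 1)
    (hmem : ε₁ - ε₂ ∈ M) : ε₁ = ε₂ := by
  by_contra hne
  have hm0 : 0 < m := Nat.pos_of_ne_zero (fun h => hm (h ▸ dvd_zero p))
  set ζ : Cfsg.AlgInt := ε₂ * ε₁ ^ (m - 1) with hζ
  have hζm : ζ ^ m = 1 := by
    rw [hζ, mul_pow, h2, one_mul, ← pow_mul, mul_comm, pow_mul, h1, one_pow]
  have hζ1 : ζ ≠ 1 := by
    intro h
    apply hne
    have h3 : ζ * ε₁ = ε₂ := by
      rw [hζ, mul_assoc, ← pow_succ, Nat.sub_add_cancel hm0, h1, mul_one]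
    rw [h, one_mul] at h3
    exact h3
  have hsum : ∑ j ∈ Finset.range m, ζ ^ j = 0 := by
    have h3 : (ζ - 1) * ∑ j ∈ Finset.range m, ζ ^ j = 0 := by
      rw [mul_geom_sum, hζm, sub_self]
    rcases mul_eq_zero.mp h3 with h4 | h4
    · exact absurd (sub_eq_zero.mp h4) hζ1
    · exact h4
  have hπ : Ideal.Quotient.mk M ε₁ = Ideal.Quotient.mk M ε₂ := Ideal.Quotient.eq.mpr hmem
  have hπζ : Ideal.Quotient.mk M ζ = 1 := by
    rw [hζ, map_mul, map_pow, ← hπ, ← pow_succ', Nat.sub_add_cancel hm0, ← map_pow, h1, map_one]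
  have h5 := congrArg (Ideal.Quotient.mk M) hsum
  rw [map_sum, map_zero] at h5
  simp only [map_pow, hπζ, one_pow, Finset.sum_const, Finset.card_range, nsmul_eq_mul,
    mul_one] at h5
  haveI := algInt_charP p M hM
  exact hm ((CharP.cast_eq_zero_iff (Cfsg.AlgInt ⧸ M) p m).mp h5)

/-- Every element of the residue field outside `M` has finite multiplicative order prime to `p`
modulo `M`. -/
theorem algInt_exists_pow_mk_eq_one (p : ℕ) (M : Ideal Cfsg.AlgInt) (hM : Cfsg.IsPModular p M)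
    (a : Cfsg.AlgInt) (ha : a ∉ M) :
    ∃ n : ℕ, ¬ p ∣ n ∧ (Ideal.Quotient.mk M a) ^ n = 1 := by
  haveI : M.IsMaximal := hM.2.1
  letI : Field (Cfsg.AlgInt ⧸ M) := Ideal.Quotient.field M
  haveI := algInt_charP p M hM
  haveI : Fact p.Prime := ⟨hM.1⟩
  letI : Algebra (ZMod p) (Cfsg.AlgInt ⧸ M) := ZMod.algebra _ p
  set x := Ideal.Quotient.mk M a with hx
  have hx0 : x ≠ 0 := fun h => ha (Ideal.Quotient.eq_zero_iff_mem.mp h)
  have hint : IsIntegral ℤ x := (integralClosure.isIntegral a).map (Ideal.Quotient.mkₐ ℤ M)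
  have hint' : IsIntegral (ZMod p) x := hint.tower_top
  haveI : Module.Finite (ZMod p) (Algebra.adjoin (ZMod p) {x}) :=
    Algebra.finite_adjoin_simple_of_isIntegral hint'
  haveI : Finite (Algebra.adjoin (ZMod p) {x}) := Module.finite_of_finite (ZMod p)
  -- pigeonhole on the powers of x
  have hxmem : ∀ k : ℕ, x ^ k ∈ Algebra.adjoin (ZMod p) {x} := fun k =>
    Subalgebra.pow_mem _ (Algebra.subset_adjoin (Set.mem_singleton x)) k
  have hninj := not_injective_infinite_finite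
    (fun k : ℕ => (⟨x ^ k, hxmem k⟩ : Algebra.adjoin (ZMod p) {x}))
  have hex : ∃ n : ℕ, 0 < n ∧ x ^ n = 1 := by
    unfold Function.Injective at hninj
    push Not at hninj
    obtain ⟨i, j, hij, hne⟩ := hninj
    have hij' : x ^ i = x ^ j := congrArg Subtype.val hij
    rcases Nat.lt_or_gt_of_ne hne with h | h
    · refine ⟨j - i, by omega, ?_⟩
      have h1 : x ^ i * x ^ (j - i) = x ^ i * 1 := by
        rw [← pow_add, mul_one, Nat.add_sub_cancel' h.le, hij']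
      exact mul_left_cancel₀ (pow_ne_zero i hx0) h1
    · refine ⟨i - j, by omega, ?_⟩
      have h1 : x ^ j * x ^ (i - j) = x ^ j * 1 := by
        rw [← pow_add, mul_one, Nat.add_sub_cancel' h.le, hij']
      exact mul_left_cancel₀ (pow_ne_zero j hx0) h1
  obtain ⟨n, hn0, hn⟩ := hex
  obtain ⟨s, n', hpn', hnn'⟩ := Nat.exists_eq_pow_mul_and_not_dvd hn0.ne' p hM.1.ne_one
  refine ⟨n', hpn', ?_⟩
  haveI : ExpChar (Cfsg.AlgInt ⧸ M) p := ExpChar.prime hM.1
  have h2 : (x ^ n' - 1) ^ p ^ s = 0 := by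
    rw [sub_pow_expChar_pow, one_pow, ← pow_mul, mul_comm, ← hnn', hn, sub_self]
  exact sub_eq_zero.mp (pow_eq_zero_iff (pow_ne_zero s hM.1.ne_zero) |>.mp h2)

/-- The `n`-th roots of unity in `ℂ` as algebraic integers. -/
noncomputable def rootOfUnityAlgInt (z : ℂ) : Cfsg.AlgInt :=
  haveI := Classical.propDecidable (IsIntegral ℤ z)
  if h : IsIntegral ℤ z then ⟨z, h⟩ else 0

theorem rootOfUnityAlgInt_coe {z : ℂ} {n : ℕ} (hn : 0 < n) (hz : z ^ n = 1) :
    ((rootOfUnityAlgInt z : Cfsg.AlgInt) : ℂ) = z := by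
  unfold rootOfUnityAlgInt
  rw [dif_pos (isIntegral_of_pow_eq_one hn hz)]

/-- Every algebraic integer outside `M` is congruent modulo `M` to a root of unity of order prime
to `p`. -/
theorem algInt_exists_root_congr (p : ℕ) (M : Ideal Cfsg.AlgInt) (hM : Cfsg.IsPModular p M)
    (a : Cfsg.AlgInt) (ha : a ∉ M) :
    ∃ (ε : Cfsg.AlgInt) (n : ℕ), ¬ p ∣ n ∧ ε ^ n = 1 ∧ a - ε ∈ M := by
  haveI : M.IsMaximal := hM.2.1
  letI : Field (Cfsg.AlgInt ⧸ M) := Ideal.Quotient.field M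
  obtain ⟨n, hpn, hn⟩ := algInt_exists_pow_mk_eq_one p M hM a ha
  have hn0 : 0 < n := Nat.pos_of_ne_zero (fun h => hpn (h ▸ dvd_zero p))
  have hprim := Complex.isPrimitiveRoot_exp n hn0.ne'
  have hfac := X_pow_sub_one_eq_prod hn0 hprim
  have hev := congrArg (Polynomial.eval (a : ℂ)) hfac
  simp only [eval_sub, eval_pow, eval_X, eval_one, eval_prod, eval_C] at hev
  have hprod : a ^ n - 1 = ∏ ζ ∈ nthRootsFinset n (1 : ℂ), (a - rootOfUnityAlgInt ζ) := by
    apply Subtype.ext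
    push_cast
    rw [hev]
    apply Finset.prod_congr rfl
    intro ζ hζ
    rw [rootOfUnityAlgInt_coe hn0 ((mem_nthRootsFinset hn0 (1 : ℂ)).mp hζ)]
  have h3 := congrArg (Ideal.Quotient.mk M) hprod
  rw [map_sub, map_pow, hn, map_one, sub_self, map_prod] at h3
  obtain ⟨ζ, hζ, hζ0⟩ := Finset.prod_eq_zero_iff.mp h3.symm
  refine ⟨rootOfUnityAlgInt ζ, n, hpn, ?_, Ideal.Quotient.eq_zero_iff_mem.mp hζ0⟩
  apply Subtype.ext
  push_cast
  rw [rootOfUnityAlgInt_coe hn0 ((mem_nthRootsFinset hn0 (1 : ℂ)).mp hζ)]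
  exact (mem_nthRootsFinset hn0 (1 : ℂ)).mp hζ

end AlgIntMod

end Cfsg.Agent.Helper15
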