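import Mathlib
import Cfsg.Agent.Helper24.BG13V

/-!
# CALL S1390 (helper24), piece CJ (helper15, double): `g ∈ M` from uniqueness over `C_G(g z g⁻¹)`.
-/

set_option autoImplicit false

namespace Cfsg.Agent.Helper15

open Cfsg Subgroup

universe u

variable {G : Type u} [Group G] [Finite G]

/-- CJ. If `C_G(z) ≤ M` and `M` is the only maximal subgroup over `C_G(g z g⁻¹)`, then `g ∈ M`. -/
theorem bg90_mem_of_uniq_conj (hG : IsMinSimpleOddOrder G) {M : Subgroup G} (hM : IsCoatom M)
    {z g : G} (h1 : centralizer ({z} : Set G) ≤ M)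
    (h2 : ∀ L : Subgroup G, IsCoatom L → centralizer ({g * z * g⁻¹} : Set G) ≤ L → L = M) :
    g ∈ M := by
  have hL : IsCoatom (M.map (MulAut.conj g).toMonoidHom) :=
    Cfsg.Agent.Helper47.isCoatom_map_conj hM g
  have hle : centralizer ({g * z * g⁻¹} : Set G) ≤ M.map (MulAut.conj g).toMonoidHom := by
    intro c hc
    rw [mem_centralizer_iff] at hc
    have hc' : g * z * g⁻¹ * c = c * (g * z * g⁻¹) := hc _ (Set.mem_singleton _)
    have h3 : g⁻¹ * c * g ∈ centralizer ({z} : Set G) := by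
      rw [mem_centralizer_iff]
      intro y hy
      rw [Set.mem_singleton_iff] at hy
      subst hy
      have e1 : y * (g⁻¹ * c * g) = g⁻¹ * (g * y * g⁻¹ * c) * g := by group
      have e2 : g⁻¹ * c * g * y = g⁻¹ * (c * (g * y * g⁻¹)) * g := by group
      rw [e1, e2, hc']
    refine ⟨g⁻¹ * c * g, h1 h3, ?_⟩
    simp only [MulEquiv.coe_toMonoidHom, MulAut.conj_apply]
    group
  exact Cfsg.Agent.Helper24.bg13v_mem_of_map_conj_eq hG hM (h2 _ hL hle)

end Cfsg.Agent.Helper15
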