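import Mathlib
import Cfsg.Prelude.Def_Characters
import Cfsg.Agent.Helper15.CharInner

set_option autoImplicit false

namespace Cfsg.Agent.Helper15

open scoped ComplexConjugate

section Gallagher

variable {G : Type*} [Group G] [Fintype G]

theorem classInner_self_eq_zero {ψ : G → ℂ} (h : Cfsg.classInner ψ ψ = 0) : ψ = 0 := by
  unfold Cfsg.classInner at h
  have hG : (Nat.card G : ℂ) ≠ 0 := by exact_mod_cast Nat.card_pos.ne'
  rcases mul_eq_zero.mp h with h1 | h1
  · exact absurd (inv_eq_zero.mp h1) hG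
  · have h2 : ∑ g : G, Complex.normSq (ψ g) = 0 := by
      have h3 : ((∑ g : G, Complex.normSq (ψ g) : ℝ) : ℂ) = 0 := by
        rw [← h1, Complex.ofReal_sum]
        apply Finset.sum_congr rfl
        intro g _
        rw [Complex.mul_conj]
      exact_mod_cast h3
    funext g
    have h4 := (Finset.sum_eq_zero_iff_of_nonneg (fun g _ => Complex.normSq_nonneg (ψ g))).mp h2 g
      (Finset.mem_univ g)
    exact Complex.normSq_eq_zero.mp h4

/-- Induction of a product with a restricted class function. -/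
theorem indFun_mul_restrict (H : Subgroup G) (φ : H → ℂ) {χ : G → ℂ}
    (hχ : Cfsg.IsClassFunction G χ) :
    Cfsg.indFun H (fun h => φ h * χ h) = Cfsg.indFun H φ * χ := by
  funext g
  rw [Pi.mul_apply]
  unfold Cfsg.indFun
  rw [mul_assoc, Finset.sum_mul]
  congr 1
  apply Finset.sum_congr rfl
  intro x _
  by_cases hx : x⁻¹ * g * x ∈ H
  · rw [Cfsg.Agent.Helper3.extendByZero_of_mem H _ hx,
      Cfsg.Agent.Helper3.extendByZero_of_mem H _ hx]
    have h1 : χ (x⁻¹ * g * x) = χ g := by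
      have := hχ g x⁻¹
      rwa [inv_inv] at this
    rw [← h1]
  · rw [Cfsg.Agent.Helper3.extendByZero_of_not_mem H _ hx,
      Cfsg.Agent.Helper3.extendByZero_of_not_mem H _ hx, zero_mul]

/-- The function induced from an invariant function on a normal subgroup. -/
theorem indFun_of_invariant (N : Subgroup G) [hN : N.Normal] (ϑ : N → ℂ)
    (hinv : ∀ (g : G) (n : N), ϑ ⟨g * n * g⁻¹, hN.conj_mem (n : G) n.2 g⟩ = ϑ n) (g : G) :
    Cfsg.indFun N ϑ g = (N.index : ℂ) * Cfsg.extendByZero N ϑ g := by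
  unfold Cfsg.indFun
  have h1 : ∀ x : G, Cfsg.extendByZero N ϑ (x⁻¹ * g * x) = Cfsg.extendByZero N ϑ g := by
    intro x
    by_cases hg : g ∈ N
    · have hx : x⁻¹ * g * x ∈ N := by
        have := hN.conj_mem g hg x⁻¹
        rwa [inv_inv] at this
      rw [Cfsg.Agent.Helper3.extendByZero_of_mem N _ hx,
        Cfsg.Agent.Helper3.extendByZero_of_mem N _ hg]
      have h2 := hinv x⁻¹ ⟨g, hg⟩
      rw [← h2]
      congr 1
      apply Subtype.ext
      simp
    · have hx : x⁻¹ * g * x ∉ N := by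
        intro hcon
        apply hg
        have := hN.conj_mem _ hcon x
        simpa [mul_assoc] using this
      rw [Cfsg.Agent.Helper3.extendByZero_of_not_mem N _ hx,
        Cfsg.Agent.Helper3.extendByZero_of_not_mem N _ hg]
  rw [Finset.sum_congr rfl (fun x _ => h1 x), Finset.sum_const, Finset.card_univ, nsmul_eq_mul,
    ← Nat.card_eq_fintype_card, ← mul_assoc]
  congr 1
  have h3 := Subgroup.card_mul_index N
  have hN0 : (Nat.card N : ℂ) ≠ 0 := by exact_mod_cast Nat.card_pos.ne'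
  rw [← h3]
  push_cast
  field_simp

theorem restrict_indFun_of_invariant (N : Subgroup G) [hN : N.Normal] (ϑ : N → ℂ)
    (hinv : ∀ (g : G) (n : N), ϑ ⟨g * n * g⁻¹, hN.conj_mem (n : G) n.2 g⟩ = ϑ n) :
    (fun n : N => Cfsg.indFun N ϑ n) = (N.index : ℂ) • ϑ := by
  funext n
  rw [indFun_of_invariant N ϑ hinv, Cfsg.Agent.Helper3.extendByZero_coe]
  rfl

theorem classInner_indFun_self_of_invariant (N : Subgroup G) [hN : N.Normal] [Fintype N]
    (ϑ : N → ℂ)
    (hinv : ∀ (g : G) (n : N), ϑ ⟨g * n * g⁻¹, hN.conj_mem (n : G) n.2 g⟩ = ϑ n) :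
    Cfsg.classInner (Cfsg.indFun N ϑ) (Cfsg.indFun N ϑ) = (N.index : ℂ) * Cfsg.classInner ϑ ϑ := by
  rw [Cfsg.Agent.Helper3.frobenius_reciprocity N ϑ _
    (Cfsg.Agent.Helper3.indFun_isClassFunction N ϑ), restrict_indFun_of_invariant N ϑ hinv,
    classInner_smul_right, Complex.conj_natCast]

/-- A combinatorial lemma on Gram matrices with natural entries. -/
theorem nat_gram {ι : Type*} [Fintype ι] [DecidableEq ι] (e : ι → ℕ) (m : ι → ι → ℕ)
    (hm : ∀ i, e i ≠ 0 → 1 ≤ m i i)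
    (h : ∑ i, ∑ j, e i * e j * m i j = ∑ i, e i * e i) :
    ∀ i j, e i ≠ 0 → e j ≠ 0 → m i j = if i = j then 1 else 0 := by
  have hd : ∑ p : ι × ι, (if p.1 = p.2 then e p.1 * e p.1 else 0) = ∑ i, e i * e i := by
    rw [Fintype.sum_prod_type]
    apply Finset.sum_congr rfl
    intro i _
    rw [Finset.sum_ite_eq]
    simp
  have ht : ∑ p : ι × ι, e p.1 * e p.2 * m p.1 p.2 = ∑ i, e i * e i := by
    rw [Fintype.sum_prod_type]
    exact h
  have hle : ∀ p ∈ (Finset.univ : Finset (ι × ι)),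
      (if p.1 = p.2 then e p.1 * e p.1 else 0) ≤ e p.1 * e p.2 * m p.1 p.2 := by
    intro p _
    by_cases hp : p.1 = p.2
    · rw [if_pos hp, ← hp]
      by_cases he : e p.1 = 0
      · rw [he]; simp
      · exact Nat.le_mul_of_pos_right _ (hm p.1 he)
    · rw [if_neg hp]; exact Nat.zero_le _
  have heq := (Finset.sum_eq_sum_iff_of_le hle).mp (hd.trans ht.symm)
  intro i j hi hj
  have hij := heq (i, j) (Finset.mem_univ _)
  simp only at hij
  by_cases hc : i = j
  · rw [if_pos hc] at hij ⊢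
    subst hc
    have hpos : 0 < e i * e i := Nat.mul_pos (Nat.pos_of_ne_zero hi) (Nat.pos_of_ne_zero hi)
    have : e i * e i * m i i = e i * e i * 1 := by rw [mul_one]; exact hij.symm
    exact Nat.eq_of_mul_eq_mul_left hpos this
  · rw [if_neg hc] at hij ⊢
    have hpos : 0 < e i * e j := Nat.mul_pos (Nat.pos_of_ne_zero hi) (Nat.pos_of_ne_zero hj)
    rcases Nat.eq_zero_or_pos (m i j) with h0 | h0
    · exact h0
    · exfalso
      have := Nat.mul_pos hpos h0
      omega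

/-- Gallagher's theorem, core computation: if `φ` and `φ * ϑ` are invariant irreducible
characters of the normal subgroup `N` and the character `χ` of `G` extends `ϑ`, then the
products `β * χ`, for `β` an irreducible constituent of the function induced from `φ`, are
orthonormal. -/
theorem gallagher_core (N : Subgroup G) [hN : N.Normal] [Fintype N] (φ ϑ : N → ℂ)
    (hφ : Cfsg.IsIrrCharacter N φ)
    (hφinv : ∀ (g : G) (n : N), φ ⟨g * n * g⁻¹, hN.conj_mem (n : G) n.2 g⟩ = φ n)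
    (hprod : Cfsg.IsIrrCharacter N (φ * ϑ)) (χ : G → ℂ) (hχ : Cfsg.IsCharacter G χ)
    (hext : ∀ n : N, χ n = ϑ n) (β γ : Cfsg.IrrCharacter G)
    (hβ : Cfsg.classInner (Cfsg.indFun N φ) β ≠ 0)
    (hγ : Cfsg.classInner (Cfsg.indFun N φ) γ ≠ 0) :
    Cfsg.classInner ((β : G → ℂ) * χ) ((γ : G → ℂ) * χ) = if β = γ then 1 else 0 := by
  classical
  have : Fintype (Cfsg.IrrCharacter G) := Fintype.ofFinite _
  have hcl := isClassFunction_of_isChar hχ
  have hprodinv : ∀ (g : G) (n : N),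
      (φ * ϑ) ⟨g * n * g⁻¹, hN.conj_mem (n : G) n.2 g⟩ = (φ * ϑ) n := by
    intro g n
    rw [Pi.mul_apply, Pi.mul_apply, hφinv g n, ← hext, ← hext]
    congr 1
    exact hcl n g
  have hindφ : Cfsg.IsCharacter G (Cfsg.indFun N φ) :=
    Cfsg.Agent.Helper3.isCharacter_indFun N φ (isChar_of_irr hφ)
  have he : ∀ β : Cfsg.IrrCharacter G, ∃ k : ℕ, Cfsg.classInner (Cfsg.indFun N φ) β = (k : ℂ) :=
    fun β => inner_nat hindφ (isChar_of_irr β.2)
  choose e he using he
  have hmc : ∀ β γ : Cfsg.IrrCharacter G, ∃ k : ℕ,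
      Cfsg.classInner ((β : G → ℂ) * χ) ((γ : G → ℂ) * χ) = (k : ℂ) := fun β γ =>
    inner_nat (Cfsg.Agent.Helper79.isCharacter_mul (isChar_of_irr β.2) hχ)
      (Cfsg.Agent.Helper79.isCharacter_mul (isChar_of_irr γ.2) hχ)
  choose m hm using hmc
  have h1 : Cfsg.indFun N φ = ∑ β : Cfsg.IrrCharacter G, (e β : ℂ) • (β : G → ℂ) := by
    conv_lhs => rw [classFun_eq_sum (Cfsg.Agent.Helper3.indFun_isClassFunction N φ)]
    apply Finset.sum_congr rfl
    intro β _
    rw [he β]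
  have h2 : Cfsg.indFun N (φ * ϑ) =
      ∑ β : Cfsg.IrrCharacter G, (e β : ℂ) • ((β : G → ℂ) * χ) := by
    have h3 : (φ * ϑ) = fun n : N => φ n * χ n := by
      funext n
      rw [Pi.mul_apply, hext]
    rw [h3, indFun_mul_restrict N φ hcl, h1, Finset.sum_mul]
    apply Finset.sum_congr rfl
    intro β _
    rw [smul_mul_assoc]
  have h4 : Cfsg.classInner (Cfsg.indFun N (φ * ϑ)) (Cfsg.indFun N (φ * ϑ)) = (N.index : ℂ) := by
    rw [classInner_indFun_self_of_invariant N (φ * ϑ) hprodinv, irr_inner_self hprod, mul_one]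
  have h5 : Cfsg.classInner (Cfsg.indFun N φ) (Cfsg.indFun N φ) = (N.index : ℂ) := by
    rw [classInner_indFun_self_of_invariant N φ hφinv, irr_inner_self hφ, mul_one]
  have h6 : ∑ β : Cfsg.IrrCharacter G, e β * e β = N.index := by
    have h7 := classInner_eq_sum (θ := Cfsg.indFun N φ) (θ' := Cfsg.indFun N φ)
      (Cfsg.Agent.Helper3.indFun_isClassFunction N φ)
    rw [h5] at h7
    have h8 : (N.index : ℂ) = ((∑ β : Cfsg.IrrCharacter G, e β * e β : ℕ) : ℂ) := by
      rw [h7, Nat.cast_sum]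
      apply Finset.sum_congr rfl
      intro β _
      rw [he β, Complex.conj_natCast, Nat.cast_mul]
    exact_mod_cast h8.symm
  have h9 : ∑ β : Cfsg.IrrCharacter G, ∑ γ : Cfsg.IrrCharacter G, e β * e γ * m β γ =
      N.index := by
    have h10 : (N.index : ℂ) =
        ((∑ β : Cfsg.IrrCharacter G, ∑ γ : Cfsg.IrrCharacter G, e β * e γ * m β γ : ℕ) : ℂ) := by
      rw [← h4]
      conv_lhs => rw [h2]
      rw [classInner_sum_left, Nat.cast_sum]
      apply Finset.sum_congr rfl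
      intro β _
      rw [classInner_sum_right, Nat.cast_sum]
      apply Finset.sum_congr rfl
      intro γ _
      rw [classInner_smul_left, classInner_smul_right, hm β γ, Complex.conj_natCast]
      push_cast
      ring
    exact_mod_cast h10.symm
  have hχ1 : χ 1 ≠ 0 := by
    have h11 := Cfsg.Agent.Helper3.irr_apply_one_ne_zero hprod
    rw [Pi.mul_apply] at h11
    have h12 : χ ((1 : N) : G) = ϑ 1 := hext 1
    rw [OneMemClass.coe_one] at h12
    rw [h12]
    exact right_ne_zero_of_mul h11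
  have hmpos : ∀ β : Cfsg.IrrCharacter G, e β ≠ 0 → 1 ≤ m β β := by
    intro β _
    by_contra hcon
    have h13 : m β β = 0 := by omega
    have h14 := hm β β
    rw [h13, Nat.cast_zero] at h14
    have h15 := congrFun (classInner_self_eq_zero h14) 1
    rw [Pi.mul_apply, Pi.zero_apply] at h15
    rcases mul_eq_zero.mp h15 with h16 | h16
    · exact Cfsg.Agent.Helper3.irr_apply_one_ne_zero β.2 h16
    · exact hχ1 h16
  have hfin := nat_gram e m hmpos (h9.trans h6.symm) β γ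
    (by intro h0; apply hβ; rw [he β, h0, Nat.cast_zero])
    (by intro h0; apply hγ; rw [he γ, h0, Nat.cast_zero])
  rw [hm β γ, hfin]
  split_ifs <;> simp

theorem gallagher_ind_eq (N : Subgroup G) [hN : N.Normal] [Fintype N] (φ ϑ : N → ℂ)
    (χ : G → ℂ) (hχ : Cfsg.IsCharacter G χ) (hext : ∀ n : N, χ n = ϑ n)
    [Fintype (Cfsg.IrrCharacter G)] :
    Cfsg.indFun N (φ * ϑ) = ∑ γ : Cfsg.IrrCharacter G,
      Cfsg.classInner (Cfsg.indFun N φ) γ • ((γ : G → ℂ) * χ) := by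
  have hcl := isClassFunction_of_isChar hχ
  have h3 : (φ * ϑ) = fun n : N => φ n * χ n := by
    funext n
    rw [Pi.mul_apply, hext]
  rw [h3, indFun_mul_restrict N φ hcl]
  conv_lhs => rw [classFun_eq_sum (Cfsg.Agent.Helper3.indFun_isClassFunction N φ)]
  rw [Finset.sum_mul]
  apply Finset.sum_congr rfl
  intro β _
  rw [smul_mul_assoc]

/-- Gallagher: the products `β * χ` are irreducible constituents of the function induced from
`φ * ϑ`, with the same multiplicity. -/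
theorem gallagher_mul_irr (N : Subgroup G) [hN : N.Normal] [Fintype N] (φ ϑ : N → ℂ)
    (hφ : Cfsg.IsIrrCharacter N φ)
    (hφinv : ∀ (g : G) (n : N), φ ⟨g * n * g⁻¹, hN.conj_mem (n : G) n.2 g⟩ = φ n)
    (hprod : Cfsg.IsIrrCharacter N (φ * ϑ)) (χ : G → ℂ) (hχ : Cfsg.IsCharacter G χ)
    (hext : ∀ n : N, χ n = ϑ n) (β : G → ℂ) (hβ : Cfsg.IsIrrCharacter G β)
    (hβφ : Cfsg.classInner (Cfsg.indFun N φ) β ≠ 0) :
    Cfsg.IsIrrCharacter G (β * χ) ∧
      Cfsg.classInner (Cfsg.indFun N (φ * ϑ)) (β * χ) = Cfsg.classInner (Cfsg.indFun N φ) β := by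
  classical
  have : Fintype (Cfsg.IrrCharacter G) := Fintype.ofFinite _
  have hcore := gallagher_core N φ ϑ hφ hφinv hprod χ hχ hext
  constructor
  · apply isIrr_of_inner_one (Cfsg.Agent.Helper79.isCharacter_mul (isChar_of_irr hβ) hχ)
    have := hcore ⟨β, hβ⟩ ⟨β, hβ⟩ hβφ hβφ
    simpa using this
  · rw [gallagher_ind_eq N φ ϑ χ hχ hext, classInner_sum_left]
    rw [Finset.sum_eq_single (⟨β, hβ⟩ : Cfsg.IrrCharacter G)]
    · rw [classInner_smul_left]
      have := hcore ⟨β, hβ⟩ ⟨β, hβ⟩ hβφ hβφ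
      rw [if_pos rfl] at this
      rw [this, mul_one]
    · intro γ _ hγ
      rw [classInner_smul_left]
      by_cases h0 : Cfsg.classInner (Cfsg.indFun N φ) γ = 0
      · rw [h0, zero_mul]
      · have := hcore γ ⟨β, hβ⟩ h0 hβφ
        rw [if_neg hγ] at this
        rw [this, mul_zero]
    · intro h; exact absurd (Finset.mem_univ _) h

theorem gallagher_surj (N : Subgroup G) [hN : N.Normal] [Fintype N] (φ ϑ : N → ℂ)
    (hφ : Cfsg.IsIrrCharacter N φ)
    (hφinv : ∀ (g : G) (n : N), φ ⟨g * n * g⁻¹, hN.conj_mem (n : G) n.2 g⟩ = φ n)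
    (hprod : Cfsg.IsIrrCharacter N (φ * ϑ)) (χ : G → ℂ) (hχ : Cfsg.IsCharacter G χ)
    (hext : ∀ n : N, χ n = ϑ n) (ψ : G → ℂ) (hψ : Cfsg.IsIrrCharacter G ψ)
    (hψ' : Cfsg.classInner (Cfsg.indFun N (φ * ϑ)) ψ ≠ 0) :
    ∃ β : G → ℂ, Cfsg.IsIrrCharacter G β ∧ Cfsg.classInner (Cfsg.indFun N φ) β ≠ 0 ∧
      β * χ = ψ := by
  classical
  have : Fintype (Cfsg.IrrCharacter G) := Fintype.ofFinite _
  rw [gallagher_ind_eq N φ ϑ χ hχ hext, classInner_sum_left] at hψ'
  obtain ⟨γ, -, hγ⟩ := Finset.exists_ne_zero_of_sum_ne_zero hψ'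
  rw [classInner_smul_left] at hγ
  have h1 : Cfsg.classInner (Cfsg.indFun N φ) γ ≠ 0 := left_ne_zero_of_mul hγ
  have h2 : Cfsg.classInner ((γ : G → ℂ) * χ) ψ ≠ 0 := right_ne_zero_of_mul hγ
  refine ⟨γ, γ.2, h1, ?_⟩
  by_contra hne
  exact h2 (irr_inner_ne (gallagher_mul_irr N φ ϑ hφ hφinv hprod χ hχ hext γ γ.2 h1).1 hψ hne)

theorem gallagher_inj (N : Subgroup G) [hN : N.Normal] [Fintype N] (φ ϑ : N → ℂ)
    (hφ : Cfsg.IsIrrCharacter N φ)
    (hφinv : ∀ (g : G) (n : N), φ ⟨g * n * g⁻¹, hN.conj_mem (n : G) n.2 g⟩ = φ n)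
    (hprod : Cfsg.IsIrrCharacter N (φ * ϑ)) (χ : G → ℂ) (hχ : Cfsg.IsCharacter G χ)
    (hext : ∀ n : N, χ n = ϑ n) (β γ : G → ℂ) (hβ : Cfsg.IsIrrCharacter G β)
    (hγ : Cfsg.IsIrrCharacter G γ)
    (hβφ : Cfsg.classInner (Cfsg.indFun N φ) β ≠ 0)
    (hγφ : Cfsg.classInner (Cfsg.indFun N φ) γ ≠ 0) (h : β * χ = γ * χ) : β = γ := by
  by_contra hne
  have h1 := gallagher_core N φ ϑ hφ hφinv hprod χ hχ hext ⟨β, hβ⟩ ⟨γ, hγ⟩ hβφ hγφ
  have h2 := gallagher_core N φ ϑ hφ hφinv hprod χ hχ hext ⟨β, hβ⟩ ⟨β, hβ⟩ hβφ hβφ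
  rw [if_neg (fun h => hne (congrArg Subtype.val h))] at h1
  rw [if_pos rfl] at h2
  simp only at h1 h2
  rw [← h, h2] at h1
  exact one_ne_zero h1

end Gallagher

end Cfsg.Agent.Helper15
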