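import Mathlib
import Cfsg.Prelude.Def_Characters
import Cfsg.Prelude.Def_Blocks
import Cfsg.Agent.Helper15.CharInner
import Cfsg.Agent.Helper15.Gallagher
import Cfsg.Agent.Helper79.Basic
import Cfsg.Agent.Helper80.CharIrr
import Cfsg.Agent.Helper80.CharEigen

set_option autoImplicit false

namespace Cfsg.Agent.Helper15

open Cfsg
open scoped ComplexConjugate

section BergerTools

/-- Decomposition of a character into irreducible characters with natural multiplicities. -/
theorem char_decomp {T : Type*} [Group T] [Fintype T] [Fintype (IrrCharacter T)] (ψ : T → ℂ)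
    (hψ : IsCharacter T ψ) :
    ∃ m : IrrCharacter T → ℕ, (∀ φ : IrrCharacter T, classInner ψ (φ : T → ℂ) = m φ) ∧
      ψ = ∑ φ : IrrCharacter T, (m φ : ℂ) • (φ : T → ℂ) := by
  have hm : ∀ φ : IrrCharacter T, ∃ n : ℕ, classInner ψ (φ : T → ℂ) = n :=
    fun φ => inner_nat hψ (isChar_of_irr φ.2)
  choose m hm using hm
  refine ⟨m, hm, ?_⟩
  have h0 := classFun_eq_sum (isClassFunction_of_isChar hψ)
  simp only [hm] at h0
  exact h0

/-- A character containing the irreducible character `θ` with multiplicity `a` and of degree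
at most `a * θ 1` equals `a • θ`. -/
theorem char_eq_smul_of_degree_le {T : Type*} [Group T] [Fintype T] (ψ : T → ℂ)
    (hψ : IsCharacter T ψ) (θ : T → ℂ) (hθ : IsIrrCharacter T θ) (a : ℕ)
    (ha : classInner ψ θ = a) (hdeg : charDegree ψ ≤ a * charDegree θ) :
    ψ = (a : ℂ) • θ := by
  classical
  let _ : Fintype (IrrCharacter T) := Fintype.ofFinite _
  obtain ⟨m, hm, hsum⟩ := char_decomp ψ hψ
  have hma : m ⟨θ, hθ⟩ = a := by
    have := hm ⟨θ, hθ⟩
    rw [ha] at this
    exact_mod_cast this.symm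
  have hdegsum : charDegree ψ = ∑ φ : IrrCharacter T, m φ * charDegree (φ : T → ℂ) := by
    have h1 : ψ 1 = ∑ φ : IrrCharacter T, (m φ : ℂ) * (φ : T → ℂ) 1 := by
      conv_lhs => rw [hsum]
      simp [Finset.sum_apply]
    rw [Cfsg.Agent.Helper80.isCharacter_one_eq hψ] at h1
    have h2 : ((charDegree ψ : ℕ) : ℂ) =
        ((∑ φ : IrrCharacter T, m φ * charDegree (φ : T → ℂ) : ℕ) : ℂ) := by
      rw [h1]
      push_cast
      apply Finset.sum_congr rfl
      intro φ _
      rw [Cfsg.Agent.Helper80.irr_one_eq φ]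
    exact_mod_cast h2
  have hzero : ∀ φ : IrrCharacter T, φ ≠ ⟨θ, hθ⟩ → m φ = 0 := by
    intro φ hφ
    by_contra hne
    have h1 : m ⟨θ, hθ⟩ * charDegree θ + m φ * charDegree (φ : T → ℂ) ≤
        ∑ φ : IrrCharacter T, m φ * charDegree (φ : T → ℂ) := by
      rw [← Finset.add_sum_erase Finset.univ _ (Finset.mem_univ (⟨θ, hθ⟩ : IrrCharacter T))]
      apply Nat.add_le_add_left
      exact Finset.single_le_sum (f := fun φ : IrrCharacter T => m φ * charDegree (φ : T → ℂ))
        (fun _ _ => Nat.zero_le _) (Finset.mem_erase.mpr ⟨hφ, Finset.mem_univ φ⟩)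
    have h2 : 0 < m φ * charDegree (φ : T → ℂ) :=
      Nat.mul_pos (Nat.pos_of_ne_zero hne) (Cfsg.Agent.Helper80.irr_degree_pos φ)
    rw [← hdegsum, hma] at h1
    omega
  rw [hsum]
  rw [Finset.sum_eq_single (⟨θ, hθ⟩ : IrrCharacter T)]
  · rw [hma]
  · intro φ _ hφ
    rw [hzero φ hφ, Nat.cast_zero, zero_smul]
  · intro h
    exact absurd (Finset.mem_univ _) h

/-- If an additive map from class functions of `T` to functions on `S` sends irreducible
characters to nonzero characters and sends the character `ψ` to an irreducible character, then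
`ψ` is irreducible. -/
theorem isIrr_of_map_isIrr {T S : Type*} [Group T] [Group S] [Fintype T] [Fintype S]
    [Fintype (IrrCharacter T)] (Φ : (T → ℂ) → (S → ℂ))
    (hΦsum : ∀ m : IrrCharacter T → ℕ, Φ (∑ φ : IrrCharacter T, (m φ : ℂ) • (φ : T → ℂ)) =
      ∑ φ : IrrCharacter T, (m φ : ℂ) • Φ (φ : T → ℂ))
    (hΦchar : ∀ φ : IrrCharacter T, IsCharacter S (Φ (φ : T → ℂ)))
    (hΦne : ∀ φ : IrrCharacter T, Φ (φ : T → ℂ) ≠ 0)
    (ψ : T → ℂ) (hψ : IsCharacter T ψ) (h : IsIrrCharacter S (Φ ψ)) : IsIrrCharacter T ψ := by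
  classical
  obtain ⟨m, hm, hsum⟩ := char_decomp ψ hψ
  have hg : ∀ φ φ' : IrrCharacter T, ∃ n : ℕ,
      classInner (Φ (φ : T → ℂ)) (Φ (φ' : T → ℂ)) = n :=
    fun φ φ' => inner_nat (hΦchar φ) (hΦchar φ')
  choose g hg using hg
  have hψf : Φ ψ = ∑ φ : IrrCharacter T, (m φ : ℂ) • Φ (φ : T → ℂ) := by
    conv_lhs => rw [hsum]
    exact hΦsum m
  have h1 : classInner (Φ ψ) (Φ ψ) = 1 := irr_inner_self h
  rw [hψf, classInner_sum_left] at h1
  simp_rw [classInner_smul_left, classInner_sum_right, classInner_smul_right, hg] at h1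
  have h2 : ∑ φ : IrrCharacter T, ∑ φ' : IrrCharacter T, m φ * m φ' * g φ φ' = 1 := by
    have : ((∑ φ : IrrCharacter T, ∑ φ' : IrrCharacter T, m φ * m φ' * g φ φ' : ℕ) : ℂ) = 1 := by
      rw [← h1]
      push_cast
      apply Finset.sum_congr rfl
      intro φ _
      rw [Finset.mul_sum]
      apply Finset.sum_congr rfl
      intro φ' _
      rw [Complex.conj_natCast]
      ring
    exact_mod_cast this
  have hgpos : ∀ φ : IrrCharacter T, 1 ≤ g φ φ := by
    intro φ
    rw [Nat.one_le_iff_ne_zero]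
    intro h0'
    have := hg φ φ
    rw [h0', Nat.cast_zero] at this
    exact hΦne φ (classInner_self_eq_zero this)
  have h3 : ∑ φ : IrrCharacter T, m φ * m φ ≤ 1 := by
    rw [← h2]
    apply Finset.sum_le_sum
    intro φ _
    calc m φ * m φ ≤ m φ * m φ * g φ φ := Nat.le_mul_of_pos_right _ (hgpos φ)
      _ ≤ ∑ φ' : IrrCharacter T, m φ * m φ' * g φ φ' :=
        Finset.single_le_sum (f := fun φ' => m φ * m φ' * g φ φ') (fun _ _ => Nat.zero_le _)
          (Finset.mem_univ φ)
  have h4 : classInner ψ ψ = ((∑ φ : IrrCharacter T, m φ * m φ : ℕ) : ℂ) := by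
    rw [classInner_eq_sum (isClassFunction_of_isChar hψ)]
    push_cast
    apply Finset.sum_congr rfl
    intro φ _
    rw [hm, Complex.conj_natCast]
  have h5 : ∑ φ : IrrCharacter T, m φ * m φ ≠ 0 := by
    intro h0'
    have hz : ∀ φ : IrrCharacter T, m φ = 0 := by
      intro φ
      have := (Finset.sum_eq_zero_iff.mp h0') φ (Finset.mem_univ φ)
      rcases Nat.mul_eq_zero.mp this with h | h <;> exact h
    have h7 : Φ ψ = 0 := by
      rw [hψf]
      apply Finset.sum_eq_zero
      intro φ _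
      rw [hz φ, Nat.cast_zero, zero_smul]
    have h8 : (Φ ψ) 1 ≠ 0 := Cfsg.Agent.Helper80.irr_one_ne_zero ⟨_, h⟩
    rw [h7] at h8
    exact h8 rfl
  have h6 : ∑ φ : IrrCharacter T, m φ * m φ = 1 := by omega
  rw [h6, Nat.cast_one] at h4
  exact isIrr_of_inner_one hψ h4

/-- Restriction (pullback along a homomorphism) of an irreducible character to a subgroup
that covers the group modulo the kernel of the character is irreducible. -/
theorem isIrr_comp_of_ker_mul {Γ S : Type*} [Group Γ] [Group S] [Finite Γ] (f : S →* Γ)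
    {χ : Γ → ℂ} (h : IsIrrCharacter Γ χ)
    (hS : ∀ g : Γ, ∃ m : Γ, χ m = χ 1 ∧ ∃ y : S, g = m * f y) :
    IsIrrCharacter S (fun y => χ (f y)) := by
  obtain ⟨n, ρ, hρ, rfl⟩ := h
  refine ⟨n, ρ.comp f, ?_, rfl⟩
  rw [Cfsg.Agent.Helper79.isIrreducible_iff] at hρ ⊢
  refine ⟨hρ.1, fun W hW => hρ.2 W ?_⟩
  intro g v hv
  obtain ⟨m, hm, y, rfl⟩ := hS g
  have h1 : ρ m = 1 := by
    apply Cfsg.Agent.Helper80.rep_eq_one_of_char_eq ρ m
    rw [hm, Representation.char_one]
  rw [map_mul, h1, one_mul]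
  exact hW y v hv

end BergerTools

end Cfsg.Agent.Helper15
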