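import Mathlib
import Cfsg.Prelude.Def_Characters

set_option autoImplicit false

namespace Cfsg.Agent.Helper15

open MulAction

section PermChar

variable {G : Type*} [Group G]

theorem extendByZero_one_apply (H : Subgroup G) (z : G) [Decidable (z ∈ H)] :
    Cfsg.extendByZero H (fun _ => (1 : ℂ)) z = if z ∈ H then 1 else 0 := by
  unfold Cfsg.extendByZero
  by_cases h : z ∈ H
  · rw [if_pos h]
    have := Subtype.val_injective.extend_apply (fun _ : H => (1 : ℂ)) 0 ⟨z, h⟩
    exact this
  · rw [if_neg h]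
    rw [Function.extend_apply']
    · rfl
    · rintro ⟨y, hy⟩
      exact h (hy ▸ y.2)

theorem indFun_one_apply [Fintype G] (H : Subgroup G) (g : G) :
    Cfsg.indFun H (fun _ => (1 : ℂ)) g =
      (Nat.card H : ℂ)⁻¹ * (Nat.card {y : G // y⁻¹ * g * y ∈ H} : ℂ) := by
  classical
  unfold Cfsg.indFun
  congr 1
  rw [Finset.sum_congr rfl (fun y _ => extendByZero_one_apply H (y⁻¹ * g * y)),
    Finset.sum_boole, Nat.card_eq_fintype_card, Fintype.card_subtype]

theorem indFun_one_congr [Fintype G] {H H' : Subgroup G} (h : H = H') :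
    Cfsg.indFun H (fun _ => (1 : ℂ)) = Cfsg.indFun H' (fun _ => (1 : ℂ)) := by
  subst h; rfl

variable {X : Type*} [MulAction G X]

/-- The elements `y` with `y • x₀` fixed by `g` are parametrised by the fixed points in the
orbit and the stabiliser. -/
theorem card_smul_fixed (g : G) (x₀ : X) :
    Nat.card {y : G // g • (y • x₀) = y • x₀} =
      Nat.card (stabilizer G x₀) * Nat.card {z : X // z ∈ orbit G x₀ ∧ g • z = z} := by
  classical
  have hrep : ∀ z : {z : X // z ∈ orbit G x₀ ∧ g • z = z}, ∃ y : G, y • x₀ = z.1 := fun z => z.2.1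
  choose rep hrep using hrep
  rw [mul_comm, ← Nat.card_prod]
  apply Nat.card_congr
  exact {
    toFun := fun y => (⟨y.1 • x₀, ⟨y.1, rfl⟩, y.2⟩,
      ⟨(rep ⟨y.1 • x₀, ⟨y.1, rfl⟩, y.2⟩)⁻¹ * y.1, by
        rw [mem_stabilizer_iff, mul_smul, inv_smul_eq_iff, hrep]⟩)
    invFun := fun zs => ⟨rep zs.1 * zs.2.1, by
      have h1 : (rep zs.1 * zs.2.1) • x₀ = zs.1.1 := by
        rw [mul_smul, zs.2.2, hrep]
      rw [h1]; exact zs.1.2.2⟩
    left_inv := fun y => by
      apply Subtype.ext
      simp
    right_inv := fun zs => by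
      obtain ⟨z, s⟩ := zs
      have h1 : (rep z * s.1) • x₀ = z.1 := by rw [mul_smul, s.2, hrep]
      have h2 : (⟨(rep z * s.1) • x₀, ⟨rep z * s.1, rfl⟩, by rw [h1]; exact z.2.2⟩ :
          {z : X // z ∈ orbit G x₀ ∧ g • z = z}) = z := Subtype.ext h1
      apply Prod.ext
      · exact h2
      · apply Subtype.ext
        simp only
        rw [h2]
        simp }

/-- The permutation character of the stabiliser of a point counts the fixed points in the
orbit of that point. -/
theorem indFun_stabilizer_one_apply [Fintype G] (g : G) (x₀ : X) :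
    Cfsg.indFun (stabilizer G x₀) (fun _ => (1 : ℂ)) g =
      (Nat.card {z : X // z ∈ orbit G x₀ ∧ g • z = z} : ℂ) := by
  rw [indFun_one_apply]
  have h1 : Nat.card {y : G // y⁻¹ * g * y ∈ stabilizer G x₀} =
      Nat.card {y : G // g • (y • x₀) = y • x₀} := by
    apply Nat.card_congr
    apply Equiv.subtypeEquivRight
    intro y
    rw [mem_stabilizer_iff, mul_smul, mul_smul, inv_smul_eq_iff]
  rw [h1, card_smul_fixed, Nat.cast_mul, ← mul_assoc, inv_mul_cancel₀, one_mul]
  exact Nat.cast_ne_zero.mpr Nat.card_pos.ne'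

/-- The permutation character on the cosets of `H` counts fixed cosets. -/
theorem indFun_one_eq_card_fixedBy [Fintype G] (H : Subgroup G) (g : G) :
    Cfsg.indFun H (fun _ => (1 : ℂ)) g = (Nat.card (fixedBy (G ⧸ H) g) : ℂ) := by
  have h1 := indFun_stabilizer_one_apply g ((1 : G) : G ⧸ H)
  rw [indFun_one_congr (MulAction.stabilizer_quotient H)] at h1
  rw [h1]
  congr 1
  apply Nat.card_congr
  apply Equiv.subtypeEquivRight
  intro q
  rw [orbit_eq_univ]
  simp [mem_fixedBy]

/-- The number of fixed points of `g` on a finite `G`-set is the sum over the orbits of the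
permutation characters of the stabilisers of chosen representatives. -/
theorem card_fixed_eq_sum_indFun [Fintype G] [Finite X] (g : G)
    [Fintype (orbitRel.Quotient G X)]
    (rep : orbitRel.Quotient G X → X) (hrep : ∀ ω, (Quotient.mk'' (rep ω) : orbitRel.Quotient G X) = ω) :
    (Nat.card {z : X // g • z = z} : ℂ) =
      ∑ ω : orbitRel.Quotient G X, Cfsg.indFun (stabilizer G (rep ω)) (fun _ => (1 : ℂ)) g := by
  have hmem : ∀ (z : X) (ω : orbitRel.Quotient G X),
      z ∈ orbit G (rep ω) ↔ (Quotient.mk'' z : orbitRel.Quotient G X) = ω := by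
    intro z ω
    constructor
    · intro h
      rw [← hrep ω]
      exact Quotient.sound' ((orbitRel_apply).mpr h)
    · intro h
      rw [← hrep ω] at h
      exact (orbitRel_apply).mp (Quotient.exact' h)
  have h1 : Nat.card {z : X // g • z = z} =
      Nat.card (Σ ω : orbitRel.Quotient G X, {z : X // z ∈ orbit G (rep ω) ∧ g • z = z}) := by
    apply Nat.card_congr
    exact {
      toFun := fun z => ⟨Quotient.mk'' z.1, z.1, (hmem _ _).mpr rfl, z.2⟩
      invFun := fun w => ⟨w.2.1, w.2.2.2⟩
      left_inv := fun z => rfl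
      right_inv := fun w => by
        apply Sigma.subtype_ext
        · exact (hmem _ _).mp w.2.2.1
        · rfl }
  rw [h1, Nat.card_sigma, Nat.cast_sum]
  apply Finset.sum_congr rfl
  intro ω _
  rw [indFun_stabilizer_one_apply]

/-- Mackey's formula for the product of two permutation characters. -/
theorem indFun_one_mul_indFun_one [Fintype G] (H K : Subgroup G) :
    ∃ a : Subgroup G → ℕ, (∀ U, a U ≠ 0 → U ≤ H) ∧
      Cfsg.indFun H (fun _ => (1 : ℂ)) * Cfsg.indFun K (fun _ => (1 : ℂ)) =
        ∑ U : Subgroup G, (a U : ℂ) • Cfsg.indFun U (fun _ => (1 : ℂ)) := by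
  classical
  haveI : Fintype (orbitRel.Quotient G ((G ⧸ H) × (G ⧸ K))) := Fintype.ofFinite _
  -- representatives with first coordinate the trivial coset
  have hex : ∀ ω : orbitRel.Quotient G ((G ⧸ H) × (G ⧸ K)), ∃ z : (G ⧸ H) × (G ⧸ K),
      (Quotient.mk'' z : orbitRel.Quotient G ((G ⧸ H) × (G ⧸ K))) = ω ∧
        z.1 = ((1 : G) : G ⧸ H) := by
    intro ω
    induction ω using Quotient.inductionOn' with
    | h z₀ =>
      obtain ⟨a, ha⟩ := QuotientGroup.mk_surjective z₀.1
      refine ⟨a⁻¹ • z₀, ?_, ?_⟩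
      · exact Quotient.sound' ((orbitRel_apply).mpr ⟨a⁻¹, rfl⟩)
      · change a⁻¹ • z₀.1 = _
        rw [← ha, MulAction.Quotient.smul_mk]
        simp
  choose rep hrep1 hrep2 using hex
  have hstab : ∀ ω, stabilizer G (rep ω) ≤ H := by
    intro ω s hs
    have h1 : s • (rep ω).1 = (rep ω).1 := congrArg Prod.fst (mem_stabilizer_iff.mp hs)
    rw [hrep2 ω, MulAction.Quotient.smul_mk, QuotientGroup.eq] at h1
    simpa using h1
  refine ⟨fun U => (Finset.univ.filter (fun ω => stabilizer G (rep ω) = U)).card, ?_, ?_⟩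
  · intro U hU
    obtain ⟨ω, hω⟩ := Finset.card_pos.mp (Nat.pos_of_ne_zero hU)
    rw [Finset.mem_filter] at hω
    rw [← hω.2]
    exact hstab ω
  · funext g
    rw [Pi.mul_apply, indFun_one_eq_card_fixedBy, indFun_one_eq_card_fixedBy, ← Nat.cast_mul,
      ← Nat.card_prod]
    have h2 : Nat.card (fixedBy (G ⧸ H) g × fixedBy (G ⧸ K) g) =
        Nat.card {z : (G ⧸ H) × (G ⧸ K) // g • z = z} := by
      apply Nat.card_congr
      exact {
        toFun := fun w => ⟨(w.1.1, w.2.1), Prod.ext w.1.2 w.2.2⟩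
        invFun := fun z => (⟨z.1.1, congrArg Prod.fst z.2⟩, ⟨z.1.2, congrArg Prod.snd z.2⟩)
        left_inv := fun w => rfl
        right_inv := fun z => rfl }
    rw [h2, card_fixed_eq_sum_indFun g rep hrep1, Finset.sum_apply]
    rw [← Finset.sum_fiberwise Finset.univ (fun ω => stabilizer G (rep ω))
      (fun ω => Cfsg.indFun (stabilizer G (rep ω)) (fun _ => (1 : ℂ)) g)]
    apply Finset.sum_congr rfl
    intro U _
    rw [Pi.smul_apply, smul_eq_mul]
    rw [Finset.sum_congr rfl (fun ω hω => by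
      rw [(Finset.mem_filter.mp hω).2] :
      ∀ ω ∈ Finset.univ.filter (fun ω => stabilizer G (rep ω) = U),
        Cfsg.indFun (stabilizer G (rep ω)) (fun _ => (1 : ℂ)) g =
          Cfsg.indFun U (fun _ => (1 : ℂ)) g)]
    rw [Finset.sum_const, nsmul_eq_mul]

end PermChar

end Cfsg.Agent.Helper15
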