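import Mathlib
import Cfsg.Prelude.Def_Characters
import Cfsg.Agent.Helper15.PermChar

set_option autoImplicit false

namespace Cfsg.Agent.Helper15

open MulAction

section QuasiElem

variable {G : Type*} [Group G]

/-- The `p`-quasi-elementary predicate used by the statements. -/
def IsQE (p : ℕ) (H : Subgroup G) : Prop :=
  ∃ C : Subgroup G, C ≤ H ∧ H ≤ Subgroup.normalizer (C : Set G) ∧ IsCyclic C ∧
    Nat.Coprime (Nat.card C) p ∧ ∃ k : ℕ, C.relIndex H = p ^ k

/-- In a group `H` with a normal subgroup `C` of `p`-power index, the elements of order prime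
to `p` lie in `C`. -/
theorem mem_of_coprime_orderOf_of_relIndex {p : ℕ} {C H : Subgroup G} (hCH : C ≤ H)
    (hHN : H ≤ Subgroup.normalizer (C : Set G)) {k : ℕ} (hk : C.relIndex H = p ^ k) {h : G}
    (hh : h ∈ H) (hcop : Nat.Coprime (orderOf h) p) : h ∈ C := by
  have : (C.subgroupOf H).Normal := (Subgroup.normal_subgroupOf_iff_le_normalizer hCH).mpr hHN
  have h1 := Subgroup.pow_index_mem (C.subgroupOf H) (⟨h, hh⟩ : H)
  have h2 : h ^ (p ^ k) ∈ C := by
    rw [← hk]
    exact h1
  obtain ⟨j, hj⟩ := exists_pow_eq_self_of_coprime (x := h) (n := p ^ k)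
    (Nat.Coprime.pow_left k hcop.symm)
  rw [← hj]
  exact pow_mem h2 j

theorem smul_mk_eq_iff (H : Subgroup G) (c y : G) :
    c • (y : G ⧸ H) = (y : G ⧸ H) ↔ y⁻¹ * c * y ∈ H := by
  rw [MulAction.Quotient.smul_mk, eq_comm, QuotientGroup.eq, smul_eq_mul, mul_assoc]

/-- The number of cosets of `H` fixed by a generator of the cyclic normal `p'`-subgroup `C`. -/
theorem card_fixedBy_gen_eq_relIndex [Finite G] {p : ℕ} {C H : Subgroup G} (hCH : C ≤ H)
    (hHN : H ≤ Subgroup.normalizer (C : Set G)) {k : ℕ} (hk : C.relIndex H = p ^ k) (c : G)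
    (hc : C = Subgroup.zpowers c) (hcop : Nat.Coprime (Nat.card C) p) :
    Nat.card (fixedBy (G ⧸ H) c) = H.relIndex (Subgroup.normalizer (C : Set G)) := by
  have hcC : c ∈ C := by rw [hc]; exact Subgroup.mem_zpowers c
  have hset : (QuotientGroup.mk ⁻¹' (fixedBy (G ⧸ H) c) : Set G) =
      (Subgroup.normalizer (C : Set G) : Set G) := by
    ext y
    rw [Set.mem_preimage, mem_fixedBy, smul_mk_eq_iff]
    constructor
    · intro hy
      have hord : orderOf (y⁻¹ * c * y) = orderOf c := by
        have := orderOf_injective (MulAut.conj y⁻¹).toMonoidHom (MulAut.conj y⁻¹).injective c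
        simpa using this
      have hyC : y⁻¹ * c * y ∈ C := by
        apply mem_of_coprime_orderOf_of_relIndex hCH hHN hk hy
        rw [hord, ← Nat.card_zpowers, ← hc]
        exact hcop
      have hyinv : y⁻¹ ∈ Subgroup.normalizer (C : Set G) := by
        apply Subgroup.mem_normalizer_fintype
        intro n hn
        have hn' : n ∈ Subgroup.zpowers c := by rw [← hc]; exact hn
        obtain ⟨i, rfl⟩ := Subgroup.mem_zpowers_iff.mp hn'
        have : y⁻¹ * c ^ i * y⁻¹⁻¹ = (y⁻¹ * c * y) ^ i := by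
          rw [inv_inv]
          have := (MulAut.conj y⁻¹).toMonoidHom.map_zpow c i
          simpa using this
        rw [this]
        exact zpow_mem hyC i
      have := inv_mem hyinv
      rwa [inv_inv] at this
    · intro hy
      exact hCH ((Subgroup.mem_normalizer_iff''.mp hy c).mp hcC)
  have h1 : Nat.card (Subgroup.normalizer (C : Set G)) =
      Nat.card H * Nat.card (fixedBy (G ⧸ H) c) := by
    rw [← Nat.card_prod]
    rw [← Nat.card_congr (QuotientGroup.preimageMkEquivSubgroupProdSet H (fixedBy (G ⧸ H) c))]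
    rw [hset]
    rfl
  have h2 : Nat.card H * H.relIndex (Subgroup.normalizer (C : Set G)) =
      Nat.card (Subgroup.normalizer (C : Set G)) := by
    rw [← Subgroup.relIndex_bot_left, ← Subgroup.relIndex_bot_left]
    exact Subgroup.relIndex_mul_relIndex _ _ _ bot_le hHN
  have h3 : 0 < Nat.card H := Nat.card_pos
  rw [h1] at h2
  exact (Nat.eq_of_mul_eq_mul_left h3 h2).symm

/-- The action of a subgroup commuting with `c` on the fixed points of `c`. -/
@[reducible] def fixedByAction (X : Type*) [MulAction G X] (c : G) (K : Subgroup G)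
    (hK : ∀ k ∈ K, Commute k c) : MulAction K (fixedBy X c) where
  smul k f := ⟨k.1 • f.1, by
    rw [mem_fixedBy, ← mul_smul, ← (hK k.1 k.2).eq, mul_smul, f.2]⟩
  one_smul f := Subtype.ext (one_smul G f.1)
  mul_smul a b f := Subtype.ext (mul_smul a.1 b.1 f.1)

/-- If `c` and `u` commute, `⟨u⟩` is a `p`-group and `x` generates the same subgroup as
`c` and `u` together, then the numbers of fixed points of `x` and of `c` are congruent. -/
theorem card_fixedBy_modEq {X : Type*} [MulAction G X] [Finite X] {p : ℕ} [Fact p.Prime]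
    (x c u : G) (hcu : Commute u c) (hu : IsPGroup p (Subgroup.zpowers u))
    (hc : c ∈ Subgroup.zpowers x) (hux : u ∈ Subgroup.zpowers x)
    (hx : x ∈ Subgroup.zpowers c ⊔ Subgroup.zpowers u) :
    Nat.card (fixedBy X c) ≡ Nat.card (fixedBy X x) [MOD p] := by
  have hK : ∀ k ∈ Subgroup.zpowers u, Commute k c := by
    intro k hk
    obtain ⟨i, rfl⟩ := Subgroup.mem_zpowers_iff.mp hk
    exact hcu.zpow_left i
  letI := fixedByAction X c (Subgroup.zpowers u) hK
  have h1 := hu.card_modEq_card_fixedPoints (fixedBy X c)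
  have h2 : Nat.card (fixedPoints (Subgroup.zpowers u) (fixedBy X c)) = Nat.card (fixedBy X x) := by
    apply Nat.card_congr
    refine {
      toFun := fun f => ⟨f.1.1, ?_⟩
      invFun := fun z => ⟨⟨z.1, ?_⟩, ?_⟩
      left_inv := fun f => rfl
      right_inv := fun z => rfl }
    · have hcs : c ∈ stabilizer G f.1.1 := f.1.2
      have hus : u ∈ stabilizer G f.1.1 := by
        have := f.2 ⟨u, Subgroup.mem_zpowers u⟩
        exact congrArg Subtype.val this
      have : Subgroup.zpowers c ⊔ Subgroup.zpowers u ≤ stabilizer G f.1.1 :=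
        sup_le ((Subgroup.zpowers_le).mpr hcs) ((Subgroup.zpowers_le).mpr hus)
      exact this hx
    · have hxs : x ∈ stabilizer G z.1 := z.2
      exact ((Subgroup.zpowers_le).mpr hxs) hc
    · intro k
      apply Subtype.ext
      have hxs : x ∈ stabilizer G z.1 := z.2
      exact ((Subgroup.zpowers_le).mpr hxs) ((Subgroup.zpowers_le).mpr hux k.2)
  rw [h2] at h1
  exact h1

/-- For every element `x` of a finite group and every prime `p` there is a `p`-quasi-elementary
subgroup `H` such that the number of cosets of `H` fixed by `x` is prime to `p`. -/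
theorem exists_isQE_not_dvd [Finite G] (x : G) {p : ℕ} (hp : p.Prime) :
    ∃ H : Subgroup G, IsQE p H ∧ ¬ p ∣ Nat.card (fixedBy (G ⧸ H) x) := by
  haveI := Fact.mk hp
  obtain ⟨a, m, hm, ho⟩ := Nat.exists_eq_pow_mul_and_not_dvd (orderOf_pos x).ne' p hp.ne_one
  have hcm : (x ^ (p ^ a)) ^ m = 1 := by rw [← pow_mul, ← ho, pow_orderOf_eq_one]
  have hupa : (x ^ m) ^ (p ^ a) = 1 := by rw [← pow_mul, mul_comm, ← ho, pow_orderOf_eq_one]
  obtain ⟨c, hc⟩ : ∃ c, c = x ^ (p ^ a) := ⟨_, rfl⟩
  obtain ⟨u, hu⟩ : ∃ u, u = x ^ m := ⟨_, rfl⟩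
  rw [← hc] at hcm
  rw [← hu] at hupa
  obtain ⟨C, hC⟩ : ∃ C : Subgroup G, C = Subgroup.zpowers c := ⟨_, rfl⟩
  obtain ⟨N, hN⟩ : ∃ N : Subgroup G, N = Subgroup.normalizer (C : Set G) := ⟨_, rfl⟩
  have hcardC : Nat.Coprime (Nat.card C) p := by
    rw [hC, Nat.card_zpowers]
    exact Nat.Coprime.coprime_dvd_left (orderOf_dvd_of_pow_eq_one hcm)
      ((Nat.Prime.coprime_iff_not_dvd hp).mpr hm).symm
  have hxc : Commute x c := by rw [hc]; exact (Commute.refl x).pow_right _
  have hcu : Commute u c := by rw [hu]; exact hxc.pow_left _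
  have hCN : C ≤ N := by rw [hN]; exact Subgroup.le_normalizer
  have hxN : x ∈ N := by
    rw [hN]
    apply Subgroup.centralizer_le_normalizer
    rw [Subgroup.mem_centralizer_iff]
    intro h hh
    have hh' : h ∈ Subgroup.zpowers c := by rw [← hC]; exact hh
    obtain ⟨i, rfl⟩ := Subgroup.mem_zpowers_iff.mp hh'
    exact ((hxc.zpow_right i).eq).symm
  have huN : u ∈ N := by rw [hu]; exact pow_mem hxN m
  have hQ : IsPGroup p (Subgroup.zpowers u) := by
    apply IsPGroup.of_card (n := (Nat.factorization (orderOf u)) p)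
    rw [Nat.card_zpowers]
    obtain ⟨j, hj, hj2⟩ := (Nat.dvd_prime_pow hp).mp (orderOf_dvd_of_pow_eq_one hupa)
    rw [hj2]
    simp [hp.factorization_pow]
  have hQ' : IsPGroup p ((Subgroup.zpowers u).subgroupOf N) := by
    exact hQ.comap_subtype
  obtain ⟨P, hP⟩ := hQ'.exists_le_sylow
  obtain ⟨PG, hPG⟩ : ∃ PG : Subgroup G, PG = (P : Subgroup N).map N.subtype := ⟨_, rfl⟩
  have hPGN : PG ≤ N := by rw [hPG]; exact Subgroup.map_subtype_le _
  have huP : u ∈ PG := by
    rw [hPG]
    refine ⟨⟨u, huN⟩, hP ?_, rfl⟩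
    exact Subgroup.mem_subgroupOf.mpr (Subgroup.mem_zpowers u)
  have hPGsub : PG.subgroupOf N = P := by
    rw [hPG]
    exact Subgroup.comap_map_eq_self_of_injective (Subgroup.subtype_injective N) _
  obtain ⟨H, hH⟩ : ∃ H : Subgroup G, H = C ⊔ PG := ⟨_, rfl⟩
  have hCH : C ≤ H := by rw [hH]; exact le_sup_left
  have hPH : PG ≤ H := by rw [hH]; exact le_sup_right
  have hHN : H ≤ N := by rw [hH]; exact sup_le hCN hPGN
  -- the index of `C` in `H`
  have hidx : ∃ k : ℕ, C.relIndex H = p ^ k := by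
    have h1 : C.relIndex H = (C.subgroupOf N).relIndex (H.subgroupOf N) :=
      (Subgroup.relIndex_subgroupOf hHN).symm
    have h2 : H.subgroupOf N = C.subgroupOf N ⊔ P := by
      rw [hH, Subgroup.subgroupOf_sup hCN hPGN, hPGsub]
    haveI : (C.subgroupOf N).Normal := by
      rw [hN]; exact Subgroup.normal_in_normalizer
    rw [h1, h2, Subgroup.relIndex_sup_left]
    exact P.isPGroup'.index _
  obtain ⟨k, hk⟩ := hidx
  refine ⟨H, ⟨C, hCH, hN ▸ hHN, ?_, hcardC, k, hk⟩, ?_⟩
  · rw [hC]; infer_instance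
  · -- fixed points
    have h1 : Nat.card (fixedBy (G ⧸ H) c) = H.relIndex N := by
      rw [hN]
      exact card_fixedBy_gen_eq_relIndex hCH (hN ▸ hHN) hk c hC hcardC
    have h2 : ¬ p ∣ H.relIndex N := by
      intro hdvd
      have h3 : PG.relIndex H * H.relIndex N = PG.relIndex N :=
        Subgroup.relIndex_mul_relIndex _ _ _ hPH hHN
      have h4 : PG.relIndex N = (P : Subgroup N).index := by
        rw [Subgroup.relIndex, hPGsub]
      have h5 : p ∣ (P : Subgroup N).index := by
        rw [← h4, ← h3]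
        exact Dvd.dvd.mul_left hdvd _
      exact P.not_dvd_index h5
    have hcx : c ∈ Subgroup.zpowers x := by rw [hc]; exact Subgroup.npow_mem_zpowers x _
    have hux : u ∈ Subgroup.zpowers x := by rw [hu]; exact Subgroup.npow_mem_zpowers x _
    have hxcu : x ∈ Subgroup.zpowers c ⊔ Subgroup.zpowers u := by
      have hcop : Nat.Coprime (p ^ a) m :=
        Nat.Coprime.pow_left a ((Nat.Prime.coprime_iff_not_dvd hp).mpr hm)
      have hb := Nat.gcd_eq_gcd_ab (p ^ a) m
      rw [hcop] at hb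
      have hx1 : x = c ^ (Nat.gcdA (p ^ a) m) * u ^ (Nat.gcdB (p ^ a) m) := by
        rw [hc, hu, ← zpow_natCast, ← zpow_natCast, ← zpow_mul, ← zpow_mul, ← zpow_add, ← hb]
        simp
      rw [hx1]
      exact mul_mem (Subgroup.mem_sup_left (zpow_mem (Subgroup.mem_zpowers c) _))
        (Subgroup.mem_sup_right (zpow_mem (Subgroup.mem_zpowers u) _))
    have h6 := card_fixedBy_modEq (X := G ⧸ H) x c u hcu hQ hcx hux hxcu
    rw [h1] at h6
    intro hdvd
    exact h2 ((Nat.ModEq.dvd_iff h6 (dvd_refl p)).mpr hdvd)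

end QuasiElem

end Cfsg.Agent.Helper15
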