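import Mathlib
import Cfsg.Prelude.Def_Characters
import Cfsg.Agent.Helper15.PermChar
import Cfsg.Agent.Helper15.QuasiElem

set_option autoImplicit false

namespace Cfsg.Agent.Helper15

open MulAction

section Solomon

variable {G : Type*} [Group G]

/-- Subgroups of `p`-quasi-elementary groups are `p`-quasi-elementary. -/
theorem isQE_of_le {p : ℕ} (hp : p.Prime) {U H : Subgroup G} (hUH : U ≤ H)
    (hH : IsQE p H) : IsQE p U := by
  obtain ⟨C, hCH, hHN, hcyc, hcop, k, hk⟩ := hH
  refine ⟨C ⊓ U, inf_le_right, ?_, ?_, ?_, ?_⟩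
  · intro g hg
    have hgN := hHN (hUH hg)
    rw [Subgroup.mem_normalizer_iff] at hgN ⊢
    intro h
    constructor
    · intro h12
      obtain ⟨h1, h2⟩ := Subgroup.mem_inf.mp h12
      exact Subgroup.mem_inf.mpr ⟨(hgN h).mp h1, U.mul_mem (U.mul_mem hg h2) (U.inv_mem hg)⟩
    · intro h12
      obtain ⟨h1, h2⟩ := Subgroup.mem_inf.mp h12
      refine Subgroup.mem_inf.mpr ⟨(hgN h).mpr h1, ?_⟩
      have h3 := U.mul_mem (U.mul_mem (U.inv_mem hg) h2) hg
      simpa [mul_assoc] using h3
  · exact Subgroup.isCyclic_of_le (inf_le_left : C ⊓ U ≤ C)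
  · exact Nat.Coprime.coprime_dvd_left (Subgroup.card_dvd_of_le inf_le_left) hcop
  · rw [Subgroup.inf_relIndex_right]
    have : (C.subgroupOf H).Normal :=
      (Subgroup.normal_subgroupOf_iff_le_normalizer hCH).mpr hHN
    have h1 : (C.subgroupOf H).relIndex (U.subgroupOf H) = C.relIndex U :=
      Subgroup.relIndex_subgroupOf hUH
    have h2 := Subgroup.relIndex_dvd_index_of_normal (C.subgroupOf H) (U.subgroupOf H)
    rw [h1] at h2
    have h3 : C.relIndex U ∣ p ^ k := hk ▸ h2
    obtain ⟨j, -, hj⟩ := (Nat.dvd_prime_pow hp).mp h3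
    exact ⟨j, hj⟩

/-- The integer valued permutation character on the cosets of `H`. -/
noncomputable def permFun (H : Subgroup G) : G → ℤ :=
  fun g => (Nat.card (fixedBy (G ⧸ H) g) : ℤ)

theorem indFun_one_eq_permFun [Fintype G] (H : Subgroup G) (g : G) :
    Cfsg.indFun H (fun _ => (1 : ℂ)) g = (permFun H g : ℂ) := by
  rw [indFun_one_eq_card_fixedBy]
  simp [permFun]

theorem permFun_mul [Fintype G] [Fintype (Subgroup G)] (H K : Subgroup G) :
    ∃ a : Subgroup G → ℕ, (∀ U, a U ≠ 0 → U ≤ H) ∧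
      permFun H * permFun K = ∑ U : Subgroup G, (a U : ℤ) • permFun U := by
  obtain ⟨a, ha, h⟩ := indFun_one_mul_indFun_one H K
  refine ⟨a, ha, ?_⟩
  funext g
  have hg := congrFun h g
  rw [Pi.mul_apply, indFun_one_eq_permFun, indFun_one_eq_permFun, Finset.sum_apply] at hg
  rw [Pi.mul_apply, Finset.sum_apply]
  apply Int.cast_injective (α := ℂ)
  rw [Int.cast_mul, hg, Int.cast_sum]
  refine Finset.sum_congr (by ext; simp) ?_
  intro U _
  rw [Pi.smul_apply, Pi.smul_apply, indFun_one_eq_permFun]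
  simp

/-- Expanding a product of translates by scalars modulo a multiplicatively closed submodule. -/
theorem prod_sub_smul_one_mem {R : Type*} [CommRing R] (M : Submodule ℤ R)
    (hM : ∀ f g, f ∈ M → g ∈ M → f * g ∈ M) {ι : Type*} (f : ι → R) (c : ι → ℤ)
    (hf : ∀ i, f i ∈ M) (s : Finset ι) :
    ∏ i ∈ s, (f i - c i • (1 : R)) - (∏ i ∈ s, (- c i)) • (1 : R) ∈ M := by
  classical
  induction s using Finset.induction_on with
  | empty => simp
  | insert b s hb ih =>
    rw [Finset.prod_insert hb, Finset.prod_insert hb]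
    have h1 : (f b - c b • (1 : R)) * ∏ i ∈ s, (f i - c i • (1 : R)) -
          (-c b * ∏ i ∈ s, -c i) • (1 : R) =
        f b * (∏ i ∈ s, (f i - c i • (1 : R)) - (∏ i ∈ s, (- c i)) • (1 : R)) +
          (∏ i ∈ s, -c i) • f b -
          c b • (∏ i ∈ s, (f i - c i • (1 : R)) - (∏ i ∈ s, (- c i)) • (1 : R)) := by
      simp only [zsmul_eq_mul]
      push_cast
      ring
    rw [h1]
    exact sub_mem (add_mem (hM _ _ (hf b) ih) (M.smul_mem _ (hf b))) (M.smul_mem _ ih)

/-- Solomon's induction theorem, local form: a constant prime to `p` is an integral combination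
of permutation characters of `p`-quasi-elementary subgroups. -/
theorem exists_solomon [Fintype G] [Fintype (Subgroup G)] {p : ℕ} (hp : p.Prime) :
    ∃ (m : ℤ) (a : Subgroup G → ℤ), ¬ (p : ℤ) ∣ m ∧ (∀ H, a H ≠ 0 → IsQE p H) ∧
      (fun _ : G => (m : ℂ)) =
        ∑ H : Subgroup G, (a H : ℂ) • Cfsg.indFun H (fun _ => (1 : ℂ)) := by
  classical
  obtain ⟨v, hv⟩ : ∃ v : Subgroup G → (G → ℤ), v = fun H => if IsQE p H then permFun H else 0 :=
    ⟨_, rfl⟩
  have hvQE : ∀ H, IsQE p H → v H = permFun H := by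
    intro H hH; rw [hv]; exact if_pos hH
  obtain ⟨M, hMdef⟩ : ∃ M : Submodule ℤ (G → ℤ), M = Submodule.span ℤ (Set.range v) := ⟨_, rfl⟩
  have hvM : ∀ H, v H ∈ M := fun H => by
    rw [hMdef]; exact Submodule.subset_span ⟨H, rfl⟩
  have hmul : ∀ f g, f ∈ M → g ∈ M → f * g ∈ M := by
    intro f g hf hg
    rw [hMdef] at hf hg
    induction hf, hg using Submodule.span_induction₂ with
    | mem_mem x y hx hy =>
      obtain ⟨H, rfl⟩ := hx
      obtain ⟨K, rfl⟩ := hy
      by_cases hH : IsQE p H
      · by_cases hK : IsQE p K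
        · rw [hvQE H hH, hvQE K hK]
          obtain ⟨a, ha, h⟩ := permFun_mul H K
          rw [h]
          apply sum_mem
          intro U _
          by_cases hU : a U = 0
          · rw [hU]; simp
          · rw [← hvQE U (isQE_of_le hp (ha U hU) hH)]
            exact M.smul_mem _ (hvM U)
        · have : v K = 0 := by rw [hv]; exact if_neg hK
          rw [this, mul_zero]; exact M.zero_mem
      · have : v H = 0 := by rw [hv]; exact if_neg hH
        rw [this, zero_mul]; exact M.zero_mem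
    | zero_left y hy => rw [zero_mul]; exact M.zero_mem
    | zero_right x hx => rw [mul_zero]; exact M.zero_mem
    | add_left x y z hx hy hz h1 h2 => rw [add_mul]; exact add_mem h1 h2
    | add_right x y z hx hy hz h1 h2 => rw [mul_add]; exact add_mem h1 h2
    | smul_left r x y hx hy h => rw [smul_mul_assoc]; exact M.smul_mem _ h
    | smul_right r x y hx hy h => rw [mul_smul_comm]; exact M.smul_mem _ h
  choose Hx hQE hnd using (fun x : G => exists_isQE_not_dvd x hp)
  have key := prod_sub_smul_one_mem M hmul (fun x => permFun (Hx x))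
    (fun x => permFun (Hx x) x) (fun x => by rw [← hvQE _ (hQE x)]; exact hvM _) Finset.univ
  have hzero : ∏ x : G, (permFun (Hx x) - permFun (Hx x) x • (1 : G → ℤ)) = 0 := by
    funext w
    rw [Finset.prod_apply]
    apply Finset.prod_eq_zero (Finset.mem_univ w)
    simp
  rw [hzero, zero_sub] at key
  have key2 := M.neg_mem key
  rw [neg_neg, hMdef] at key2
  obtain ⟨c, hc⟩ := (Submodule.mem_span_range_iff_exists_fun ℤ).mp key2
  refine ⟨∏ x : G, -permFun (Hx x) x, fun H => if IsQE p H then c H else 0, ?_, ?_, ?_⟩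
  · intro hdvd
    obtain ⟨x, -, hx⟩ := (Nat.prime_iff_prime_int.mp hp).dvd_finsetProd_iff _ |>.mp hdvd
    rw [dvd_neg] at hx
    exact hnd x (Int.natCast_dvd_natCast.mp hx)
  · intro H hH
    by_contra hcon
    exact hH (if_neg hcon)
  · funext g
    have hg := congrFun hc g
    rw [Finset.sum_apply] at hg
    rw [Finset.sum_apply]
    have hg2 : ((∏ x : G, -permFun (Hx x) x : ℤ) : ℂ) =
        ((∑ H : Subgroup G, (c H • v H) g : ℤ) : ℂ) := by
      rw [hg]; simp
    rw [hg2, Int.cast_sum]
    apply Finset.sum_congr rfl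
    intro H _
    rw [Pi.smul_apply, Pi.smul_apply, indFun_one_eq_permFun]
    show ((c H • v H g : ℤ) : ℂ) =
      ((if IsQE p H then c H else 0 : ℤ) : ℂ) • ((permFun H g : ℤ) : ℂ)
    by_cases hH : IsQE p H
    · rw [if_pos hH, hvQE H hH]; simp
    · rw [if_neg hH]
      have : v H = 0 := by rw [hv]; exact if_neg hH
      rw [this]; simp

end Solomon

end Cfsg.Agent.Helper15
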