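import Mathlib
import Cfsg.Prelude.Def_Characters

set_option autoImplicit false

namespace Cfsg.Agent.Helper15

section LinChar

theorem trace_mul_fin_one (A B : (Fin 1 → ℂ) →ₗ[ℂ] (Fin 1 → ℂ)) :
    LinearMap.trace ℂ _ (A * B) = LinearMap.trace ℂ _ A * LinearMap.trace ℂ _ B := by
  rw [LinearMap.trace_eq_matrix_trace ℂ (Pi.basisFun ℂ (Fin 1)),
    LinearMap.trace_eq_matrix_trace ℂ (Pi.basisFun ℂ (Fin 1)),
    LinearMap.trace_eq_matrix_trace ℂ (Pi.basisFun ℂ (Fin 1)), LinearMap.toMatrix_mul]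
  simp [Matrix.trace_fin_one, Matrix.mul_apply]

/-- A character of degree one is a homomorphism to the units of `ℂ`. -/
theorem linChar_exists_hom {G : Type*} [Group G] (lam : G → ℂ)
    (h : Cfsg.IsCharacter G lam ∧ lam 1 = 1) : ∃ f : G →* ℂˣ, ∀ g : G, lam g = (f g : ℂ) := by
  obtain ⟨⟨n, ρ, rfl⟩, h1⟩ := h
  have hn : n = 1 := by
    rw [Representation.char_one] at h1
    simpa using h1
  subst hn
  let f0 : G →* ℂ :=
    { toFun := ρ.character
      map_one' := h1
      map_mul' := fun a b => by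
        change LinearMap.trace ℂ _ (ρ (a * b)) = LinearMap.trace ℂ _ (ρ a) * LinearMap.trace ℂ _ (ρ b)
        rw [map_mul, trace_mul_fin_one] }
  exact ⟨f0.toHomUnits, fun g => rfl⟩

/-- A homomorphism to the units of `ℂ` is a character of degree one. -/
theorem linChar_of_hom {G : Type*} [Group G] (f : G →* ℂˣ) :
    Cfsg.IsCharacter G (fun g => (f g : ℂ)) ∧ (fun g => (f g : ℂ)) 1 = 1 := by
  refine ⟨⟨1, ?_⟩, by simp⟩
  let ρ : Representation ℂ G (Fin 1 → ℂ) :=
    { toFun := fun g => (f g : ℂ) • LinearMap.id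
      map_one' := by simp; rfl
      map_mul' := fun a b => by
        ext x i
        simp [mul_smul]
        ring }
  refine ⟨ρ, ?_⟩
  funext g
  have h1 : ρ g = (f g : ℂ) • LinearMap.id := rfl
  unfold Representation.character
  rw [h1]
  simp

end LinChar

end Cfsg.Agent.Helper15
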