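import Mathlib
import Cfsg.Prelude.Def_Characters
import Cfsg.Agent.Helper3.IndFun
import Cfsg.Agent.Helper3.Induced
import Cfsg.Agent.Helper3.BrauerQE
import Cfsg.Agent.Helper3.MGroup
import Cfsg.Agent.Helper75.ConjFun
import Cfsg.Agent.Helper15.BergerTools

set_option autoImplicit false

namespace Cfsg.Agent.Helper15

open Cfsg
open scoped ComplexConjugate

section BergerB1

/-- The degree of an irreducible constituent is at most the degree of the character. -/
theorem charDegree_le_of_constituent {T : Type*} [Group T] [Fintype T] (ψ : T → ℂ)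
    (hψ : IsCharacter T ψ) (θ : T → ℂ) (hθ : IsIrrCharacter T θ)
    (hne : classInner ψ θ ≠ 0) : charDegree θ ≤ charDegree ψ := by
  obtain ⟨a, ha⟩ := inner_nat hψ (isChar_of_irr hθ)
  have ha0 : a ≠ 0 := by
    rintro rfl
    exact hne (by rw [ha]; simp)
  by_contra hlt
  push Not at hlt
  have h1 : charDegree ψ ≤ a * charDegree θ :=
    le_trans hlt.le (Nat.le_mul_of_pos_left _ (Nat.pos_of_ne_zero ha0))
  have h2 := char_eq_smul_of_degree_le ψ hψ θ hθ a ha h1
  have h3 : ψ 1 = (a : ℂ) * θ 1 := by rw [h2]; rfl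
  rw [Cfsg.Agent.Helper80.isCharacter_one_eq hψ,
    Cfsg.Agent.Helper80.isCharacter_one_eq (isChar_of_irr hθ)] at h3
  have h4 : charDegree ψ = a * charDegree θ := by exact_mod_cast h3
  have h5 : charDegree θ ≤ a * charDegree θ := Nat.le_mul_of_pos_left _ (Nat.pos_of_ne_zero ha0)
  omega

/-- The degree of an induced character. -/
theorem charDegree_indFun {G : Type*} [Group G] [Fintype G] (H : Subgroup G) (θ : H → ℂ)
    (hθ : IsCharacter H θ) : charDegree (indFun H θ) = H.index * charDegree θ := by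
  have h1 := Cfsg.Agent.Helper75.indFun_one H θ
  have h2 : (Nat.card G : ℂ) / (Nat.card H : ℂ) = (H.index : ℂ) := by
    have hH : (Nat.card H : ℂ) ≠ 0 := by exact_mod_cast Nat.card_pos.ne'
    rw [← Subgroup.index_mul_card H]
    push_cast
    field_simp
  rw [h2, Cfsg.Agent.Helper80.isCharacter_one_eq hθ,
    Cfsg.Agent.Helper80.isCharacter_one_eq (Cfsg.Agent.Helper3.isCharacter_indFun H θ hθ)] at h1
  exact_mod_cast h1

/-- An irreducible character induced from a character of a proper subgroup is induced from an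
irreducible character of a maximal subgroup. -/
theorem exists_max_irr_ind {G : Type*} [Group G] [Fintype G] (χ : G → ℂ)
    (hχ : IsIrrCharacter G χ) (K : Subgroup G) (hK : K ≠ ⊤) (ψ : K → ℂ)
    (hψ : IsCharacter K ψ) (hind : indFun K ψ = χ) :
    ∃ (H : Subgroup G) (ϑ : H → ℂ), IsCoatom H ∧ IsIrrCharacter H ϑ ∧ indFun H ϑ = χ := by
  classical
  obtain ⟨H, hH, hKH⟩ := (eq_top_or_exists_le_coatom K).resolve_left hK
  let _ : Fintype (IrrCharacter H) := Fintype.ofFinite _
  have hχc : IsCharacter G χ := isChar_of_irr hχ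
  have hχcf : IsClassFunction G χ := isClassFunction_of_isChar hχc
  -- the intermediate induced character
  let ψ₀ : (K.subgroupOf H) → ℂ := fun x => ψ (Subgroup.subgroupOfEquivOfLe hKH x)
  have hψ₀ : IsCharacter (K.subgroupOf H) ψ₀ :=
    Cfsg.Agent.Helper79.isCharacter_comp hψ (Subgroup.subgroupOfEquivOfLe hKH).toMonoidHom
  have hϑ₀ : IsCharacter H (indFun (K.subgroupOf H) ψ₀) :=
    Cfsg.Agent.Helper3.isCharacter_indFun _ _ hψ₀
  have hstage : indFun H (indFun (K.subgroupOf H) ψ₀) = χ := by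
    rw [Cfsg.Agent.Helper3.indFun_trans_map_fun H (K.subgroupOf H) ψ₀, ← hind]
    apply Cfsg.Agent.Helper3.indFun_congr (Subgroup.map_subgroupOf_eq_of_le hKH)
    intro x h1 h2
    show ψ (Subgroup.subgroupOfEquivOfLe hKH _) = ψ ⟨x, h2⟩
    congr 1
    apply Subtype.ext
    have h3 := Subgroup.coe_equivMapOfInjective_apply (K.subgroupOf H) H.subtype
      H.subtype_injective (((K.subgroupOf H).equivMapOfInjective H.subtype
        H.subtype_injective).symm ⟨x, h1⟩)
    rw [MulEquiv.apply_symm_apply] at h3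
    exact h3.symm
  -- a common irreducible constituent
  have hfrob := Cfsg.Agent.Helper3.frobenius_reciprocity H (indFun (K.subgroupOf H) ψ₀) χ hχcf
  rw [hstage, irr_inner_self hχ] at hfrob
  have hex : ∃ θ : IrrCharacter H, classInner (indFun (K.subgroupOf H) ψ₀) (θ : H → ℂ) ≠ 0 ∧
      classInner (fun h : H => χ h) (θ : H → ℂ) ≠ 0 := by
    by_contra hcon
    push Not at hcon
    rw [classInner_eq_sum (isClassFunction_of_isChar hϑ₀)] at hfrob
    have : ∑ θ : IrrCharacter H, classInner (indFun (K.subgroupOf H) ψ₀) (θ : H → ℂ) *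
        conj (classInner (fun h : H => χ h) (θ : H → ℂ)) = 0 := by
      apply Finset.sum_eq_zero
      intro θ _
      by_cases h0 : classInner (indFun (K.subgroupOf H) ψ₀) (θ : H → ℂ) = 0
      · rw [h0, zero_mul]
      · rw [hcon θ h0, map_zero, mul_zero]
    rw [this] at hfrob
    exact one_ne_zero hfrob
  obtain ⟨θ, hθ1, hθ2⟩ := hex
  have hθc : IsCharacter H (θ : H → ℂ) := isChar_of_irr θ.2
  have hindc : IsCharacter G (indFun H (θ : H → ℂ)) :=
    Cfsg.Agent.Helper3.isCharacter_indFun H _ hθc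
  obtain ⟨n, hn⟩ := inner_nat hindc hχc
  have hn0 : n ≠ 0 := by
    rintro rfl
    rw [Cfsg.Agent.Helper3.frobenius_reciprocity H _ χ hχcf, classInner_conj_symm] at hn
    apply hθ2
    have := congrArg conj hn
    simpa using this
  have hdeg1 : charDegree (θ : H → ℂ) ≤ charDegree (indFun (K.subgroupOf H) ψ₀) :=
    charDegree_le_of_constituent _ hϑ₀ _ θ.2 hθ1
  have hdχ : charDegree χ = H.index * charDegree (indFun (K.subgroupOf H) ψ₀) := by
    rw [← hstage]
    exact charDegree_indFun H _ hϑ₀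
  have hdθ := charDegree_indFun H (θ : H → ℂ) hθc
  have hle : charDegree (indFun H (θ : H → ℂ)) ≤ n * charDegree χ := by
    rw [hdθ, hdχ]
    calc H.index * charDegree (θ : H → ℂ)
        ≤ H.index * charDegree (indFun (K.subgroupOf H) ψ₀) := Nat.mul_le_mul_left _ hdeg1
      _ ≤ n * (H.index * charDegree (indFun (K.subgroupOf H) ψ₀)) :=
        Nat.le_mul_of_pos_left _ (Nat.pos_of_ne_zero hn0)
  have heq := char_eq_smul_of_degree_le _ hindc χ hχ n hn hle
  have hn1 : n = 1 := by
    have h3 : indFun H (θ : H → ℂ) 1 = (n : ℂ) * χ 1 := by rw [heq]; rfl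
    rw [Cfsg.Agent.Helper80.isCharacter_one_eq hindc,
      Cfsg.Agent.Helper80.isCharacter_one_eq hχc] at h3
    have h4 : charDegree (indFun H (θ : H → ℂ)) = n * charDegree χ := by exact_mod_cast h3
    have hpos : 0 < charDegree χ := Cfsg.Agent.Helper80.irr_degree_pos ⟨χ, hχ⟩
    have h5 : n * charDegree χ ≤ 1 * charDegree χ := by
      rw [← h4, hdθ, hdχ, one_mul]
      exact Nat.mul_le_mul_left _ hdeg1
    have h6 := Nat.le_of_mul_le_mul_right h5 hpos
    omega
  refine ⟨H, θ, hH, θ.2, ?_⟩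
  rw [heq, hn1, Nat.cast_one, one_smul]

end BergerB1

end Cfsg.Agent.Helper15
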