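import Mathlib
import Cfsg.Prelude.Def_Characters
import Cfsg.Prelude.Def_Blocks
import Cfsg.Agent.Helper15.CharInner
import Cfsg.Agent.Helper3.CenterDvd
import Cfsg.Agent.Helper79.Normal
import Cfsg.Agent.Helper79.Quotient
import Cfsg.Agent.Helper80.CharIrr

set_option autoImplicit false

namespace Cfsg.Agent.Helper15

open scoped ComplexConjugate

section PiPart

/-- In a finite group whose order divides `m` or `n`, the power map with exponent `t * m`,
where `s * n + t * m = 1`, is multiplicative. -/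
theorem zpow_mul_of_card_dvd {Q : Type*} [Group Q] [Finite Q] (m n : ℕ) (s t : ℤ)
    (hst : (n : ℤ) * s + (m : ℤ) * t = 1) (h : Nat.card Q ∣ m ∨ Nat.card Q ∣ n) (x y : Q) :
    (x * y) ^ ((m : ℤ) * t) = x ^ ((m : ℤ) * t) * y ^ ((m : ℤ) * t) := by
  rcases h with h | h
  · have h1 : ∀ z : Q, z ^ ((m : ℤ) * t) = 1 := by
      intro z
      rw [zpow_mul, zpow_natCast]
      obtain ⟨c, hc⟩ := h
      rw [hc, pow_mul, pow_card_eq_one', one_pow, one_zpow]
    rw [h1, h1, h1, one_mul]
  · have h1 : ∀ z : Q, z ^ ((m : ℤ) * t) = z := by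
      intro z
      have h2 : (m : ℤ) * t = 1 - (n : ℤ) * s := by linarith
      rw [h2, zpow_sub, zpow_one, zpow_mul, zpow_natCast]
      obtain ⟨c, hc⟩ := h
      rw [hc, pow_mul, pow_card_eq_one', one_pow, one_zpow]
      simp
    rw [h1, h1, h1]

/-- In a finite nilpotent group whose order divides `m * n` with `m`, `n` coprime, the map
`e ↦ e ^ (m * t)` is a homomorphism. -/
theorem exists_pow_hom_of_nilpotent {E : Type*} [Group E] [Finite E] [hE : Group.IsNilpotent E]
    (m n : ℕ) (hcop : Nat.Coprime m n) (hdvd : Nat.card E ∣ m * n) (s t : ℤ)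
    (hst : (n : ℤ) * s + (m : ℤ) * t = 1) :
    ∃ π : E →* E, ∀ e : E, π e = e ^ ((m : ℤ) * t) := by
  obtain ⟨φ⟩ := (Group.isNilpotent_of_finite_tfae (G := E)).out 0 4 |>.mp hE
  have hcomp : ∀ (p : (Nat.card E).primeFactors) (P : Sylow p E),
      Nat.card (P : Subgroup E) ∣ m ∨ Nat.card (P : Subgroup E) ∣ n := by
    intro p P
    have hp : (p : ℕ).Prime := Nat.prime_of_mem_primeFactors p.2
    haveI := Fact.mk hp
    obtain ⟨a, ha⟩ := IsPGroup.iff_card.mp P.isPGroup'
    have hdvd' : Nat.card (P : Subgroup E) ∣ m * n :=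
      (Subgroup.card_subgroup_dvd_card _).trans hdvd
    by_cases hpm : (p : ℕ) ∣ m
    · left
      have hpn : ¬ (p : ℕ) ∣ n := fun hpn =>
        hp.one_lt.ne' (Nat.eq_one_of_dvd_coprimes hcop hpm hpn)
      have h1 : Nat.Coprime (Nat.card (P : Subgroup E)) n := by
        rw [ha]
        exact Nat.Coprime.pow_left _ ((Nat.Prime.coprime_iff_not_dvd hp).mpr hpn)
      exact h1.dvd_of_dvd_mul_right hdvd'
    · right
      have h1 : Nat.Coprime (Nat.card (P : Subgroup E)) m := by
        rw [ha]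
        exact Nat.Coprime.pow_left _ ((Nat.Prime.coprime_iff_not_dvd hp).mpr hpm)
      exact h1.dvd_of_dvd_mul_left hdvd'
  have hT : ∀ x y : (∀ p : (Nat.card E).primeFactors, ∀ P : Sylow p E, (P : Subgroup E)),
      (x * y) ^ ((m : ℤ) * t) = x ^ ((m : ℤ) * t) * y ^ ((m : ℤ) * t) := by
    intro x y
    funext p P
    exact zpow_mul_of_card_dvd m n s t hst (hcomp p P) (x p P) (y p P)
  refine ⟨MonoidHom.mk' (fun e => e ^ ((m : ℤ) * t)) ?_, fun e => rfl⟩
  intro a b
  have h1 := hT (φ.symm a) (φ.symm b)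
  have h2 := congrArg φ h1
  simp only [map_mul, map_zpow, MulEquiv.apply_symm_apply] at h2
  exact h2

/-- A finite group all of whose elements have order dividing `n`, and whose order divides
`m * n` with `m`, `n` coprime, has order dividing `n`. -/
theorem card_dvd_of_forall_pow {Q : Type*} [Group Q] [Finite Q] (m n : ℕ)
    (hcop : Nat.Coprime m n) (hdvd : Nat.card Q ∣ m * n) (h : ∀ x : Q, x ^ n = 1) : Nat.card Q ∣ n := by
  have h1 : Nat.Coprime (Nat.card Q) m := by
    apply Nat.coprime_of_dvd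
    intro q hq hqQ hqm
    haveI := Fact.mk hq
    obtain ⟨x, hx⟩ := exists_prime_orderOf_dvd_card' q hqQ
    have h2 : q ∣ n := by
      rw [← hx]
      exact orderOf_dvd_of_pow_eq_one (h x)
    exact hq.one_lt.ne' (Nat.eq_one_of_dvd_coprimes hcop hqm h2)
  exact h1.dvd_of_dvd_mul_left hdvd

/-- Key local computation: on a nilpotent group, the function `e ↦ n * D (e ^ (m * t))` has
algebraic-integer inner products with the irreducible characters. -/
theorem classInner_piPart_algInt {E : Type*} [Group E] [Fintype E] [Group.IsNilpotent E]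
    (m n : ℕ) (hcop : Nat.Coprime m n) (hdvd : Nat.card E ∣ m * n) (s t : ℤ)
    (hst : (n : ℤ) * s + (m : ℤ) * t = 1) (D : E → ℂ) (hD : ∀ e, IsIntegral ℤ (D e))
    (χ : E → ℂ) (hχ : Cfsg.IsIrrCharacter E χ) :
    IsIntegral ℤ (Cfsg.classInner (fun e => (n : ℂ) * D (e ^ ((m : ℤ) * t))) χ) := by
  classical
  obtain ⟨π, hπ⟩ := exists_pow_hom_of_nilpotent m n hcop hdvd s t hst
  letI : Fintype π.ker := Fintype.ofFinite _
  letI : Fintype (E ⧸ π.ker) := Fintype.ofFinite _
  have hχc := isChar_of_irr hχ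
  have hπF : ∀ (e : E) (f : E), f ∈ π.ker → π (e * f) = π e := by
    intro e f hf
    rw [map_mul, MonoidHom.mem_ker.mp hf, mul_one]
  have h1 : ∑ g : E, (n : ℂ) * D (g ^ ((m : ℤ) * t)) * conj (χ g) =
      (n : ℂ) * ∑ g : E, D (π g) * conj (χ g) := by
    rw [Finset.mul_sum]
    apply Finset.sum_congr rfl
    intro g _
    rw [hπ, mul_assoc]
  unfold Cfsg.classInner
  rw [h1]
  by_cases hker : ∀ x ∈ π.ker, χ x = χ 1
  · have hinvF : ∀ g : E, ∀ z ∈ π.ker,
        D (π (g * z)) * conj (χ (g * z)) = D (π g) * conj (χ g) := by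
      intro g z hz
      rw [hπF g z hz, Cfsg.Agent.Helper79.isCharacter_mul_of_ker hχc (hker z hz) g]
    have hsum := Cfsg.Agent.Helper3.sum_eq_card_smul_sum_out π.ker
      (fun g => D (π g) * conj (χ g)) hinvF
    have hidx : π.ker.index ∣ n := by
      rw [Subgroup.index_ker]
      apply card_dvd_of_forall_pow m n hcop ((Subgroup.card_subgroup_dvd_card _).trans hdvd)
      rintro ⟨x, e, rfl⟩
      apply Subtype.ext
      show (π e) ^ n = 1
      rw [hπ, ← zpow_natCast, ← zpow_mul]
      have h3 : (m : ℤ) * t * (n : ℤ) = ((m * n : ℕ) : ℤ) * t := by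
        push_cast
        ring
      rw [h3, zpow_mul, zpow_natCast]
      obtain ⟨c, hc⟩ := hdvd
      rw [hc, pow_mul, pow_card_eq_one', one_pow, one_zpow]
    rw [hsum]
    obtain ⟨c, hc⟩ := hidx
    have hcard : (Nat.card E : ℂ) = (π.ker.index : ℂ) * (Nat.card π.ker : ℂ) := by
      rw [← Subgroup.index_mul_card π.ker]
      push_cast
      ring
    have hker0 : (Nat.card π.ker : ℂ) ≠ 0 := by exact_mod_cast Nat.card_pos.ne'
    have hidx0 : (π.ker.index : ℂ) ≠ 0 := by
      exact_mod_cast (Subgroup.FiniteIndex.index_ne_zero (H := π.ker))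
    have h2 : (Nat.card E : ℂ)⁻¹ * ((n : ℂ) *
        (Nat.card π.ker • ∑ q : E ⧸ π.ker, D (π q.out) * conj (χ q.out))) =
        (c : ℂ) * ∑ q : E ⧸ π.ker, D (π q.out) * conj (χ q.out) := by
      rw [hcard, hc, nsmul_eq_mul]
      push_cast
      field_simp
    rw [h2]
    refine IsIntegral.mul (isIntegral_natCast c) ?_
    refine IsIntegral.sum _ (fun q _ => IsIntegral.mul (hD _) ?_)
    exact map_isIntegral_int (starRingEnd ℂ)
      (Cfsg.Agent.Helper80.isCharacter_isIntegral hχc _)
  · push Not at hker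
    obtain ⟨x, hx, hxne⟩ := hker
    have hzero : ∀ g : E, ∑ z : π.ker, χ (g * z) = 0 :=
      Cfsg.Agent.Helper79.irr_sum_coset_eq_zero hχ π.ker ⟨x, hx, hxne⟩
    have hS1 : ∑ z : π.ker, ∑ g : E, D (π g) * conj (χ (g * z)) = 0 := by
      rw [Finset.sum_comm]
      apply Finset.sum_eq_zero
      intro g _
      rw [← Finset.mul_sum, ← map_sum, hzero g, map_zero, mul_zero]
    have hS2 : ∀ z : π.ker, ∑ g : E, D (π g) * conj (χ (g * z)) =
        ∑ g : E, D (π g) * conj (χ g) := by
      intro z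
      have h3 := Equiv.sum_comp (Equiv.mulRight (z : E)) (fun g => D (π g) * conj (χ g))
      rw [← h3]
      apply Finset.sum_congr rfl
      intro g _
      simp only [Equiv.coe_mulRight]
      rw [hπF g z z.2]
    have hS : ∑ g : E, D (π g) * conj (χ g) = 0 := by
      rw [Finset.sum_congr rfl (fun z _ => hS2 z), Finset.sum_const, Finset.card_univ,
        nsmul_eq_mul] at hS1
      rcases mul_eq_zero.mp hS1 with h | h
      · exfalso
        have : (Fintype.card π.ker : ℂ) ≠ 0 := by exact_mod_cast Fintype.card_ne_zero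
        exact this h
      · exact h
    rw [hS, mul_zero, mul_zero]
    exact isIntegral_zero

end PiPart

end Cfsg.Agent.Helper15
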