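import Mathlib
import Cfsg.Prelude.Def_Characters
import Cfsg.Agent.Helper15.CharInner
import Cfsg.Agent.Helper15.PiPart
import Cfsg.Agent.Helper73.BrauerChar
import Cfsg.Agent.Helper73.GenSpan
import Cfsg.Agent.Helper3.BrauerInd
import Cfsg.Agent.Helper80.CharOrtho
import Cfsg.Agent.Helper79.Basic

/-!
# The Brauer–Suzuki normal complement theorem (Isaacs 8.22)

A Hall subgroup `H` of `G` which controls its own fusion and into which every elementary
subgroup of order dividing `|H|` can be conjugated has a normal complement.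
-/

set_option autoImplicit false

namespace Cfsg.Agent.Helper15

open Cfsg
open scoped ComplexConjugate

universe u

/-- A quotient of natural numbers which is an algebraic integer is an integer. -/
theorem nat_dvd_of_isIntegral_div (a b : ℕ) (hb : b ≠ 0)
    (h : IsIntegral ℤ ((a : ℂ) / (b : ℂ))) : b ∣ a := by
  have h1 : IsIntegral ℤ (algebraMap ℚ ℂ ((a : ℚ) / (b : ℚ))) := by
    have h0 : algebraMap ℚ ℂ ((a : ℚ) / (b : ℚ)) = (a : ℂ) / (b : ℂ) := by simp
    rw [h0]
    exact h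
  have h2 : IsIntegral ℤ ((a : ℚ) / (b : ℚ)) :=
    (isIntegral_algebraMap_iff (algebraMap ℚ ℂ).injective).mp h1
  obtain ⟨k, hk⟩ := IsIntegrallyClosed.isIntegral_iff.mp h2
  have hb' : (b : ℚ) ≠ 0 := by exact_mod_cast hb
  have h3 : (a : ℚ) = (k : ℚ) * b := by
    have h4 : ((k : ℤ) : ℚ) = (a : ℚ) / (b : ℚ) := by simpa using hk
    rw [h4]
    field_simp
  have h4 : (a : ℤ) = k * b := by exact_mod_cast h3
  have h5 : (b : ℤ) ∣ (a : ℤ) := ⟨k, by rw [h4, mul_comm]⟩
  exact Int.natCast_dvd_natCast.mp h5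

/-- A generalized character of norm one with positive degree is irreducible. -/
theorem isIrr_of_genSpanZ_inner_one {G : Type u} [Group G] [Fintype G] {θ : G → ℂ}
    (hθ : θ ∈ Helper73.genSpanZ G) (h : classInner θ θ = 1) (hpos : 0 < (θ 1).re) :
    IsIrrCharacter G θ := by
  classical
  have : Fintype (IrrCharacter G) := Fintype.ofFinite _
  have hcl := Helper73.isClassFunction_of_mem_genSpanZ hθ
  have hm : ∀ χ : IrrCharacter G, ∃ n : ℤ, classInner θ χ = (n : ℂ) :=
    fun χ => Helper73.classInner_int_of_mem_genSpanZ hθ χ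
  choose m hm using hm
  have h1 := classInner_eq_sum (θ := θ) (θ' := θ) hcl
  rw [h] at h1
  have h2 : (1 : ℂ) = ((∑ χ : IrrCharacter G, m χ * m χ : ℤ) : ℂ) := by
    rw [h1, Int.cast_sum]
    apply Finset.sum_congr rfl
    intro χ _
    rw [hm χ, map_intCast, Int.cast_mul]
  have h3 : ∑ χ : IrrCharacter G, m χ * m χ = 1 := by
    exact_mod_cast h2.symm
  have h4 : ∃ χ₀, m χ₀ ≠ 0 := by
    by_contra hcon
    push Not at hcon
    rw [Finset.sum_eq_zero (fun χ _ => by rw [hcon χ, mul_zero])] at h3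
    exact zero_ne_one h3
  obtain ⟨χ₀, hχ₀⟩ := h4
  have h5 : m χ₀ * m χ₀ + ∑ χ ∈ Finset.univ.erase χ₀, m χ * m χ = 1 := by
    rw [Finset.add_sum_erase _ (fun χ => m χ * m χ) (Finset.mem_univ χ₀)]
    exact h3
  have hnn : 0 ≤ ∑ χ ∈ Finset.univ.erase χ₀, m χ * m χ :=
    Finset.sum_nonneg (fun χ _ => mul_self_nonneg (m χ))
  have hpos' : 0 < m χ₀ * m χ₀ := mul_self_pos.mpr hχ₀
  have h6 : m χ₀ * m χ₀ = 1 := by omega
  have h8 : ∑ χ ∈ Finset.univ.erase χ₀, m χ * m χ = 0 := by omega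
  have h9 : ∀ χ, χ ≠ χ₀ → m χ = 0 := by
    intro χ hχ
    have h10 := (Finset.sum_eq_zero_iff_of_nonneg (fun χ _ => mul_self_nonneg (m χ))).mp h8 χ
      (Finset.mem_erase.mpr ⟨hχ, Finset.mem_univ χ⟩)
    exact mul_self_eq_zero.mp h10
  have h10 : θ = (m χ₀ : ℂ) • (χ₀ : G → ℂ) := by
    conv_lhs => rw [classFun_eq_sum hcl]
    rw [Finset.sum_eq_single χ₀]
    · rw [hm χ₀]
    · intro χ _ hχ
      rw [hm χ, h9 χ hχ]
      simp
    · intro hcon
      exact absurd (Finset.mem_univ χ₀) hcon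
  rcases mul_self_eq_one_iff.mp h6 with h11 | h11
  · rw [h10, h11]
    simp only [Int.cast_one, one_smul]
    exact χ₀.2
  · exfalso
    rw [h10, h11] at hpos
    have h12 : ((χ₀ : G → ℂ) 1).re = (charDegree (χ₀ : G → ℂ) : ℝ) := by
      rw [Helper80.irr_one_eq χ₀]
      simp
    have h13 : (((-1 : ℤ) : ℂ) • (χ₀ : G → ℂ)) 1 = -((χ₀ : G → ℂ) 1) := by
      simp
    rw [h13, Complex.neg_re, h12] at hpos
    have h14 : (0 : ℝ) ≤ (charDegree (χ₀ : G → ℂ) : ℝ) := Nat.cast_nonneg _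
    linarith

variable {G : Type u} [Group G]

/-- An element whose order divides `|H|` is conjugate into `H`, if cyclic subgroups of order
dividing `|H|` are. -/
theorem exists_conj_mem_of_pow_eq_one [Finite G] (H : Subgroup G)
    (helem : ∀ (E : Subgroup G) (p : ℕ), p.Prime → IsElementary p E →
      Nat.card E ∣ Nat.card H → ∃ g : G, E.map (MulAut.conj g).toMonoidHom ≤ H)
    (y : G) (hy : y ^ Nat.card H = 1) : ∃ g : G, g * y * g⁻¹ ∈ H := by
  obtain ⟨p, hple, hp⟩ := Nat.exists_infinite_primes (orderOf y + 1)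
  have hE : IsElementary p (Subgroup.zpowers y) := by
    refine ⟨⟨y, Subgroup.mem_zpowers y⟩, ?_, ?_, 0, ?_⟩
    · rw [Subgroup.mem_center_iff]
      rintro ⟨a, ha⟩
      obtain ⟨i, rfl⟩ := Subgroup.mem_zpowers_iff.mp ha
      apply Subtype.ext
      exact ((Commute.refl y).zpow_left i).eq
    · rw [Subgroup.orderOf_mk]
      have h1 : 0 < orderOf y := orderOf_pos y
      exact ((Nat.Prime.coprime_iff_not_dvd hp).mpr
        (Nat.not_dvd_of_pos_of_lt h1 (by omega))).symm
    · rw [pow_zero, Subgroup.index_eq_one, eq_top_iff]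
      rintro ⟨a, ha⟩ -
      obtain ⟨i, rfl⟩ := Subgroup.mem_zpowers_iff.mp ha
      exact Subgroup.mem_zpowers_iff.mpr ⟨i, Subtype.ext (by simp)⟩
  have hcard : Nat.card (Subgroup.zpowers y) ∣ Nat.card H := by
    rw [Nat.card_zpowers]
    exact orderOf_dvd_of_pow_eq_one hy
  obtain ⟨g, hg⟩ := helem _ p hp hE hcard
  exact ⟨g, hg ⟨y, Subgroup.mem_zpowers y, rfl⟩⟩

/-- Under control of fusion, class functions of `H` agree on `G`-conjugate elements. -/
theorem classFun_eq_of_conj (H : Subgroup G)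
    (hfus : ∀ x ∈ H, ∀ y ∈ H, IsConj x y → ∃ h ∈ H, h * x * h⁻¹ = y) {F : H → ℂ}
    (hF : IsClassFunction H F) (a b : H) (hab : ∃ g : G, g * (a : G) * g⁻¹ = b) :
    F a = F b := by
  obtain ⟨g, hg⟩ := hab
  obtain ⟨h, hh, hh2⟩ := hfus a a.2 b b.2 (isConj_iff.mpr ⟨g, hg⟩)
  have h1 : b = ⟨h, hh⟩ * a * (⟨h, hh⟩ : H)⁻¹ := Subtype.ext (by simpa using hh2.symm)
  rw [h1, hF]

/-- The hypotheses of the Brauer–Suzuki theorem, with a choice `c x ∈ H` of a conjugate of
the `π`-part `x ^ (m * t)` of each element. -/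
structure BSHyp (H : Subgroup G) (m : ℕ) (t : ℤ) (c : G → H) : Prop where
  fus : ∀ x ∈ H, ∀ y ∈ H, IsConj x y → ∃ h ∈ H, h * x * h⁻¹ = y
  idx : H.index = m
  bez : ∃ s : ℤ, (Nat.card H : ℤ) * s + (m : ℤ) * t = 1
  cj : ∀ x : G, ∃ g : G, (c x : G) = g * x ^ ((m : ℤ) * t) * g⁻¹
  elem : ∀ (E : Subgroup G) (p : ℕ), p.Prime → IsElementary p E →
      Nat.card E ∣ Nat.card H → ∃ g : G, E.map (MulAut.conj g).toMonoidHom ≤ H

/-- The lift `F ∘ c` of a function on `H` to `G`. -/
def bsLift {H : Subgroup G} (c : G → H) (F : H → ℂ) : G → ℂ := fun x => F (c x)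

section BS

variable {H : Subgroup G} {m : ℕ} {t : ℤ} {c : G → H}

theorem BSHyp.card_eq [Finite G] (hyp : BSHyp H m t c) : Nat.card G = Nat.card H * m := by
  rw [← hyp.idx, Subgroup.card_mul_index]

theorem BSHyp.coprime (hyp : BSHyp H m t c) : Nat.Coprime m (Nat.card H) := by
  obtain ⟨s, hs⟩ := hyp.bez
  exact Nat.isCoprime_iff_coprime.mp ⟨t, s, by linarith⟩

theorem BSHyp.zpow_mem [Finite G] (hyp : BSHyp H m t c) (h : H) :
    (h : G) ^ ((m : ℤ) * t) = h := by
  obtain ⟨s, hs⟩ := hyp.bez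
  have h2 : (m : ℤ) * t = 1 - (Nat.card H : ℤ) * s := by linarith
  have h3 : (h : G) ^ Nat.card H = 1 := by
    rw [← Subgroup.coe_pow, pow_card_eq_one', Subgroup.coe_one]
  rw [h2, zpow_sub, zpow_one, zpow_mul, zpow_natCast, h3, one_zpow]
  simp

/-- `F (c x)` can be computed from any conjugate of the `π`-part lying in `H`. -/
theorem BSHyp.apply_eq (hyp : BSHyp H m t c) {F : H → ℂ} (hF : IsClassFunction H F) (x : G)
    (y : H) (g : G) (hy : (y : G) = g * x ^ ((m : ℤ) * t) * g⁻¹) : F (c x) = F y := by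
  obtain ⟨g', hg'⟩ := hyp.cj x
  apply classFun_eq_of_conj H hyp.fus hF
  refine ⟨g * g'⁻¹, ?_⟩
  rw [hg', hy]
  group

theorem BSHyp.lift_classFunction (hyp : BSHyp H m t c) {F : H → ℂ} (hF : IsClassFunction H F) :
    IsClassFunction G (bsLift c F) := by
  intro g h
  unfold bsLift
  obtain ⟨g1, hg1⟩ := hyp.cj (h * g * h⁻¹)
  symm
  apply hyp.apply_eq hF g (c (h * g * h⁻¹)) (g1 * h)
  rw [hg1, conj_zpow]
  group

theorem BSHyp.lift_apply_mem [Finite G] (hyp : BSHyp H m t c) {F : H → ℂ}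
    (hF : IsClassFunction H F) (h : H) : bsLift c F (h : G) = F h := by
  unfold bsLift
  apply hyp.apply_eq hF (h : G) h 1
  rw [hyp.zpow_mem h]
  group

/-- On an elementary subgroup `E`, the lift of a class function of `H` is its composite with
a homomorphism `E →* H`. -/
theorem BSHyp.exists_hom_of_elementary [Finite G] (hyp : BSHyp H m t c) (E : Subgroup G)
    (p : ℕ) (hp : p.Prime) (hE : IsElementary p E) :
    ∃ κ : E →* H, ∀ (F : H → ℂ), IsClassFunction H F → ∀ e : E,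
      bsLift c F (e : G) = F (κ e) := by
  obtain ⟨s, hst⟩ := hyp.bez
  have hG := hyp.card_eq
  have hcop := hyp.coprime
  haveI : Group.IsNilpotent E := Helper3.isNilpotent_of_isElementary hp hE
  have hdvd : Nat.card E ∣ m * Nat.card H := by
    rw [mul_comm, ← hG]
    exact Subgroup.card_subgroup_dvd_card E
  obtain ⟨π, hπ⟩ := exists_pow_hom_of_nilpotent m (Nat.card H) hcop hdvd s t hst
  obtain ⟨R', hR'⟩ : ∃ R' : Subgroup G, R' = π.range.map E.subtype := ⟨_, rfl⟩
  have hR'mem : ∀ e : E, ((π e : E) : G) ∈ R' := by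
    intro e
    rw [hR']
    exact ⟨π e, ⟨e, rfl⟩, rfl⟩
  have h1 : IsElementary p π.range := Helper3.isElementary_subgroup hp hE π.range
  have e1 : π.range ≃* (π.range.map E.subtype) :=
    π.range.equivMapOfInjective E.subtype E.subtype_injective
  have hR'elem : IsElementary p R' := by
    rw [hR']
    exact Helper3.isElementary_of_mulEquiv e1 h1
  have hpow : ∀ x : π.range, x ^ Nat.card H = 1 := by
    rintro ⟨x, e, rfl⟩
    apply Subtype.ext
    show (π e) ^ Nat.card H = 1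
    rw [hπ, ← zpow_natCast, ← zpow_mul]
    have h2 : (m : ℤ) * t * (Nat.card H : ℤ) = ((m * Nat.card H : ℕ) : ℤ) * t := by
      push_cast
      ring
    rw [h2, zpow_mul, zpow_natCast]
    obtain ⟨k, hk⟩ := hdvd
    rw [hk, pow_mul, pow_card_eq_one', one_pow, one_zpow]
  have hR'card : Nat.card R' ∣ Nat.card H := by
    rw [hR', ← Nat.card_congr e1.toEquiv]
    exact card_dvd_of_forall_pow m (Nat.card H) hcop
      ((Subgroup.card_subgroup_dvd_card _).trans hdvd) hpow
  obtain ⟨g, hg⟩ := hyp.elem R' p hp hR'elem hR'card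
  refine ⟨MonoidHom.codRestrict ((MulAut.conj g).toMonoidHom.comp (E.subtype.comp π)) H
    (fun e => hg ⟨_, hR'mem e, rfl⟩), fun F hF e => ?_⟩
  unfold bsLift
  apply hyp.apply_eq hF (e : G) _ g
  show g * ((π e : E) : G) * g⁻¹ = g * (e : G) ^ ((m : ℤ) * t) * g⁻¹
  rw [hπ, Subgroup.coe_zpow]

/-- The lift of a character of `H` is a generalized character of `G`. -/
theorem BSHyp.lift_mem_genSpanZ [Fintype G] (hyp : BSHyp H m t c) {ψ : H → ℂ}
    (hψ : IsCharacter H ψ) : bsLift c ψ ∈ Helper73.genSpanZ G := by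
  have hcl := isClassFunction_of_isChar hψ
  apply Helper73.brauer_characterization_Z (hyp.lift_classFunction hcl)
  intro E p hp hE
  obtain ⟨κ, hκ⟩ := hyp.exists_hom_of_elementary E p hp hE
  have h1 : (fun e : E => bsLift c ψ e) = fun e => ψ (κ e) := funext (hκ ψ hcl)
  rw [h1]
  exact Helper73.isCharacter_mem_genSpanZ (Helper79.isCharacter_comp hψ κ)

end BS

section Count

open scoped Classical

variable [Fintype G] {H : Subgroup G} [Fintype H] [Fintype (IrrCharacter H)] {m : ℕ} {t : ℤ}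
  {c : G → H}

/-- The number of `z ∈ H` with `z y z⁻¹ = h`. -/
noncomputable def bsW (y h : H) : ℕ :=
  (Finset.univ.filter (fun z : H => z * y * z⁻¹ = h)).card

omit [Fintype G] [Fintype (IrrCharacter H)] in
theorem bsW_sum (y : H) : ∑ h : H, bsW y h = Fintype.card H := by
  unfold bsW
  rw [← Finset.card_univ, Finset.card_eq_sum_card_fiberwise (f := fun z : H => z * y * z⁻¹)
    (s := Finset.univ) (t := Finset.univ) (fun _ _ => Finset.mem_univ _)]

omit [Fintype G] [Fintype (IrrCharacter H)] in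
theorem bsW_mul (y h : H) {F : H → ℂ} (hF : IsClassFunction H F) :
    (bsW y h : ℂ) * F h = (bsW y h : ℂ) * F y := by
  by_cases h0 : bsW y h = 0
  · rw [h0]
    simp
  · obtain ⟨z, hz⟩ := Finset.card_pos.mp (Nat.pos_of_ne_zero h0)
    rw [Finset.mem_filter] at hz
    rw [← hz.2, hF]

/-- `T h = ∑_x W (c x) h`. -/
noncomputable def bsT (c : G → H) (h : H) : ℕ := ∑ x : G, bsW (c x) h

omit [Fintype (IrrCharacter H)] in
theorem bsT_sum : ∑ h : H, bsT c h = Fintype.card G * Fintype.card H := by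
  unfold bsT
  rw [Finset.sum_comm]
  simp [bsW_sum]

omit [Fintype (IrrCharacter H)] in
theorem BSHyp.bsT_pos (hyp : BSHyp H m t c) (h : H) : 0 < bsT c h := by
  have h1 : 0 < bsW (c (h : G)) h := by
    obtain ⟨g, hg⟩ := hyp.cj (h : G)
    rw [hyp.zpow_mem h] at hg
    obtain ⟨z, hz, hz2⟩ := hyp.fus (c (h : G)) (c (h : G)).2 h h.2
      (isConj_iff.mpr ⟨g⁻¹, by rw [hg]; group⟩)
    apply Finset.card_pos.mpr
    exact ⟨⟨z, hz⟩, Finset.mem_filter.mpr ⟨Finset.mem_univ _, Subtype.ext (by simpa using hz2)⟩⟩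
  exact lt_of_lt_of_le h1 (Finset.single_le_sum (f := fun x : G => bsW (c x) h)
    (fun _ _ => Nat.zero_le _) (Finset.mem_univ (h : G)))

theorem BSHyp.card_dvd_bsT (hyp : BSHyp H m t c) (h : H) : Fintype.card G ∣ bsT c h := by
  have hG0 : (Fintype.card G : ℂ) ≠ 0 := by exact_mod_cast Fintype.card_ne_zero
  have hk : ∀ ψ : IrrCharacter H, ∃ k : ℤ,
      ∑ x : G, bsLift c (ψ : H → ℂ) x = (Fintype.card G : ℂ) * k := by
    intro ψ
    obtain ⟨k, hk⟩ := Helper73.classInner_int_of_mem_genSpanZ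
      (hyp.lift_mem_genSpanZ (isChar_of_irr ψ.2)) (Helper80.trivIrr G)
    refine ⟨k, ?_⟩
    unfold classInner at hk
    simp only [Helper80.trivIrr_apply, map_one, mul_one] at hk
    rw [Nat.card_eq_fintype_card] at hk
    rw [← hk]
    field_simp
  choose k hk using hk
  have h1 : (bsT c h : ℂ) = (Fintype.card G : ℂ) *
      ∑ ψ : IrrCharacter H, (k ψ : ℂ) * conj ((ψ : H → ℂ) h) := by
    unfold bsT
    rw [Nat.cast_sum]
    have h2 : ∀ x : G, (bsW (c x) h : ℂ) =
        ∑ ψ : IrrCharacter H, (ψ : H → ℂ) (c x) * conj ((ψ : H → ℂ) h) :=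
      fun x => by
        unfold bsW
        convert (Helper80.irr_sum_mul_conj (c x) h).symm
    simp_rw [h2]
    rw [Finset.sum_comm, Finset.mul_sum]
    apply Finset.sum_congr rfl
    intro ψ _
    rw [← Finset.sum_mul]
    have h3 := hk ψ
    unfold bsLift at h3
    rw [h3]
    ring
  have hint : IsIntegral ℤ ((bsT c h : ℂ) / (Fintype.card G : ℂ)) := by
    rw [h1, mul_div_cancel_left₀ _ hG0]
    apply IsIntegral.sum
    intro ψ _
    exact (isIntegral_intCast (k ψ)).mul (map_isIntegral_int (starRingEnd ℂ)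
      (Helper80.isCharacter_isIntegral (isChar_of_irr ψ.2) h))
  exact nat_dvd_of_isIntegral_div _ _ Fintype.card_ne_zero hint

theorem BSHyp.bsT_eq (hyp : BSHyp H m t c) (h : H) : bsT c h = Fintype.card G := by
  have hle : ∀ h ∈ (Finset.univ : Finset H), Fintype.card G ≤ bsT c h :=
    fun h _ => Nat.le_of_dvd (hyp.bsT_pos h) (hyp.card_dvd_bsT h)
  have hsum : ∑ _h : H, Fintype.card G = ∑ h : H, bsT c h := by
    rw [bsT_sum]
    simp [mul_comm]
  exact ((Finset.sum_eq_sum_iff_of_le hle).mp hsum h (Finset.mem_univ h)).symm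

/-- The key counting formula. -/
theorem BSHyp.sum_lift (hyp : BSHyp H m t c) {F : H → ℂ} (hF : IsClassFunction H F) :
    ∑ x : G, F (c x) = (m : ℂ) * ∑ h : H, F h := by
  have h1 : ∀ y : H, (Fintype.card H : ℂ) * F y = ∑ h : H, (bsW y h : ℂ) * F h := by
    intro y
    simp_rw [bsW_mul y _ hF]
    rw [← Finset.sum_mul, ← Nat.cast_sum, bsW_sum]
  have h2 : (Fintype.card H : ℂ) * ∑ x : G, F (c x) =
      (Fintype.card G : ℂ) * ∑ h : H, F h := by
    rw [Finset.mul_sum]
    simp_rw [h1]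
    rw [Finset.sum_comm, Finset.mul_sum]
    apply Finset.sum_congr rfl
    intro h _
    rw [← Finset.sum_mul, ← Nat.cast_sum]
    have h3 := hyp.bsT_eq h
    unfold bsT at h3
    rw [h3]
  have hG := hyp.card_eq
  rw [Nat.card_eq_fintype_card, Nat.card_eq_fintype_card] at hG
  have hH0 : (Fintype.card H : ℂ) ≠ 0 := by exact_mod_cast Fintype.card_ne_zero
  rw [hG] at h2
  push_cast at h2
  apply mul_left_cancel₀ hH0
  rw [h2]
  ring

theorem BSHyp.inner_lift (hyp : BSHyp H m t c) {ψ φ : H → ℂ} (hψ : IsClassFunction H ψ)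
    (hφ : IsClassFunction H φ) :
    classInner (bsLift c ψ) (bsLift c φ) = classInner ψ φ := by
  unfold classInner bsLift
  have hF : IsClassFunction H (fun h => ψ h * conj (φ h)) := fun g h => by
    simp only
    rw [hψ, hφ]
  rw [hyp.sum_lift hF]
  have hG := hyp.card_eq
  rw [hG]
  push_cast
  have hH0 : (Nat.card H : ℂ) ≠ 0 := by exact_mod_cast Nat.card_pos.ne'
  have hm0 : (m : ℂ) ≠ 0 := by
    rw [← hyp.idx]
    exact_mod_cast Subgroup.index_ne_zero_of_finite
  field_simp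

theorem BSHyp.lift_irr (hyp : BSHyp H m t c) (ψ : IrrCharacter H) :
    IsIrrCharacter G (bsLift c (ψ : H → ℂ)) := by
  have hc := isChar_of_irr ψ.2
  have hcl := isClassFunction_of_isChar hc
  apply isIrr_of_genSpanZ_inner_one (hyp.lift_mem_genSpanZ hc)
  · rw [hyp.inner_lift hcl hcl, irr_inner_self ψ.2]
  · have h1 : bsLift c (ψ : H → ℂ) 1 = (ψ : H → ℂ) 1 := hyp.lift_apply_mem hcl 1
    rw [h1, Helper80.irr_one_eq ψ]
    simp only [Complex.natCast_re, Nat.cast_pos]
    exact Helper80.irr_degree_pos ψ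

/-- **Brauer–Suzuki**: `H` has a normal complement. -/
theorem BSHyp.exists_complement (hyp : BSHyp H m t c) :
    ∃ K : Subgroup G, K.Normal ∧ K ⊔ H = ⊤ ∧ K ⊓ H = ⊥ := by
  have hker : ∀ ψ : IrrCharacter H, ∃ K : Subgroup G, K.Normal ∧
      ∀ g, g ∈ K ↔ bsLift c (ψ : H → ℂ) g = bsLift c (ψ : H → ℂ) 1 :=
    fun ψ => Helper80.isCharacter_ker (isChar_of_irr (hyp.lift_irr ψ))
  choose Kf hKn hKmem using hker
  obtain ⟨K, hK⟩ : ∃ K : Subgroup G, K = ⨅ ψ, Kf ψ := ⟨_, rfl⟩
  have hKnormal : K.Normal := by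
    rw [hK]
    exact Subgroup.normal_iInf_normal hKn
  have hlift1 : ∀ ψ : IrrCharacter H, bsLift c (ψ : H → ℂ) 1 = (ψ : H → ℂ) 1 :=
    fun ψ => hyp.lift_apply_mem (isClassFunction_of_isChar (isChar_of_irr ψ.2)) 1
  have hmem : ∀ x : G, x ∈ K ↔ c x = 1 := by
    intro x
    rw [hK, Subgroup.mem_iInf]
    constructor
    · intro hx
      by_contra hne
      have h1 : ∀ ψ : IrrCharacter H, (ψ : H → ℂ) (c x) = (ψ : H → ℂ) 1 := fun ψ => by
        have h0 := (hKmem ψ x).mp (hx ψ)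
        rw [hlift1] at h0
        exact h0
      have h2 := Helper80.irr_column_orthogonality_of_not_isConj (G := H) (g := c x) (h := 1)
        (fun hcj => hne (isConj_one_left.mp hcj))
      have h3 := Helper80.irr_column_orthogonality_of_isConj (G := H) (IsConj.refl (1 : H))
      simp_rw [h1] at h2
      rw [h2] at h3
      have h4 : (Nat.card (Subgroup.centralizer ({(1 : H)} : Set H)) : ℂ) ≠ 0 := by
        exact_mod_cast Nat.card_pos.ne'
      exact h4 h3.symm
    · intro hx ψ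
      rw [hKmem, hlift1]
      show (ψ : H → ℂ) (c x) = _
      rw [hx]
  have hdisj : K ⊓ H = ⊥ := by
    rw [eq_bot_iff]
    rintro x ⟨hxK, hxH⟩
    have h1 := (hmem x).mp hxK
    obtain ⟨g, hg⟩ := hyp.cj x
    rw [h1, hyp.zpow_mem ⟨x, hxH⟩] at hg
    rw [Subgroup.mem_bot]
    have h2 : g * x * g⁻¹ = 1 := hg.symm
    calc x = g⁻¹ * (g * x * g⁻¹) * g := by group
      _ = 1 := by rw [h2]; group
  have hcard : Nat.card K * Nat.card H = Nat.card G := by
    have h1 := hyp.bsT_eq (1 : H)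
    unfold bsT at h1
    have h2 : ∀ x : G, bsW (c x) (1 : H) = if x ∈ K then Fintype.card H else 0 := by
      intro x
      unfold bsW
      by_cases hx : x ∈ K
      · rw [if_pos hx, (hmem x).mp hx, ← Finset.card_univ]
        congr 1
        apply Finset.filter_true_of_mem
        intro z _
        simp
      · rw [if_neg hx, Finset.card_eq_zero, Finset.filter_eq_empty_iff]
        intro z _ hz
        apply hx
        rw [hmem]
        have h3 : c x = z⁻¹ * (z * c x * z⁻¹) * z := by group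
        rw [h3, hz]
        group
    simp_rw [h2] at h1
    rw [← Finset.sum_filter, Finset.sum_const, smul_eq_mul] at h1
    rw [Nat.card_eq_fintype_card (α := G), ← h1, Nat.card_eq_fintype_card (α := H)]
    congr 1
    exact Nat.subtype_card _ (by simp)
  have hcompl := Subgroup.isComplement'_of_card_mul_and_disjoint hcard (disjoint_iff.mpr hdisj)
  exact ⟨K, hKnormal, hcompl.sup_eq_top, hdisj⟩

end Count

end Cfsg.Agent.Helper15
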