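import Mathlib
import Cfsg.Prelude.Def_Characters
import Cfsg.Agent.Helper15.CharInner

set_option autoImplicit false

namespace Cfsg.Agent.Helper15

open scoped ComplexConjugate

section CharScalar

variable {G : Type*} [Group G] {V : Type*} [AddCommGroup V] [Module ℂ V]
  [FiniteDimensional ℂ V] (ρ : Representation ℂ G V)

/-- Central elements act as scalars in an irreducible representation. -/
theorem rep_central_scalar [ρ.IsIrreducible] {z : G} (hz : z ∈ Subgroup.center G) :
    ∃ c : ℂ, ρ z = c • (1 : Module.End ℂ V) := by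
  apply Cfsg.Agent.Helper80.schur_scalar ρ (ρ z)
  intro g
  rw [← map_mul, ← map_mul, Subgroup.mem_center_iff.mp hz g]

/-- An operator commuting with everything in the image is a scalar. -/
theorem rep_scalar_of_commute [ρ.IsIrreducible] {x : G} (hx : ∀ g, ρ x * ρ g = ρ g * ρ x) :
    ∃ c : ℂ, ρ x = c • (1 : Module.End ℂ V) :=
  Cfsg.Agent.Helper80.schur_scalar ρ (ρ x) hx

theorem norm_eq_one_of_rep_scalar [Finite G] [ρ.IsIrreducible] {x : G} {c : ℂ}
    (h : ρ x = c • (1 : Module.End ℂ V)) : ‖c‖ = 1 := by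
  have h1 : (ρ x) ^ orderOf x = 1 := by rw [← map_pow, pow_orderOf_eq_one, map_one]
  rw [h, smul_pow, one_pow] at h1
  have hpos := Cfsg.Agent.Helper80.rep_finrank_pos ρ
  have h2 : c ^ orderOf x = 1 := by
    have h3 := congrArg (LinearMap.trace ℂ V) h1
    rw [map_smul, LinearMap.trace_one, smul_eq_mul] at h3
    have h4 : (Module.finrank ℂ V : ℂ) ≠ 0 := by exact_mod_cast hpos.ne'
    have h5 : (c ^ orderOf x - 1) * (Module.finrank ℂ V : ℂ) = 0 := by
      rw [sub_mul, h3, one_mul, sub_self]
    rcases mul_eq_zero.mp h5 with h6 | h6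
    · exact sub_eq_zero.mp h6
    · exact absurd h6 h4
  exact Complex.norm_eq_one_of_pow_eq_one h2 (orderOf_pos x).ne'

theorem char_of_rep_scalar {x : G} {c : ℂ} (h : ρ x = c • (1 : Module.End ℂ V)) :
    ρ.character x = c * (Module.finrank ℂ V : ℂ) := by
  unfold Representation.character
  rw [h, map_smul, LinearMap.trace_one, smul_eq_mul]

theorem char_mul_of_rep_scalar {a : G} {c : ℂ} (h : ρ a = c • (1 : Module.End ℂ V)) (x : G) :
    ρ.character (a * x) = c * ρ.character x := by
  unfold Representation.character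
  rw [map_mul, h, smul_mul_assoc, one_mul, map_smul, smul_eq_mul]

theorem char_mul_conj_of_rep_scalar [Finite G] [ρ.IsIrreducible] {x : G} {c : ℂ}
    (h : ρ x = c • (1 : Module.End ℂ V)) :
    ρ.character x * conj (ρ.character x) = (Module.finrank ℂ V : ℂ) ^ 2 := by
  rw [char_of_rep_scalar ρ h, map_mul, Complex.conj_natCast]
  have h1 : c * conj c = 1 := by
    rw [Complex.mul_conj, Complex.normSq_eq_norm_sq, norm_eq_one_of_rep_scalar ρ h]
    simp
  linear_combination (Module.finrank ℂ V : ℂ) ^ 2 * h1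

end CharScalar

end Cfsg.Agent.Helper15
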