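import Mathlib
import Cfsg.Agent.Helper77.D1Defs2
import Cfsg.Agent.Helper29.D1ID
import Cfsg.Agent.Helper29.D1IE
import Cfsg.Agent.Helper29.D1IL
import Cfsg.Agent.Helper65.D1IF
import Cfsg.Agent.Helper79.S4441Setup
import Cfsg.Agent.Helper83.D1FZ
import Cfsg.Agent.Helper83.D1FQ1
import Cfsg.Agent.Helper29.D1FP
import Cfsg.Agent.Helper29.D1FS
import Cfsg.Agent.Helper84.D1FG
import Cfsg.Agent.Helper75.D1FV
import Cfsg.Agent.Helper65.D1FO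
import Cfsg.Agent.Helper24.D1FR
import Cfsg.Agent.Helper46.D1FQ2

/-!
# Blocks of defect one: piece FB of CALL S4442B (helper15)

Assembly of the nine pieces of the sub-CALL S4442FB.
-/

universe u
set_option autoImplicit false
open Cfsg Cfsg.Agent.Helper77
open scoped ComplexConjugate

namespace Cfsg.Agent.Helper15

variable {G : Type u} [Group G] [Finite G]

/-- PIECE FB of CALL S4442B. -/
theorem d1_fbound (p : ℕ) [Fact p.Prime]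
    (hLB : ∀ inst : Fintype G, @ThetaLatticeBoundStmt G _ inst p) (hcc : D1CCStmt G p)
    (hinj : D1InjStmt G p) : FBoundStmt G p := by
  classical
  intro x K M₀ h hM₀ hGM θ χ Ω hΩ
  haveI : Fintype G := Fintype.ofFinite G
  haveI : Fintype (Cfsg.IrrCharacter G) := Fintype.ofFinite _
  by_cases h0 : dco K (θ : K → ℂ) (χ : G → ℂ) x = 0
  · have hz : ∀ χ' ∈ Ω, dco K (θ : K → ℂ) (χ' : G → ℂ) x = 0 := fun χ' hχ' =>
      (Helper83.d1fb_inertial p x K h M₀ hM₀ hGM θ χ χ' ((hΩ χ').mp hχ')).mp h0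
    rw [Finset.sum_eq_zero hz, norm_zero]
    exact zero_le_one
  obtain ⟨E, F, hE, hF, hEF⟩ := Helper29.d1_units p x K h θ
  obtain ⟨𝒪, ℛ, hχ𝒪, h𝒪σ, h𝒪gal, hℛ𝒪, hℛrep, hpart⟩ := Helper83.d1fb_orbit_sets M₀ χ
  obtain ⟨Θ, Orb, hOrb, hOrbΘ, hΘform, hΘgal, hΘN⟩ := Helper46.d1fb_theta_set p x K h θ
  have hcardO := Helper65.d1fb_orbit_card p x K h θ E F hE hF Orb hOrb
  have hEpos : 0 < Nat.card E := Nat.card_pos
  have hrO : Nat.card F / Nat.card E = Orb.card := by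
    rw [← hcardO, Nat.mul_div_cancel _ hEpos]
  have hr0 : 0 < Nat.card F / Nat.card E :=
    Nat.div_pos (Subgroup.card_le_of_le hEF) hEpos
  let Ωf : Cfsg.IrrCharacter G → Finset (Cfsg.IrrCharacter G) := fun χ₀ =>
    Finset.univ.filter (fun χ' => galRel M₀ (χ₀ : G → ℂ) (χ' : G → ℂ))
  have hΩf : ∀ χ₀ χ' : Cfsg.IrrCharacter G,
      χ' ∈ Ωf χ₀ ↔ galRel M₀ (χ₀ : G → ℂ) (χ' : G → ℂ) := by
    intro χ₀ χ'
    simp [Ωf]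
  -- the value of the Galois-class sums
  have hW : ∀ χ₀ ∈ ℛ, ∑ χ' ∈ Ωf χ₀, ∑ θ' ∈ Θ, dco K (θ' : K → ℂ) (χ' : G → ℂ) x
      = (Orb.card : ℂ) * ∑ χ' ∈ Ω, dco K (θ : K → ℂ) (χ' : G → ℂ) x := by
    intro χ₀ hχ₀
    obtain ⟨σ, hσ⟩ := h𝒪σ χ₀ (hℛ𝒪 hχ₀)
    rw [Helper84.d1fb_W_galois K x M₀ Θ hΘgal χ χ₀ σ hσ Ω (Ωf χ₀) hΩ (hΩf χ₀),
      Helper75.d1fb_W_value p hcc hinj x K h M₀ hM₀ hGM θ χ h0 Ω hΩ Θ Orb hOrb hOrbΘ, map_mul,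
      map_natCast, Helper29.d1fb_sum_fixed p x K h M₀ hM₀ hGM θ χ Ω hΩ σ]
  have hS : ∑ θ' ∈ Θ, ∑ χ' ∈ 𝒪, dco K (θ' : K → ℂ) (χ' : G → ℂ) x
      = (ℛ.card : ℂ) * ((Orb.card : ℂ) * ∑ χ' ∈ Ω, dco K (θ : K → ℂ) (χ' : G → ℂ) x) := by
    rw [Finset.sum_comm,
      hpart Ωf hΩf (fun χ' => ∑ θ' ∈ Θ, dco K (θ' : K → ℂ) (χ' : G → ℂ) x),
      Finset.sum_congr rfl hW, Finset.sum_const, nsmul_eq_mul]
  -- degrees
  have hθ1 : ∀ θ' ∈ Θ, (θ' : K → ℂ) 1 = (θ : K → ℂ) 1 := by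
    intro θ' hθ'
    obtain ⟨σ, n₁, θ₁, hn₁, hθ₁, hσ⟩ := hΘform θ' hθ'
    have h1 : (θ₁ : K → ℂ) 1 = (θ : K → ℂ) 1 := hθ₁ 1 1 (by simp)
    rw [hσ 1, h1, Helper81.irr_one_eq_charDegree, map_natCast]
  have hχ1 : ∀ χ' ∈ 𝒪, (χ' : G → ℂ) 1 = (χ : G → ℂ) 1 := by
    intro χ' hχ'
    obtain ⟨σ, hσ⟩ := h𝒪σ χ' hχ'
    rw [hσ 1, Helper81.irr_one_eq_charDegree, map_natCast]
  have hdeg : ∀ θ' ∈ Θ, Cfsg.charDegree (θ' : K → ℂ) ≤ Cfsg.charDegree (θ : K → ℂ) := by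
    intro θ' hθ'
    have h1 := hθ1 θ' hθ'
    rw [Helper81.irr_one_eq_charDegree, Helper81.irr_one_eq_charDegree] at h1
    exact le_of_eq (by exact_mod_cast h1)
  have hpow : ∀ θ' ∈ Θ, ∀ n ∈ Subgroup.normalizer ((Subgroup.zpowers x : Subgroup G) : Set G),
      ∀ k k' : K, (k' : G) = n ^ (Nat.card F / Nat.card E) * (k : G)
        * (n ^ (Nat.card F / Nat.card E))⁻¹ → (θ' : K → ℂ) k' = (θ' : K → ℂ) k := by
    intro θ' hθ' n hn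
    obtain ⟨σ, n₁, θ₁, hn₁, hθ₁, hσ⟩ := hΘform θ' hθ'
    exact Helper24.d1fb_pow_stab p x K h θ E F hE hF hEF θ' θ₁ σ n₁ hn₁ hθ₁ hσ n hn
  have hlb := hLB (inferInstance : Fintype G) x K 𝒪 ℛ Θ M₀ (Cfsg.charDegree (θ : K → ℂ)) (Nat.card F / Nat.card E)
    h.hx h.hK h.hC h𝒪gal hM₀ hGM hℛrep hΘgal hΘN hdeg hr0 hpow
  -- rewrite the left-hand side
  have hterm : ∀ θ' ∈ Θ, ∀ χ' ∈ 𝒪,
      ∑ k : K, (χ' : G → ℂ) 1 * (θ' : K → ℂ) 1 * (χ' : G → ℂ) (x * (k : G))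
        * conj ((θ' : K → ℂ) k)
      = (χ : G → ℂ) 1 * (θ : K → ℂ) 1 * ((Nat.card K : ℂ)
        * dco K (θ' : K → ℂ) (χ' : G → ℂ) x) := by
    intro θ' hθ' χ' hχ'
    have hK0 : (Nat.card K : ℂ) ≠ 0 := by exact_mod_cast Nat.card_pos.ne'
    unfold dco
    rw [finsum_eq_sum_of_fintype, ← mul_assoc (Nat.card K : ℂ), mul_inv_cancel₀ hK0, one_mul,
      Finset.mul_sum, hθ1 θ' hθ', hχ1 χ' hχ']
    exact Finset.sum_congr rfl (fun k _ => by ring)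
  have hL : ∑ θ' ∈ Θ, ∑ χ' ∈ 𝒪, ∑ k : K, (χ' : G → ℂ) 1 * (θ' : K → ℂ) 1
        * (χ' : G → ℂ) (x * (k : G)) * conj ((θ' : K → ℂ) k)
      = (χ : G → ℂ) 1 * (θ : K → ℂ) 1 * ((Nat.card K : ℂ)
        * ((ℛ.card : ℂ) * ((Orb.card : ℂ)
          * ∑ χ' ∈ Ω, dco K (θ : K → ℂ) (χ' : G → ℂ) x))) := by
    rw [← hS, Finset.mul_sum, Finset.mul_sum]
    refine Finset.sum_congr rfl (fun θ' hθ' => ?_)
    rw [Finset.mul_sum, Finset.mul_sum]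
    exact Finset.sum_congr rfl (fun χ' hχ' => hterm θ' hθ' χ' hχ')
  have hR : ∑ χ₀ ∈ ℛ, (Cfsg.charDegree (χ₀ : G → ℂ) : ℝ)
      = (ℛ.card : ℝ) * (Cfsg.charDegree (χ : G → ℂ) : ℝ) := by
    have h3 : ∀ χ₀ ∈ ℛ, (Cfsg.charDegree (χ₀ : G → ℂ) : ℝ)
        = (Cfsg.charDegree (χ : G → ℂ) : ℝ) := by
      intro χ₀ hχ₀
      have h1 := hχ1 χ₀ (hℛ𝒪 hχ₀)
      rw [Helper81.irr_one_eq_charDegree, Helper81.irr_one_eq_charDegree] at h1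
      have h2 : Cfsg.charDegree (χ₀ : G → ℂ) = Cfsg.charDegree (χ : G → ℂ) := by
        exact_mod_cast h1
      rw [h2]
    rw [Finset.sum_congr rfl h3, Finset.sum_const, nsmul_eq_mul]
  rw [hL, hR, Helper81.irr_one_eq_charDegree, Helper81.irr_one_eq_charDegree, hrO] at hlb
  simp only [norm_mul, Complex.norm_natCast, Nat.cast_mul] at hlb
  have hc : (0 : ℝ) < (Cfsg.charDegree (χ : G → ℂ) : ℝ) := by
    have := Helper80.irr_one_ne_zero χ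
    rw [Helper81.irr_one_eq_charDegree] at this
    exact_mod_cast Nat.pos_of_ne_zero (by exact_mod_cast this)
  have hd : (0 : ℝ) < (Cfsg.charDegree (θ : K → ℂ) : ℝ) := by
    have := Helper80.irr_one_ne_zero θ
    rw [Helper81.irr_one_eq_charDegree] at this
    exact_mod_cast Nat.pos_of_ne_zero (by exact_mod_cast this)
  have hKp : (0 : ℝ) < (Nat.card K : ℝ) := by exact_mod_cast Nat.card_pos
  have hRp : (0 : ℝ) < (ℛ.card : ℝ) := by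
    obtain ⟨χ₀, hχ₀, -⟩ := hℛrep χ hχ𝒪
    exact_mod_cast Finset.card_pos.mpr ⟨χ₀, hχ₀⟩
  have hOp : (0 : ℝ) < (Orb.card : ℝ) := by
    rw [← hrO]
    exact_mod_cast hr0
  have hpos : (0 : ℝ) < (Cfsg.charDegree (χ : G → ℂ) : ℝ) * (Cfsg.charDegree (θ : K → ℂ) : ℝ)
      * ((Nat.card K : ℝ) * ((ℛ.card : ℝ) * (Orb.card : ℝ))) := by positivity
  have hfin : (Cfsg.charDegree (χ : G → ℂ) : ℝ) * (Cfsg.charDegree (θ : K → ℂ) : ℝ)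
      * ((Nat.card K : ℝ) * ((ℛ.card : ℝ) * (Orb.card : ℝ)))
        * ‖∑ χ' ∈ Ω, dco K (θ : K → ℂ) (χ' : G → ℂ) x‖
      ≤ (Cfsg.charDegree (χ : G → ℂ) : ℝ) * (Cfsg.charDegree (θ : K → ℂ) : ℝ)
      * ((Nat.card K : ℝ) * ((ℛ.card : ℝ) * (Orb.card : ℝ))) * 1 := by
    calc _ = (Cfsg.charDegree (χ : G → ℂ) : ℝ) * (Cfsg.charDegree (θ : K → ℂ) : ℝ)
          * ((Nat.card K : ℝ) * ((ℛ.card : ℝ) * ((Orb.card : ℝ)
            * ‖∑ χ' ∈ Ω, dco K (θ : K → ℂ) (χ' : G → ℂ) x‖))) := by ring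
      _ ≤ _ := hlb
      _ = _ := by ring
  exact le_of_mul_le_mul_left hfin hpos

end Cfsg.Agent.Helper15
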