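import Mathlib

set_option autoImplicit false
open Matrix

namespace Cfsg.Agent.Helper15

/-- Burnside's theorem: a subalgebra of `End_k V` acting irreducibly is everything
(`k` algebraically closed, `V` finite-dimensional). -/
theorem d1_burnside_abs {k : Type*} [Field k] [IsAlgClosed k] {V : Type*} [AddCommGroup V]
    [Module k V] [FiniteDimensional k V] [Nontrivial V]
    (S : Subalgebra k (Module.End k V))
    (hirr : ∀ U : Submodule k V, (∀ s ∈ S, ∀ u ∈ U, s u ∈ U) → U = ⊥ ∨ U = ⊤)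
    (g : Module.End k V) : g ∈ S := by
  classical
  haveI : IsSimpleModule S V := by
    rw [isSimpleModule_iff]
    refine { exists_pair_ne := ⟨⊥, ⊤, bot_ne_top⟩, eq_bot_or_eq_top := ?_ }
    intro U
    have h1 := hirr (U.restrictScalars k) (fun s hs u hu => U.smul_mem ⟨s, hs⟩ hu)
    rcases h1 with h1 | h1
    · left
      exact Submodule.restrictScalars_injective k S V (by rw [h1]; rfl)
    · right
      exact Submodule.restrictScalars_injective k S V (by rw [h1]; rfl)
  have hschur := IsSimpleModule.algebraMap_end_bijective_of_isAlgClosed (A := S) (V := V) k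
  let f : Module.End (Module.End S V) V :=
    { toFun := g
      map_add' := g.map_add
      map_smul' := fun φ v => by
        obtain ⟨c, rfl⟩ := hschur.2 φ
        simp }
  obtain ⟨r, hr⟩ := jacobson_density f (Finset.univ.image (Module.finBasis k V))
  have h2 : g = (r : Module.End k V) := by
    apply (Module.finBasis k V).ext
    intro i
    exact hr _ (Finset.mem_image_of_mem _ (Finset.mem_univ i))
  rw [h2]
  exact r.2

/-- PIECE LD2 of CALL S4442LD: Burnside's theorem in matrix form. -/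
theorem d1_burnside {k : Type*} [Field k] [IsAlgClosed k] {a : ℕ}
    (𝒮 : Set (Matrix (Fin a) (Fin a) k)) (W : Submodule k (Fin a → k))
    (hW : ∀ M ∈ 𝒮, ∀ w ∈ W, M *ᵥ w ∈ W) (hW0 : W ≠ ⊥)
    (hmin : ∀ W' : Submodule k (Fin a → k), W' ≤ W →
      (∀ M ∈ 𝒮, ∀ w ∈ W', M *ᵥ w ∈ W') → W' = ⊥ ∨ W' = W)
    (g : W →ₗ[k] W) :
    ∃ M ∈ Algebra.adjoin k 𝒮, ∀ w : W, M *ᵥ (w : Fin a → k) = ((g w : W) : Fin a → k) := by
  have : Nontrivial W := Submodule.nontrivial_iff_ne_bot.mpr hW0
  let S : Subalgebra k (Module.End k W) :=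
    { carrier := {φ | ∃ M ∈ Algebra.adjoin k 𝒮,
        ∀ w : W, M *ᵥ (w : Fin a → k) = ((φ w : W) : Fin a → k)}
      mul_mem' := by
        rintro φ₁ φ₂ ⟨M₁, hM₁, h₁⟩ ⟨M₂, hM₂, h₂⟩
        refine ⟨M₁ * M₂, Subalgebra.mul_mem _ hM₁ hM₂, fun w => ?_⟩
        rw [← Matrix.mulVec_mulVec, h₂, h₁]
        rfl
      add_mem' := by
        rintro φ₁ φ₂ ⟨M₁, hM₁, h₁⟩ ⟨M₂, hM₂, h₂⟩
        refine ⟨M₁ + M₂, Subalgebra.add_mem _ hM₁ hM₂, fun w => ?_⟩
        rw [Matrix.add_mulVec, h₁, h₂]
        rfl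
      algebraMap_mem' := by
        intro c
        refine ⟨algebraMap k _ c, Subalgebra.algebraMap_mem _ c, fun w => ?_⟩
        rw [Algebra.algebraMap_eq_smul_one, Matrix.smul_mulVec, Matrix.one_mulVec,
          Module.algebraMap_end_apply, Submodule.coe_smul] }
  have hmem : ∀ φ : Module.End k W, φ ∈ S ↔ ∃ M ∈ Algebra.adjoin k 𝒮,
        ∀ w : W, M *ᵥ (w : Fin a → k) = ((φ w : W) : Fin a → k) := fun φ => Iff.rfl
  have hW' : ∀ M ∈ 𝒮, ∀ w ∈ W, Matrix.toLin' M w ∈ W := fun M hM w hw => by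
    rw [Matrix.toLin'_apply]; exact hW M hM w hw
  have hres : ∀ (M : Matrix (Fin a) (Fin a) k) (hM : M ∈ 𝒮),
      (Matrix.toLin' M).restrict (hW' M hM) ∈ S := by
    intro M hM
    exact ⟨M, Algebra.subset_adjoin hM, fun w => by
      rw [LinearMap.coe_restrict_apply, Matrix.toLin'_apply]⟩
  have hirr : ∀ U : Submodule k W, (∀ s ∈ S, ∀ u ∈ U, s u ∈ U) → U = ⊥ ∨ U = ⊤ := by
    intro U hU
    have h1 := hmin (U.map W.subtype) (by
        rintro _ ⟨u, _, rfl⟩
        exact u.2) (by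
        rintro M hM _ ⟨u, hu, rfl⟩
        refine ⟨(Matrix.toLin' M).restrict (hW' M hM) u, hU _ (hres M hM) u hu, ?_⟩
        rw [Submodule.subtype_apply, LinearMap.coe_restrict_apply, Matrix.toLin'_apply]
        rfl)
    rcases h1 with h1 | h1
    · left
      rw [Submodule.eq_bot_iff]
      intro x hx
      have h2 : (x : Fin a → k) ∈ U.map W.subtype := ⟨x, hx, rfl⟩
      rw [h1, Submodule.mem_bot] at h2
      exact Subtype.ext h2
    · right
      rw [Submodule.eq_top_iff']
      intro x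
      have h2 : (x : Fin a → k) ∈ U.map W.subtype := by rw [h1]; exact x.2
      obtain ⟨u, hu, hux⟩ := h2
      have : u = x := Subtype.ext hux
      rw [← this]
      exact hu
  exact d1_burnside_abs S hirr g

end Cfsg.Agent.Helper15
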