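import Mathlib
import Cfsg.Prelude.Def_Characters
import Cfsg.Prelude.Def_Blocks
import Cfsg.Agent.Helper80.CharIrr

/-!
# Definitions for piece LD of CALL S4442L (helper15)

* `d1Val η h`: the value `η h` of an irreducible character as an algebraic integer.
* `d1E η`: the element `∑_h η(h⁻¹) h` of the group ring of `H` over the algebraic integers.
* `d1Phi 𝔐 R`: the extension of a matrix representation `R` of `H` over the residue ring
  `AlgInt ⧸ 𝔐` to the group ring over the algebraic integers.
-/

set_option autoImplicit false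
open Cfsg

namespace Cfsg.Agent.Helper15

universe u

/-- The value of an irreducible character as an algebraic integer. -/
noncomputable def d1Val {H : Type u} [Group H] [Finite H] (η : Cfsg.IrrCharacter H) (h : H) :
    Cfsg.AlgInt :=
  ⟨(η : H → ℂ) h, Helper80.isCharacter_isIntegral (Helper80.isCharacter_of_irr η.2) h⟩

theorem d1Val_coe {H : Type u} [Group H] [Finite H] (η : Cfsg.IrrCharacter H) (h : H) :
    ((d1Val η h : Cfsg.AlgInt) : ℂ) = (η : H → ℂ) h := rfl

/-- The group ring element `∑_h η(h⁻¹) h` over the algebraic integers. -/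
noncomputable def d1E {H : Type u} [Group H] [Fintype H] (η : Cfsg.IrrCharacter H) :
    MonoidAlgebra Cfsg.AlgInt H :=
  ∑ h : H, MonoidAlgebra.single h (d1Val η h⁻¹)

/-- The extension of a matrix representation over the residue ring to the group ring over the
algebraic integers. -/
noncomputable def d1Phi {H : Type u} [Group H] (𝔐 : Ideal Cfsg.AlgInt) {a : ℕ}
    (R : H →* Matrix (Fin a) (Fin a) (Cfsg.AlgInt ⧸ 𝔐)) :
    MonoidAlgebra Cfsg.AlgInt H →ₐ[Cfsg.AlgInt] Matrix (Fin a) (Fin a) (Cfsg.AlgInt ⧸ 𝔐) :=
  MonoidAlgebra.lift Cfsg.AlgInt (Matrix (Fin a) (Fin a) (Cfsg.AlgInt ⧸ 𝔐)) H R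

end Cfsg.Agent.Helper15
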