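import Mathlib
import Cfsg.Agent.Helper15.D1LDDefs
import Cfsg.Agent.Helper15.AlgIntMod
import Cfsg.Agent.Helper15.D1LD2
import Cfsg.Agent.Helper73.D1LD1
import Cfsg.Agent.Helper73.D1LD2c
import Cfsg.Agent.Helper76.D1LD3
import Cfsg.Agent.Helper41.D1LD5
import Cfsg.Agent.Helper4.D1LD6

/-!
# PIECE LD of CALL S4442L (helper77) — helper15

`d1_mod_dim`: a simple module `W` of a `p'`-group `H` over the residue field `AlgInt ⧸ 𝔐` on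
which the `Θ`-isotypic idempotent of `K ≤ H` acts as the identity has dimension at most `D`, a
bound for the degrees of the irreducible characters of `H` lying over `Θ`.

Assembly of the pieces of the sub-CALL S4442LD: `d1_isAlgClosed` (helper73), `d1_burnside`
(helper15), `d1_cyclic` (helper73), `d1_pi` (helper76), `d1_choose` (helper41),
`d1_theta_step` (helper4, using `d1_theta_coeff`).
-/

set_option autoImplicit false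
open Cfsg Matrix
open scoped ComplexConjugate

universe u

namespace Cfsg.Agent.Helper15

theorem d1_aeval_mulVec {k : Type*} [CommRing k] {a : ℕ} (M : Matrix (Fin a) (Fin a) k)
    (Q : Polynomial k) (s : ℕ) (hs : Q.natDegree < s) (w : Fin a → k) :
    Polynomial.aeval M Q *ᵥ w = ∑ i : Fin s, Q.coeff i • (M ^ (i : ℕ) *ᵥ w) := by
  rw [Polynomial.aeval_eq_sum_range' hs, Finset.sum_range, Matrix.sum_mulVec]
  exact Finset.sum_congr rfl (fun i _ => Matrix.smul_mulVec _ _ _)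

/-- The dimension bound: if `d1Phi 𝔐 R (d1E η)` is injective on the simple module `W` then
`dim W ≤ η(1)`. -/
theorem d1_final {H : Type u} [Group H] [Fintype H] (p : ℕ) [Fact p.Prime]
    (𝔐 : Ideal Cfsg.AlgInt) (h𝔐 : Cfsg.IsPModular p 𝔐)
    {a : ℕ} (R : H →* Matrix (Fin a) (Fin a) (Cfsg.AlgInt ⧸ 𝔐))
    (W : Submodule (Cfsg.AlgInt ⧸ 𝔐) (Fin a → Cfsg.AlgInt ⧸ 𝔐))
    (hW : ∀ h, ∀ w ∈ W, R h *ᵥ w ∈ W) (hW0 : W ≠ ⊥)
    (hmin : ∀ W' : Submodule (Cfsg.AlgInt ⧸ 𝔐) (Fin a → Cfsg.AlgInt ⧸ 𝔐), W' ≤ W →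
      (∀ h, ∀ w ∈ W', R h *ᵥ w ∈ W') → W' = ⊥ ∨ W' = W)
    (η : Cfsg.IrrCharacter H)
    (hinj : ∀ w ∈ W, d1Phi 𝔐 R (d1E η) *ᵥ w = 0 → w = 0) :
    Module.finrank (Cfsg.AlgInt ⧸ 𝔐) W ≤ Cfsg.charDegree (η : H → ℂ) := by
  haveI : 𝔐.IsMaximal := h𝔐.2.1
  letI : Field (Cfsg.AlgInt ⧸ 𝔐) := Ideal.Quotient.field 𝔐
  haveI : IsAlgClosed (Cfsg.AlgInt ⧸ 𝔐) := Helper73.d1_isAlgClosed 𝔐
  by_contra hlt
  rw [not_le] at hlt
  have hB := d1_burnside (Set.range R) W (by rintro _ ⟨h, rfl⟩ w hw; exact hW h w hw) hW0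
    (fun W' hle hst => hmin W' hle (fun h w hw => hst _ ⟨h, rfl⟩ w hw))
  obtain ⟨M, hM, w, hw, hMw, hli⟩ :=
    Helper73.d1_cyclic (Algebra.adjoin (Cfsg.AlgInt ⧸ 𝔐) (Set.range R)) W hB
  have hlift : ∀ M ∈ Algebra.adjoin (Cfsg.AlgInt ⧸ 𝔐) (Set.range R),
      ∃ x, d1Phi 𝔐 R x = M := by
    intro M hM
    induction hM using Algebra.adjoin_induction with
    | mem M hM =>
      obtain ⟨h, rfl⟩ := hM
      exact ⟨MonoidAlgebra.single h 1, by simp [d1Phi]⟩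
    | algebraMap c =>
      obtain ⟨c', rfl⟩ := Ideal.Quotient.mk_surjective c
      refine ⟨MonoidAlgebra.single 1 c', ?_⟩
      simp only [d1Phi, MonoidAlgebra.lift_single, map_one]
      rw [Algebra.algebraMap_eq_smul_one]
      rfl
    | add M N _ _ hM hN =>
      obtain ⟨x, rfl⟩ := hM
      obtain ⟨y, rfl⟩ := hN
      exact ⟨x + y, map_add _ _ _⟩
    | mul M N _ _ hM hN =>
      obtain ⟨x, rfl⟩ := hM
      obtain ⟨y, rfl⟩ := hN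
      exact ⟨x * y, map_mul _ _ _⟩
  obtain ⟨x, hx⟩ := hlift M hM
  obtain ⟨P, hPm, hPd, hPE⟩ := Helper76.d1_pi η x
  have h1 : d1Phi 𝔐 R (d1E η) * Polynomial.aeval M P = 0 := by
    rw [← hx, Polynomial.aeval_algHom_apply, ← map_mul, hPE, map_zero]
  set s := Module.finrank (Cfsg.AlgInt ⧸ 𝔐) W with hs
  set Pk := P.map (algebraMap Cfsg.AlgInt (Cfsg.AlgInt ⧸ 𝔐)) with hPk
  have h2 : Polynomial.aeval M P = Polynomial.aeval M Pk :=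
    (Polynomial.aeval_map_algebraMap (Cfsg.AlgInt ⧸ 𝔐) M P).symm
  have h3 : Polynomial.aeval M P *ᵥ w = ∑ i : Fin s, Pk.coeff i • (M ^ (i : ℕ) *ᵥ w) := by
    rw [h2]
    exact d1_aeval_mulVec M Pk s
      (lt_of_le_of_lt Polynomial.natDegree_map_le (hPd ▸ hlt)) w
  have h4 : Polynomial.aeval M P *ᵥ w ∈ W := by
    rw [h3]
    exact Submodule.sum_mem _ (fun i _ => Submodule.smul_mem _ _ (hMw i))
  have h5 : Polynomial.aeval M P *ᵥ w = 0 := by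
    apply hinj _ h4
    rw [Matrix.mulVec_mulVec, h1, Matrix.zero_mulVec]
  rw [h3] at h5
  have h6 := Fintype.linearIndependent_iff.mp hli (fun i => Pk.coeff i) h5
    ⟨Cfsg.charDegree (η : H → ℂ), hlt⟩
  simp only [hPk, Polynomial.coeff_map] at h6
  rw [← hPd, hPm.coeff_natDegree, map_one] at h6
  exact one_ne_zero h6

/-- PIECE LD of CALL S4442L. -/
theorem d1_mod_dim {G : Type u} [Group G] [Finite G] (p : ℕ) [Fact p.Prime]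
    (𝔐 : Ideal Cfsg.AlgInt) (h𝔐 : Cfsg.IsPModular p 𝔐)
    (H K : Subgroup G) (hKH : K ≤ H) (hp : ¬ p ∣ Nat.card H)
    (Θ : Finset (Cfsg.IrrCharacter K)) (cΘ : K → ℤ)
    (hcΘ : ∀ k : K, ((cΘ k : ℤ) : ℂ) = ∑ θ ∈ Θ, (θ : K → ℂ) 1 * conj ((θ : K → ℂ) k))
    (D : ℕ)
    (hD : ∀ η : Cfsg.IrrCharacter H,
      (∃ θ ∈ Θ, ∑ᶠ k : K, (η : H → ℂ) ⟨(k : G), hKH k.2⟩ * conj ((θ : K → ℂ) k) ≠ 0) →
        Cfsg.charDegree (η : H → ℂ) ≤ D)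
    {a : ℕ} (R : H →* Matrix (Fin a) (Fin a) (Cfsg.AlgInt ⧸ 𝔐))
    (hΘ : ∑ᶠ k : K, ((cΘ k : ℤ) : Cfsg.AlgInt ⧸ 𝔐) • R ⟨(k : G), hKH k.2⟩
      = ((Nat.card K : ℕ) : Cfsg.AlgInt ⧸ 𝔐) • (1 : Matrix (Fin a) (Fin a) (Cfsg.AlgInt ⧸ 𝔐)))
    (W : Submodule (Cfsg.AlgInt ⧸ 𝔐) (Fin a → Cfsg.AlgInt ⧸ 𝔐))
    (hW : ∀ h, ∀ w ∈ W, R h *ᵥ w ∈ W) (hW0 : W ≠ ⊥)
    (hmin : ∀ W' : Submodule (Cfsg.AlgInt ⧸ 𝔐) (Fin a → Cfsg.AlgInt ⧸ 𝔐), W' ≤ W →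
      (∀ h, ∀ w ∈ W', R h *ᵥ w ∈ W') → W' = ⊥ ∨ W' = W) :
    Module.finrank (Cfsg.AlgInt ⧸ 𝔐) W ≤ D := by
  haveI : Fintype H := Fintype.ofFinite H
  obtain ⟨η, hη0, hηinj⟩ := Helper41.d1_choose p 𝔐 h𝔐 hp R W hW hW0 hmin
  have hfin := d1_final p 𝔐 h𝔐 R W hW hW0 hmin η hηinj
  refine hfin.trans (hD η ?_)
  haveI : 𝔐.IsMaximal := h𝔐.2.1
  letI : Field (Cfsg.AlgInt ⧸ 𝔐) := Ideal.Quotient.field 𝔐
  have hKdvd : Nat.card K ∣ Nat.card H := Subgroup.card_dvd_of_le hKH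
  have hpK : ¬ p ∣ Nat.card K := fun h => hp (h.trans hKdvd)
  have hc : IsUnit ((Nat.card K : ℕ) : Cfsg.AlgInt ⧸ 𝔐) := by
    rw [isUnit_iff_ne_zero]
    haveI := algInt_charP p 𝔐 h𝔐
    intro h0
    exact hpK ((CharP.cast_eq_zero_iff (Cfsg.AlgInt ⧸ 𝔐) p _).mp h0)
  exact Helper4.d1_theta_step (Subgroup.inclusion hKH) 𝔐 R Θ cΘ hcΘ _ hc hΘ η hη0

end Cfsg.Agent.Helper15
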