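import Mathlib
import Cfsg.Prelude.Def_Characters
import Cfsg.Prelude.Def_Blocks
import Cfsg.Agent.Helper39.LatP7

/-!
# PIECE LG of CALL S4442L (helper77) — helper15

`d1_geb_core`: the eigenvalue count of `Helper39.lat_eigen_bound` for a general matrix
`Γ = ∑ q, w q • γ q` (each `w q` zero or an `M₁`-th root of unity) and abstract eigen-data
modulo an `AlgInt`-lattice `S`.
-/

set_option autoImplicit false
open Cfsg Matrix
universe u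

namespace Cfsg.Agent.Helper15

open Polynomial
open Cfsg.Agent.Helper39

/-- `Γ = ∑ q, w q • γ q`. -/
noncomputable def d1Gam {N Q : ℕ} (w : Fin Q → ℂ) (γ : Fin Q → Matrix (Fin N) (Fin N) ℤ) :
    Matrix (Fin N) (Fin N) ℂ :=
  ∑ q : Fin Q, w q • (γ q).map (Int.castRingHom ℂ)

theorem d1Gam_apply {N Q : ℕ} (w : Fin Q → ℂ) (γ : Fin Q → Matrix (Fin N) (Fin N) ℤ)
    (k l : Fin N) : d1Gam w γ k l = ∑ q : Fin Q, w q * ((γ q k l : ℤ) : ℂ) := by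
  simp [d1Gam, Matrix.sum_apply]

theorem d1Gam_comm {G : Type u} [Group G] {N Q : ℕ} (w : Fin Q → ℂ)
    (γ : Fin Q → Matrix (Fin N) (Fin N) ℤ) (ρ : G →* Matrix (Fin N) (Fin N) ℤ)
    (hγ : ∀ q g, γ q * ρ g = ρ g * γ q) (g : G) :
    d1Gam w γ * latRhoC ρ g = latRhoC ρ g * d1Gam w γ := by
  unfold d1Gam
  rw [Finset.sum_mul, Finset.mul_sum]
  refine Finset.sum_congr rfl (fun i _ => ?_)
  rw [Matrix.smul_mul, Matrix.mul_smul, latRhoC_apply, ← Matrix.map_mul, ← Matrix.map_mul, hγ]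

theorem d1Gam_mem {N Q : ℕ} (w : Fin Q → ℂ) (hw : ∀ q, w q ∈ Cfsg.AlgInt)
    (γ : Fin Q → Matrix (Fin N) (Fin N) ℤ) (k l : Fin N) : d1Gam w γ k l ∈ Cfsg.AlgInt := by
  rw [d1Gam_apply]
  exact Subalgebra.sum_mem _ (fun i _ =>
    Subalgebra.mul_mem _ (hw i) (Subalgebra.intCast_mem _ _))

theorem d1Gam_map {N Q : ℕ} (w : Fin Q → ℂ) (γ : Fin Q → Matrix (Fin N) (Fin N) ℤ)
    (τ : ℂ ≃+* ℂ) (hτ : ∀ q, τ (w q) = w q) : (d1Gam w γ).map τ = d1Gam w γ := by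
  ext k l
  rw [Matrix.map_apply, d1Gam_apply, map_sum]
  refine Finset.sum_congr rfl (fun i _ => ?_)
  rw [map_mul, hτ, map_intCast]

theorem d1Gam_mem_cyc {N Q : ℕ} (w : Fin Q → ℂ) (γ : Fin Q → Matrix (Fin N) (Fin N) ℤ)
    (n : ℕ) (hw : ∀ q, w q ∈ Helper75.cycField n) (k l : Fin N) :
    d1Gam w γ k l ∈ Helper75.cycField n := by
  rw [d1Gam_apply]
  exact sum_mem (fun i _ => mul_mem (hw i) (intCast_mem _ _))

/-- PIECE LG of CALL S4442L. -/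
theorem d1_geb_core {G : Type u} [Group G] [Fintype G] (p : ℕ) [Fact p.Prime] {N : ℕ}
    (ρ : G →* Matrix (Fin N) (Fin N) ℤ) (𝒪 ℛ : Finset (Cfsg.IrrCharacter G))
    (m : Cfsg.IrrCharacter G → ℕ)
    (htr : ∀ g : G, (((ρ g).trace : ℤ) : ℂ) = ∑ χ ∈ 𝒪, (m χ : ℂ) * (χ : G → ℂ) g)
    (hℛ𝒪 : ℛ ⊆ 𝒪) (M₁ : ℕ) (hM₁ : ¬ p ∣ M₁) (hGM : Nat.card G ∣ p * M₁)
    (hℛ : ∀ χ ∈ 𝒪, ∃ χ₀ ∈ ℛ, ∃ τ : ℂ ≃+* ℂ, (∀ w : ℂ, w ^ M₁ = 1 → τ w = w) ∧
      ∀ g : G, (χ : G → ℂ) g = τ ((χ₀ : G → ℂ) g))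
    (𝔐 : Ideal Cfsg.AlgInt) (h𝔐 : Cfsg.IsPModular p 𝔐)
    (Q : ℕ) (γ : Fin Q → Matrix (Fin N) (Fin N) ℤ) (hγ : ∀ q g, γ q * ρ g = ρ g * γ q)
    (w : Fin Q → ℂ) (hw : ∀ q, w q = 0 ∨ w q ^ M₁ = 1)
    (S : Submodule Cfsg.AlgInt (Fin N → ℂ))
    (hS : ∀ v ∈ S, (∑ q, w q • (γ q).map (Int.castRingHom ℂ)) *ᵥ v ∈ S)
    (ν : ℕ) (Y Λ : Fin ν → (Fin N → ℂ)) (lam : Fin ν → ℂ)
    (hlamA : ∀ j, lam j ∈ Cfsg.AlgInt)
    (hΛS : ∀ j, ∀ v ∈ S, Helper39.latInM 𝔐 (Λ j ⬝ᵥ v))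
    (hΛY : ∀ j, Λ j ⬝ᵥ Y j ∈ Cfsg.AlgInt ∧ ¬ Helper39.latInM 𝔐 (Λ j ⬝ᵥ Y j))
    (hY : ∀ j, (∑ q, w q • (γ q).map (Int.castRingHom ℂ)) *ᵥ Y j - lam j • Y j ∈ S)
    (hlam0 : ∀ j, ¬ Helper39.latInM 𝔐 (lam j))
    (hlaminj : ∀ j j', j ≠ j' → ¬ Helper39.latInM 𝔐 (lam j - lam j')) :
    ν ≤ ∑ χ ∈ ℛ, m χ := by
  classical
  have hpp : p.Prime := Fact.out
  have hM0 : M₁ ≠ 0 := fun h => hM₁ (h ▸ dvd_zero p)
  have hpM0 : p * M₁ ≠ 0 := Nat.mul_ne_zero hpp.ne_zero hM0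
  have hmod := h𝔐
  have h𝔐' : 𝔐.IsPrime := hmod.2.1.isPrime
  have hpM : latInM 𝔐 (p : ℂ) := ⟨(p : Cfsg.AlgInt), hmod.2.2, by simp⟩
  change ∀ v ∈ S, d1Gam w γ *ᵥ v ∈ S at hS
  change ∀ j, d1Gam w γ *ᵥ Y j - lam j • Y j ∈ S at hY
  have hwA : ∀ q, w q ∈ Cfsg.AlgInt := by
    intro q
    rcases hw q with h | h
    · rw [h]; exact Subalgebra.zero_mem _
    · exact IsIntegral.of_pow (Nat.pos_of_ne_zero hM0) (by rw [h]; exact isIntegral_one)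
  have hwcyc : ∀ q, w q ∈ Helper75.cycField (p * M₁) := by
    intro q
    rcases hw q with h | h
    · rw [h]; exact zero_mem _
    · exact Helper75.mem_cycField_of_pow_eq_one _ hpM0 (by rw [mul_comm, pow_mul, h, one_pow])
  have hwτ : ∀ τ : ℂ ≃+* ℂ, (∀ z : ℂ, z ^ M₁ = 1 → τ z = z) → ∀ q, τ (w q) = w q := by
    intro τ hτ q
    rcases hw q with h | h
    · rw [h, map_zero]
    · exact hτ _ h
  have htrC : ∀ g : G, (latRhoC ρ g).trace = ∑ χ ∈ 𝒪, (m χ : ℂ) * (χ : G → ℂ) g := by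
    intro g
    rw [latRhoC_trace]
    exact htr g
  have hcomm : ∀ g, d1Gam w γ * latRhoC ρ g = latRhoC ρ g * d1Gam w γ :=
    d1Gam_comm w γ ρ hγ
  have he2 : ∀ χ : Cfsg.IrrCharacter G,
      Helper75.isoIdem (latRhoC ρ) (χ : G → ℂ) * Helper75.isoIdem (latRhoC ρ) (χ : G → ℂ)
        = Helper75.isoIdem (latRhoC ρ) (χ : G → ℂ) :=
    fun χ => Helper80.lat_isoIdem_idem _ χ
  have hce : ∀ χ : Cfsg.IrrCharacter G,
      d1Gam w γ * Helper75.isoIdem (latRhoC ρ) (χ : G → ℂ)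
        = Helper75.isoIdem (latRhoC ρ) (χ : G → ℂ) * d1Gam w γ :=
    fun χ => lat_comm_isoIdem _ _ hcomm _
  have hsum : ∑ χ ∈ 𝒪, Helper75.isoIdem (latRhoC ρ) (χ : G → ℂ) = 1 :=
    Helper80.lat_isoIdem_sum _ 𝒪 m htrC
  have hcount : ∀ χ ∈ 𝒪,
      ((d1Gam w γ * Helper75.isoIdem (latRhoC ρ) (χ : G → ℂ)).charpoly.roots.toFinset.erase
        0).card ≤ m χ :=
    fun χ hχ => Helper80.lat_isoIdem_count _ 𝒪 m htrC _ hcomm χ hχ
  have hΓA : ∀ k l, d1Gam w γ k l ∈ Cfsg.AlgInt := d1Gam_mem w hwA γ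
  have hroot : ∀ (χ : Cfsg.IrrCharacter G) (r : ℂ),
      (d1Gam w γ * Helper75.isoIdem (latRhoC ρ) (χ : G → ℂ)).charpoly.IsRoot r →
        r ∈ Cfsg.AlgInt :=
    fun χ r hr => lat_root_mem _ _ hΓA (he2 χ) (hce χ) r hr
  have hlift : ∀ χ : Cfsg.IrrCharacter G,
      (d1Gam w γ * Helper75.isoIdem (latRhoC ρ) (χ : G → ℂ)).charpoly
        ∈ Polynomial.lifts (algebraMap Cfsg.AlgInt ℂ) :=
    fun χ => lat_charpoly_lifts _ (hroot χ)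
  have hQ0 : aeval (d1Gam w γ)
      (∏ χ ∈ 𝒪, (d1Gam w γ * Helper75.isoIdem (latRhoC ρ) (χ : G → ℂ)).charpoly) = 0 :=
    lat_aeval_prod_eq_zero _ 𝒪 _ (fun χ _ => he2 χ) (fun χ _ => hce χ) hsum
  have hQl : (∏ χ ∈ 𝒪, (d1Gam w γ * Helper75.isoIdem (latRhoC ρ) (χ : G → ℂ)).charpoly)
      ∈ Polynomial.lifts (algebraMap Cfsg.AlgInt ℂ) :=
    Subsemiring.prod_mem _ (fun χ _ => hlift χ)
  -- the key claim: every `j` gives a nonzero root congruent to `lam j`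
  have key : ∀ j : Fin ν, ∃ χ₀ ∈ ℛ, ∃ r : ℂ,
      r ∈ ((d1Gam w γ * Helper75.isoIdem (latRhoC ρ) (χ₀ : G → ℂ)).charpoly.roots.toFinset.erase
        0) ∧ latInM 𝔐 (lam j - r) := by
    intro j
    have h1 : latInM 𝔐
        ((∏ χ ∈ 𝒪, (d1Gam w γ * Helper75.isoIdem (latRhoC ρ) (χ : G → ℂ)).charpoly).eval
          (lam j)) := by
      have h5 := lat_poly_congr S (d1Gam w γ) hS (Y j) (lam j) (hlamA j) (hY j) _ hQl
      rw [hQ0, Matrix.zero_mulVec, zero_sub, neg_mem_iff] at h5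
      have h6 := hΛS j _ h5
      rw [dotProduct_smul, smul_eq_mul] at h6
      rcases latInM_mul_prime h𝔐' (lat_lifts_eval hQl (hlamA j)) (hΛY j).1 h6 with h7 | h7
      · exact h7
      · exact absurd h7 (hΛY j).2
    rw [Polynomial.eval_prod] at h1
    obtain ⟨χ, hχ, h2⟩ := latInM_finset_prod h𝔐' 𝒪 _
      (fun χ _ => lat_lifts_eval (hlift χ) (hlamA j)) h1
    obtain ⟨χ₀, hχ₀, τ, hτ, hχτ⟩ := hℛ χ hχ
    refine ⟨χ₀, hχ₀, ?_⟩
    have h3 : (d1Gam w γ * Helper75.isoIdem (latRhoC ρ) (χ : G → ℂ)).charpoly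
        = (d1Gam w γ * Helper75.isoIdem (latRhoC ρ) (χ₀ : G → ℂ)).charpoly.map
            (τ : ℂ →+* ℂ) := by
      rw [← Matrix.charpoly_map]
      congr 1
      have h31 : (d1Gam w γ * Helper75.isoIdem (latRhoC ρ) (χ₀ : G → ℂ)).map (τ : ℂ →+* ℂ)
          = (d1Gam w γ).map τ * (Helper75.isoIdem (latRhoC ρ) (χ₀ : G → ℂ)).map τ :=
        Matrix.map_mul
      rw [h31, d1Gam_map w γ τ (hwτ τ hτ), ← lat_isoIdem_map ρ _ _ τ hχτ]
    have hdeg : ∀ χ' : Cfsg.IrrCharacter G,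
        (d1Gam w γ * Helper75.isoIdem (latRhoC ρ) (χ' : G → ℂ)).charpoly.natDegree < N + 1 := by
      intro χ'
      rw [Matrix.charpoly_natDegree_eq_dim, Fintype.card_fin]
      exact Nat.lt_succ_self N
    have h4 : latInM 𝔐
        ((d1Gam w γ * Helper75.isoIdem (latRhoC ρ) (χ : G → ℂ)).charpoly.eval (lam j)
          - (d1Gam w γ * Helper75.isoIdem (latRhoC ρ) (χ₀ : G → ℂ)).charpoly.eval (lam j)) := by
      rw [Polynomial.eval_eq_sum_range' (hdeg χ), Polynomial.eval_eq_sum_range' (hdeg χ₀),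
        ← Finset.sum_sub_distrib]
      refine latInM_sum _ _ (fun k _ => ?_)
      rw [h3, Polynomial.coeff_map, ← sub_mul]
      refine latInM_mul_right ?_ (Subalgebra.pow_mem _ (hlamA j) k)
      obtain ⟨μ, hμ, hμe⟩ := Helper46.lat_cyclo p 𝔐 h𝔐' hmod.2.2 M₁ (p * M₁) 1 hM₁ hpM0
        (by rw [pow_one]) τ hτ
        ((d1Gam w γ * Helper75.isoIdem (latRhoC ρ) (χ₀ : G → ℂ)).charpoly.coeff k)
        (lat_charpoly_coeff_mem_cyc _ _ (fun i l => by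
          rw [Matrix.mul_apply]
          exact sum_mem (fun x _ => mul_mem (d1Gam_mem_cyc w γ _ hwcyc i x)
            (lat_isoIdem_mem_cyc ρ χ₀ _ hpM0 hGM x l))) k)
        (lat_lifts_coeff (hlift χ₀) k)
      exact ⟨μ, hμ, hμe⟩
    have h5 : latInM 𝔐
        ((d1Gam w γ * Helper75.isoIdem (latRhoC ρ) (χ₀ : G → ℂ)).charpoly.eval (lam j)) := by
      have h51 := latInM_sub h2 h4
      rwa [sub_sub_cancel] at h51
    rw [(IsAlgClosed.splits _).eval_eq_prod_roots, (Matrix.charpoly_monic _).leadingCoeff,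
      one_mul] at h5
    obtain ⟨z, hz, hz'⟩ := latInM_multiset_prod h𝔐' _ (by
      intro z hz
      obtain ⟨r, hr, rfl⟩ := Multiset.mem_map.mp hz
      exact Subalgebra.sub_mem _ (hlamA j)
        (hroot χ₀ r ((Polynomial.mem_roots (Matrix.charpoly_monic _).ne_zero).mp hr))) h5
    obtain ⟨r, hr, rfl⟩ := Multiset.mem_map.mp hz
    refine ⟨r, Finset.mem_erase.mpr ⟨?_, Multiset.mem_toFinset.mpr hr⟩, hz'⟩
    rintro rfl
    rw [sub_zero] at hz'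
    exact hlam0 j hz'
  choose χ₀ hχ₀ r hr hrM using key
  have hinj : Function.Injective
      (fun j : Fin ν => (⟨χ₀ j, r j⟩ : Σ _ : Cfsg.IrrCharacter G, ℂ)) := by
    intro j j' hjj
    have h1 : r j = r j' := by
      have := congrArg Sigma.snd hjj
      exact this
    by_contra hne
    have h2 := latInM_sub (hrM j) (hrM j')
    rw [h1, sub_sub_sub_cancel_right] at h2
    exact hlaminj j j' hne h2
  have hcard : ν ≤ (ℛ.sigma (fun χ : Cfsg.IrrCharacter G =>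
      (d1Gam w γ * Helper75.isoIdem (latRhoC ρ) (χ : G → ℂ)).charpoly.roots.toFinset.erase
        0)).card := by
    have h1 := Finset.card_le_card_of_injOn (s := (Finset.univ : Finset (Fin ν)))
      (t := ℛ.sigma (fun χ : Cfsg.IrrCharacter G =>
        (d1Gam w γ * Helper75.isoIdem (latRhoC ρ) (χ : G → ℂ)).charpoly.roots.toFinset.erase 0))
      (fun j : Fin ν => (⟨χ₀ j, r j⟩ : Σ _ : Cfsg.IrrCharacter G, ℂ))
      (fun j _ => Finset.mem_sigma.mpr ⟨hχ₀ j, hr j⟩) (fun j _ j' _ h => hinj h)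
    simpa using h1
  rw [Finset.card_sigma] at hcard
  exact hcard.trans (Finset.sum_le_sum (fun χ hχ => hcount χ (hℛ𝒪 hχ)))

end Cfsg.Agent.Helper15
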