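import Mathlib
import Cfsg.Prelude.Def_Characters
import Cfsg.Agent.Helper3.IndFun

/-!
# Induced linear characters in a regular wreath product

For the regular wreath product `M ≀ᵣ Q` we compute the characters induced from
two kinds of linear characters:

* `baseSub H`, the product of subgroups `H x ≤ M` inside the base group, with the product
  of homomorphisms `μ x : H x →* ℂˣ`;
* `fullSub J`, the wreath product `J ≀ᵣ Q` inside `M ≀ᵣ Q`, with the homomorphism
  `(f, q) ↦ ν q * ∏ x, μ (f x)`.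
-/

set_option autoImplicit false

namespace Cfsg.Agent.Helper15

open scoped ComplexConjugate
open RegularWreathProduct

variable {M : Type*} [Group M] {Q : Type*} [Group Q]

theorem wr_conj_right (v w : M ≀ᵣ Q) :
    (v⁻¹ * w * v).right = v.right⁻¹ * w.right * v.right := rfl

theorem wr_conj_left (v w : M ≀ᵣ Q) (hw : w.right = 1) (x : Q) :
    (v⁻¹ * w * v).left x
      = (v.left (v.right * x))⁻¹ * w.left (v.right * x) * v.left (v.right * x) := by
  simp [hw]

theorem wr_sum [Fintype M] [Fintype Q] [DecidableEq Q] [Fintype (M ≀ᵣ Q)] (F : M ≀ᵣ Q → ℂ) :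
    ∑ w : M ≀ᵣ Q, F w = ∑ q : Q, ∑ f : Q → M, F ⟨f, q⟩ := by
  rw [Fintype.sum_equiv (equivProd M Q) F (fun p => F ⟨p.1, p.2⟩) (fun w => rfl),
    Fintype.sum_prod_type_right]

/-- The product of the subgroups `H x` inside the base group of the wreath product. -/
def baseSub (H : Q → Subgroup M) : Subgroup (M ≀ᵣ Q) where
  carrier := {w | w.right = 1 ∧ ∀ x, w.left x ∈ H x}
  mul_mem' := by
    rintro a b ⟨ha1, ha⟩ ⟨hb1, hb⟩
    refine ⟨by simp [ha1, hb1], fun x => ?_⟩
    simp only [RegularWreathProduct.mul_left, Pi.mul_apply, ha1, inv_one, one_mul]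
    exact (H x).mul_mem (ha x) (hb x)
  one_mem' := ⟨rfl, fun x => (H x).one_mem⟩
  inv_mem' := by
    rintro a ⟨ha1, ha⟩
    refine ⟨by simp [ha1], fun x => ?_⟩
    simp only [RegularWreathProduct.inv_left, Pi.inv_apply, ha1, one_mul]
    exact (H x).inv_mem (ha x)

theorem mem_baseSub (H : Q → Subgroup M) (w : M ≀ᵣ Q) :
    w ∈ baseSub H ↔ w.right = 1 ∧ ∀ x, w.left x ∈ H x := Iff.rfl

/-- The wreath product `J ≀ᵣ Q` as a subgroup of `M ≀ᵣ Q`. -/
def fullSub (Q : Type*) [Group Q] (J : Subgroup M) : Subgroup (M ≀ᵣ Q) where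
  carrier := {w | ∀ x, w.left x ∈ J}
  mul_mem' := by
    rintro a b ha hb x
    simp only [RegularWreathProduct.mul_left, Pi.mul_apply]
    exact J.mul_mem (ha x) (hb _)
  one_mem' := fun x => J.one_mem
  inv_mem' := by
    rintro a ha x
    simp only [RegularWreathProduct.inv_left, Pi.inv_apply]
    exact J.inv_mem (ha _)

theorem mem_fullSub (J : Subgroup M) (w : M ≀ᵣ Q) :
    w ∈ fullSub Q J ↔ ∀ x, w.left x ∈ J := Iff.rfl

theorem indFun_apply' {G : Type*} [Group G] [Fintype G] (H : Subgroup G) (θ : H → ℂ) (g : G) :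
    Cfsg.indFun H θ g = (Nat.card H : ℂ)⁻¹ * ∑ x : G, Cfsg.extendByZero H θ (x⁻¹ * g * x) := rfl

section homs

variable [Fintype Q] [DecidableEq Q]

/-- The product of the homomorphisms `μ x` on `baseSub H`. -/
noncomputable def baseHom (H : Q → Subgroup M) (μ : ∀ x, H x →* ℂˣ) : baseSub H →* ℂˣ where
  toFun w := ∏ x, μ x ⟨w.1.left x, w.2.2 x⟩
  map_one' := by
    apply Finset.prod_eq_one
    intro x _
    have : (⟨(1 : baseSub H).1.left x, (1 : baseSub H).2.2 x⟩ : H x) = 1 := Subtype.ext rfl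
    rw [this, map_one]
  map_mul' := by
    intro a b
    rw [← Finset.prod_mul_distrib]
    apply Finset.prod_congr rfl
    intro x _
    rw [← map_mul]
    congr 1
    apply Subtype.ext
    have ha1 : a.1.right = 1 := a.2.1
    simp [ha1]

/-- The homomorphism `(f, q) ↦ ν q * ∏ x, μ (f x)` on `fullSub Q J`. -/
noncomputable def fullHom (J : Subgroup M) (μ : J →* ℂˣ) (ν : Q →* ℂˣ) : fullSub Q J →* ℂˣ where
  toFun w := ν w.1.right * ∏ x, μ ⟨w.1.left x, w.2 x⟩
  map_one' := by
    have h1 : ∏ x : Q, μ ⟨(1 : fullSub Q J).1.left x, (1 : fullSub Q J).2 x⟩ = 1 := by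
      apply Finset.prod_eq_one
      intro x _
      have : (⟨(1 : fullSub Q J).1.left x, (1 : fullSub Q J).2 x⟩ : J) = 1 := Subtype.ext rfl
      rw [this, map_one]
    rw [h1, mul_one]
    exact map_one ν
  map_mul' := by
    intro a b
    have h1 : ∏ x : Q, μ ⟨(a * b).1.left x, (a * b).2 x⟩
        = (∏ x : Q, μ ⟨a.1.left x, a.2 x⟩) *
          ∏ x : Q, μ ⟨b.1.left (a.1.right⁻¹ * x), b.2 _⟩ := by
      rw [← Finset.prod_mul_distrib]
      apply Finset.prod_congr rfl
      intro x _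
      rw [← map_mul]
      congr 1
    have h2 : ∏ x : Q, μ ⟨b.1.left (a.1.right⁻¹ * x), b.2 _⟩
        = ∏ x : Q, μ ⟨b.1.left x, b.2 x⟩ :=
      Fintype.prod_equiv (Equiv.mulLeft a.1.right⁻¹) _ _ (fun x => rfl)
    rw [h1, h2]
    have h3 : ν (a * b).1.right = ν a.1.right * ν b.1.right := by
      rw [← map_mul]; rfl
    rw [h3]
    exact mul_mul_mul_comm _ _ _ _

theorem baseHom_apply (H : Q → Subgroup M) (μ : ∀ x, H x →* ℂˣ) (w : baseSub H) :
    baseHom H μ w = ∏ x, μ x ⟨w.1.left x, w.2.2 x⟩ := rfl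

theorem fullHom_apply (J : Subgroup M) (μ : J →* ℂˣ) (ν : Q →* ℂˣ) (w : fullSub Q J) :
    fullHom J μ ν w = ν w.1.right * ∏ x, μ ⟨w.1.left x, w.2 x⟩ := rfl

theorem extendByZero_baseHom (H : Q → Subgroup M) (μ : ∀ x, H x →* ℂˣ) (w : M ≀ᵣ Q) :
    Cfsg.extendByZero (baseSub H) (fun h => ((baseHom H μ h : ℂˣ) : ℂ)) w
      = if w.right = 1 then
          ∏ x, Cfsg.extendByZero (H x) (fun h => ((μ x h : ℂˣ) : ℂ)) (w.left x)
        else 0 := by
  classical
  by_cases hw : w ∈ baseSub H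
  · rw [Cfsg.Agent.Helper3.extendByZero_of_mem _ _ hw, if_pos hw.1, baseHom_apply,
      Units.coe_prod]
    apply Finset.prod_congr rfl
    intro x _
    rw [Cfsg.Agent.Helper3.extendByZero_of_mem _ _ (hw.2 x)]
  · rw [Cfsg.Agent.Helper3.extendByZero_of_not_mem _ _ hw]
    by_cases h1 : w.right = 1
    · rw [if_pos h1]
      have : ∃ x, w.left x ∉ H x := by
        by_contra hcon
        push Not at hcon
        exact hw ⟨h1, hcon⟩
      obtain ⟨x, hx⟩ := this
      symm
      apply Finset.prod_eq_zero (Finset.mem_univ x)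
      rw [Cfsg.Agent.Helper3.extendByZero_of_not_mem _ _ hx]
    · rw [if_neg h1]

theorem extendByZero_fullHom (J : Subgroup M) (μ : J →* ℂˣ) (ν : Q →* ℂˣ) (w : M ≀ᵣ Q) :
    Cfsg.extendByZero (fullSub Q J) (fun h => ((fullHom J μ ν h : ℂˣ) : ℂ)) w
      = ((ν w.right : ℂˣ) : ℂ) *
          ∏ x, Cfsg.extendByZero J (fun h => ((μ h : ℂˣ) : ℂ)) (w.left x) := by
  classical
  by_cases hw : w ∈ fullSub Q J
  · rw [Cfsg.Agent.Helper3.extendByZero_of_mem _ _ hw, fullHom_apply, Units.val_mul,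
      Units.coe_prod]
    congr 1
    apply Finset.prod_congr rfl
    intro x _
    rw [Cfsg.Agent.Helper3.extendByZero_of_mem _ _ (hw x)]
  · rw [Cfsg.Agent.Helper3.extendByZero_of_not_mem _ _ hw]
    have : ∃ x, w.left x ∉ J := by
      by_contra hcon
      push Not at hcon
      exact hw hcon
    obtain ⟨x, hx⟩ := this
    symm
    apply mul_eq_zero_of_right
    apply Finset.prod_eq_zero (Finset.mem_univ x)
    rw [Cfsg.Agent.Helper3.extendByZero_of_not_mem _ _ hx]

end homs

section cards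

variable [Finite M] [Fintype Q]

theorem card_baseSub (H : Q → Subgroup M) :
    Nat.card (baseSub H) = ∏ x, Nat.card (H x) := by
  classical
  have e : baseSub H ≃ (∀ x, H x) :=
    { toFun := fun w x => ⟨w.1.left x, w.2.2 x⟩
      invFun := fun g => ⟨⟨fun x => (g x : M), 1⟩, rfl, fun x => (g x).2⟩
      left_inv := by
        intro w
        apply Subtype.ext
        apply RegularWreathProduct.ext
        · rfl
        · exact w.2.1.symm
      right_inv := by
        intro g
        rfl }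
  rw [Nat.card_congr e, Nat.card_pi]

theorem card_fullSub (J : Subgroup M) :
    Nat.card (fullSub Q J) = Nat.card J ^ Nat.card Q * Nat.card Q := by
  classical
  have e : fullSub Q J ≃ (Q → J) × Q :=
    { toFun := fun w => (fun x => ⟨w.1.left x, w.2 x⟩, w.1.right)
      invFun := fun p => ⟨⟨fun x => (p.1 x : M), p.2⟩, fun x => (p.1 x).2⟩
      left_inv := by
        intro w
        rfl
      right_inv := by
        intro p
        rfl }
  rw [Nat.card_congr e, Nat.card_prod, Nat.card_fun]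

end cards

section formulas

variable [Fintype M] [Fintype Q] [DecidableEq Q]

/-- The basic sum: averaging the product of extensions by zero over all conjugating
functions gives the product of the induced functions. -/
theorem wr_conj_sum (H : Q → Subgroup M) (θ : ∀ x, H x → ℂ) (f : Q → M) (q : Q) :
    ∑ g : Q → M, ∏ x, Cfsg.extendByZero (H x) (θ x) ((g (q * x))⁻¹ * f (q * x) * g (q * x))
      = ∏ x, ((Nat.card (H x) : ℂ) * Cfsg.indFun (H x) (θ x) (f (q * x))) := by
  have h1 : ∑ g : Q → M,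
        ∏ x, Cfsg.extendByZero (H x) (θ x) ((g (q * x))⁻¹ * f (q * x) * g (q * x))
      = ∑ g : Q → M, ∏ x, Cfsg.extendByZero (H x) (θ x) ((g x)⁻¹ * f (q * x) * g x) := by
    apply Fintype.sum_equiv ((Equiv.mulLeft q⁻¹).arrowCongr (Equiv.refl M))
    intro g
    apply Finset.prod_congr rfl
    intro x _
    simp [Equiv.arrowCongr]
  rw [h1, ← Fintype.prod_sum (fun x m => Cfsg.extendByZero (H x) (θ x) (m⁻¹ * f (q * x) * m))]
  apply Finset.prod_congr rfl
  intro x _
  rw [indFun_apply']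
  have hne : (Nat.card (H x) : ℂ) ≠ 0 := by
    exact_mod_cast Nat.card_pos.ne'
  rw [← mul_assoc, mul_inv_cancel₀ hne, one_mul]

/-- The character induced from the product character of a product subgroup of the base. -/
theorem indFun_baseHom [Fintype (M ≀ᵣ Q)] (H : Q → Subgroup M) (μ : ∀ x, H x →* ℂˣ)
    (w : M ≀ᵣ Q) :
    Cfsg.indFun (baseSub H) (fun h => ((baseHom H μ h : ℂˣ) : ℂ)) w
      = if w.right = 1 then
          ∑ q : Q, ∏ x, Cfsg.indFun (H x) (fun h => ((μ x h : ℂˣ) : ℂ)) (w.left (q * x))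
        else 0 := by
  rw [indFun_apply' (baseSub H)]
  by_cases h1 : w.right = 1
  · rw [if_pos h1, wr_sum]
    have h2 : ∀ q : Q, ∑ g : Q → M,
        Cfsg.extendByZero (baseSub H) (fun h => ((baseHom H μ h : ℂˣ) : ℂ))
          ((⟨g, q⟩ : M ≀ᵣ Q)⁻¹ * w * ⟨g, q⟩)
        = ∏ x, ((Nat.card (H x) : ℂ) *
            Cfsg.indFun (H x) (fun h => ((μ x h : ℂˣ) : ℂ)) (w.left (q * x))) := by
      intro q
      rw [← wr_conj_sum H (fun x h => ((μ x h : ℂˣ) : ℂ)) w.left q]
      apply Finset.sum_congr rfl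
      intro g _
      have hr : ((⟨g, q⟩ : M ≀ᵣ Q)⁻¹ * w * ⟨g, q⟩).right = 1 := by
        rw [wr_conj_right, h1]; simp
      rw [extendByZero_baseHom, if_pos hr]
      apply Finset.prod_congr rfl
      intro x _
      rw [wr_conj_left _ _ h1]
    simp only [h2, Finset.prod_mul_distrib]
    rw [← Finset.mul_sum, card_baseSub, Nat.cast_prod, ← mul_assoc]
    have hne : (∏ x, (Nat.card (H x) : ℂ)) ≠ 0 := by
      apply Finset.prod_ne_zero_iff.mpr
      intro x _
      exact_mod_cast Nat.card_pos.ne'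
    rw [inv_mul_cancel₀ hne, one_mul]
  · rw [if_neg h1]
    apply mul_eq_zero_of_right
    apply Finset.sum_eq_zero
    intro v _
    rw [extendByZero_baseHom, if_neg]
    rw [wr_conj_right]
    intro hcon
    apply h1
    have := congrArg (fun t => v.right * t * v.right⁻¹) hcon
    simpa [mul_assoc] using this

/-- Twisting the induced character of `fullSub` by a character of the quotient. -/
theorem indFun_fullHom_twist [Fintype (M ≀ᵣ Q)] (J : Subgroup M) (μ : J →* ℂˣ) (ν : Q →* ℂˣ)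
    (w : M ≀ᵣ Q) :
    Cfsg.indFun (fullSub Q J) (fun h => ((fullHom J μ ν h : ℂˣ) : ℂ)) w
      = ((ν w.right : ℂˣ) : ℂ) *
        Cfsg.indFun (fullSub Q J) (fun h => ((fullHom J μ 1 h : ℂˣ) : ℂ)) w := by
  rw [indFun_apply', indFun_apply']
  have key : ∑ v : M ≀ᵣ Q, Cfsg.extendByZero (fullSub Q J)
        (fun h => ((fullHom J μ ν h : ℂˣ) : ℂ)) (v⁻¹ * w * v)
      = ((ν w.right : ℂˣ) : ℂ) * ∑ v : M ≀ᵣ Q, Cfsg.extendByZero (fullSub Q J)
        (fun h => ((fullHom J μ 1 h : ℂˣ) : ℂ)) (v⁻¹ * w * v) := by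
    rw [Finset.mul_sum]
    apply Finset.sum_congr rfl
    intro v _
    rw [extendByZero_fullHom, extendByZero_fullHom]
    have h1 : ν (v⁻¹ * w * v).right = ν w.right := by
      rw [wr_conj_right, map_mul, map_mul, map_inv, mul_comm, ← mul_assoc, mul_inv_cancel,
        one_mul]
    rw [h1]
    simp
  rw [key]
  ring

/-- The character induced from `fullHom J μ 1`, on the base group, is the product character. -/
theorem indFun_fullHom_base [Fintype (M ≀ᵣ Q)] (J : Subgroup M) (μ : J →* ℂˣ)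
    (w : M ≀ᵣ Q) (h1 : w.right = 1) :
    Cfsg.indFun (fullSub Q J) (fun h => ((fullHom J μ 1 h : ℂˣ) : ℂ)) w
      = ∏ x, Cfsg.indFun J (fun h => ((μ h : ℂˣ) : ℂ)) (w.left x) := by
  rw [indFun_apply' (fullSub Q J)]
  rw [wr_sum]
  have h2 : ∀ q : Q, ∑ g : Q → M,
      Cfsg.extendByZero (fullSub Q J) (fun h => ((fullHom J μ 1 h : ℂˣ) : ℂ))
        ((⟨g, q⟩ : M ≀ᵣ Q)⁻¹ * w * ⟨g, q⟩)
      = (Nat.card J : ℂ) ^ Fintype.card Q *
          ∏ x, Cfsg.indFun J (fun h => ((μ h : ℂˣ) : ℂ)) (w.left x) := by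
    intro q
    have h3 := wr_conj_sum (fun _ : Q => J) (fun _ h => ((μ h : ℂˣ) : ℂ)) w.left q
    rw [Finset.prod_mul_distrib] at h3
    rw [Finset.prod_const, Finset.card_univ] at h3
    have h4 : ∏ x : Q, Cfsg.indFun J (fun h => ((μ h : ℂˣ) : ℂ)) (w.left (q * x))
        = ∏ x : Q, Cfsg.indFun J (fun h => ((μ h : ℂˣ) : ℂ)) (w.left x) :=
      Fintype.prod_equiv (Equiv.mulLeft q) _ _ (fun x => rfl)
    rw [h4] at h3
    rw [← h3]
    apply Finset.sum_congr rfl
    intro g _
    rw [extendByZero_fullHom]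
    simp only [MonoidHom.one_apply, Units.val_one, one_mul]
    apply Finset.prod_congr rfl
    intro x _
    rw [wr_conj_left _ _ h1]
  simp only [h2]
  rw [Finset.sum_const, Finset.card_univ, card_fullSub, nsmul_eq_mul]
  have hJ : (Nat.card J : ℂ) ≠ 0 := by exact_mod_cast Nat.card_pos.ne'
  have hQ : (Fintype.card Q : ℂ) ≠ 0 := by exact_mod_cast Fintype.card_pos.ne'
  rw [Nat.card_eq_fintype_card (α := Q)]
  push_cast
  field_simp

end formulas

end Cfsg.Agent.Helper15
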