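import Mathlib
import Cfsg.Prelude.Def_Characters
import Cfsg.Agent.Helper15.WreathBase
import Cfsg.Agent.Helper3.Induced
import Cfsg.Agent.Helper3.MGroup
import Cfsg.Agent.Helper79.Basic
import Cfsg.Agent.Helper15.CharInner
import Cfsg.Agent.Helper15.Gallagher
import Cfsg.Agent.Helper80.CharIrr
import Cfsg.Agent.Helper80.CharOrtho

/-!
# The wreath product of an M-group with a group of prime order is an M-group

`wreath_mgroup`: if every irreducible character of `M` is induced from a linear character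
of a subgroup, and `Q` has prime order, then the same holds for `M ≀ᵣ Q`.

The proof avoids Clifford theory: the regular character of `M ≀ᵣ Q` is written as a
non-negative combination of explicit monomial characters (`wrPsi`), each of which is
irreducible or a sum of irreducible monomial characters.
-/

set_option autoImplicit false

namespace Cfsg.Agent.Helper15

open scoped ComplexConjugate Classical
open RegularWreathProduct Cfsg

universe u

variable {M : Type u} [Group M] [Fintype M] {Q : Type u} [Group Q] [Fintype Q] [DecidableEq Q]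

/-- The class function of the wreath product attached to a family of functions on `M`:
zero off the base group, and `∑ q, ∏ x, ψ x (f (q * x))` at `(f, 1)`. -/
noncomputable def wrPsi (ψ : Q → M → ℂ) (w : M ≀ᵣ Q) : ℂ :=
  if w.right = 1 then ∑ q : Q, ∏ x, ψ x (w.left (q * x)) else 0

theorem wr_sum_base [Fintype (M ≀ᵣ Q)] (F : M ≀ᵣ Q → ℂ) (hF : ∀ w, w.right ≠ 1 → F w = 0) :
    ∑ w, F w = ∑ f : Q → M, F ⟨f, 1⟩ := by
  rw [wr_sum]
  apply Finset.sum_eq_single 1
  · intro q _ hq
    apply Finset.sum_eq_zero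
    intro f _
    exact hF _ hq
  · intro h
    exact absurd (Finset.mem_univ _) h

theorem wr_card [Fintype (M ≀ᵣ Q)] :
    (Nat.card (M ≀ᵣ Q) : ℂ) = (Fintype.card M : ℂ) ^ Fintype.card Q * (Fintype.card Q : ℂ) := by
  rw [RegularWreathProduct.card, Nat.card_eq_fintype_card, Nat.card_eq_fintype_card]
  push_cast
  rfl

/-- Orthogonality for products of irreducible characters. -/
theorem wr_prod_ortho (a b : Q → IrrCharacter M) :
    ∑ f : Q → M, (∏ y, (a y : M → ℂ) (f y)) * conj (∏ y, (b y : M → ℂ) (f y))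
      = ∏ y, (if a y = b y then (Fintype.card M : ℂ) else 0) := by
  classical
  have h1 : ∀ f : Q → M, (∏ y, (a y : M → ℂ) (f y)) * conj (∏ y, (b y : M → ℂ) (f y))
      = ∏ y, ((a y : M → ℂ) (f y) * conj ((b y : M → ℂ) (f y))) := by
    intro f
    rw [map_prod, Finset.prod_mul_distrib]
  simp only [h1]
  rw [← Fintype.prod_sum (fun y m => (a y : M → ℂ) m * conj ((b y : M → ℂ) m))]
  apply Finset.prod_congr rfl
  intro y _
  rw [Cfsg.Agent.Helper80.irr_orthogonality_conj]

/-- The functions `wrPsi` of tuples of irreducible characters add up to the regular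
character of the wreath product. -/
theorem wrPsi_regular [Fintype (IrrCharacter M)] (w : M ≀ᵣ Q) :
    ∑ ψ : Q → IrrCharacter M, (∏ x, (ψ x : M → ℂ) 1) * wrPsi (fun x => (ψ x : M → ℂ)) w
      = if w = 1 then (Fintype.card Q : ℂ) * (Fintype.card M : ℂ) ^ Fintype.card Q else 0 := by
  classical
  unfold wrPsi
  by_cases h1 : w.right = 1
  · simp only [if_pos h1]
    have h2 : ∑ ψ : Q → IrrCharacter M, (∏ x, (ψ x : M → ℂ) 1) *
          ∑ q : Q, ∏ x, (ψ x : M → ℂ) (w.left (q * x))
        = ∑ q : Q, ∏ x : Q, ∑ φ : IrrCharacter M,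
            (φ : M → ℂ) 1 * (φ : M → ℂ) (w.left (q * x)) := by
      simp only [Finset.mul_sum]
      rw [Finset.sum_comm]
      apply Finset.sum_congr rfl
      intro q _
      rw [Fintype.prod_sum (fun x (φ : IrrCharacter M) =>
        (φ : M → ℂ) 1 * (φ : M → ℂ) (w.left (q * x)))]
      apply Finset.sum_congr rfl
      intro ψ _
      rw [Finset.prod_mul_distrib]
    rw [h2]
    simp only [Cfsg.Agent.Helper80.irr_sum_degree_mul]
    by_cases hw : w = 1
    · rw [if_pos hw]
      have hl : ∀ x, w.left x = 1 := by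
        intro x
        rw [hw]
        rfl
      simp only [hl, if_true, Finset.prod_const, Finset.sum_const, Finset.card_univ,
        nsmul_eq_mul]
    · rw [if_neg hw]
      have : ∃ x₀, w.left x₀ ≠ 1 := by
        by_contra hcon
        push Not at hcon
        apply hw
        apply RegularWreathProduct.ext
        · funext x
          exact hcon x
        · exact h1
      obtain ⟨x₀, hx₀⟩ := this
      apply Finset.sum_eq_zero
      intro q _
      apply Finset.prod_eq_zero (Finset.mem_univ (q⁻¹ * x₀))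
      rw [mul_inv_cancel_left, if_neg hx₀]
  · simp only [if_neg h1, mul_zero, Finset.sum_const_zero]
    rw [if_neg]
    intro hw
    apply h1
    rw [hw]
    rfl

/-- A tuple of irreducible characters which is not constant has trivial stabilizer
under translation, if `Q` has prime order. -/
theorem wr_shift_eq {α : Type*} (hp : (Nat.card Q).Prime) (ψ : Q → α)
    (hψ : ¬ ∀ x, ψ x = ψ 1) (q q' : Q) (h : ∀ y, ψ (q⁻¹ * y) = ψ (q'⁻¹ * y)) : q = q' := by
  by_contra hne
  have hr : q'⁻¹ * q ≠ 1 := by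
    intro h1
    apply hne
    have := congrArg (fun t => q' * t) h1
    simpa using this
  have hshift : ∀ z, ψ ((q'⁻¹ * q) * z) = ψ z := by
    intro z
    have := h (q * z)
    rw [inv_mul_cancel_left] at this
    rw [this, mul_assoc]
  have hpow : ∀ (k : ℕ) (z : Q), ψ ((q'⁻¹ * q) ^ k * z) = ψ z := by
    intro k
    induction k with
    | zero => intro z; simp
    | succ k ih =>
      intro z
      rw [pow_succ, mul_assoc, ih, hshift]
  have : Fact (Nat.card Q).Prime := ⟨hp⟩
  have htop : Subgroup.zpowers (q'⁻¹ * q) = ⊤ := zpowers_eq_top_of_prime_card rfl hr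
  apply hψ
  intro x
  have hx : x ∈ Subgroup.zpowers (q'⁻¹ * q) := by rw [htop]; trivial
  obtain ⟨k, hk⟩ := (mem_zpowers_iff_mem_range_orderOf.mp hx : x ∈ Finset.image
    (fun i => (q'⁻¹ * q) ^ i) (Finset.range (orderOf (q'⁻¹ * q)))) |> Finset.mem_image.mp
  have := hpow k 1
  rw [mul_one, hk.2] at this
  exact this

/-- Norm of `wrPsi` for a non-constant tuple. -/
theorem wrPsi_norm [Fintype (M ≀ᵣ Q)] (hp : (Nat.card Q).Prime) (ψ : Q → IrrCharacter M)
    (hψ : ¬ ∀ x, ψ x = ψ 1) :
    classInner (wrPsi (fun x => (ψ x : M → ℂ))) (wrPsi (fun x => (ψ x : M → ℂ))) = 1 := by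
  classical
  unfold classInner
  rw [wr_sum_base]
  · have h1 : ∀ f : Q → M,
        wrPsi (fun x => (ψ x : M → ℂ)) (⟨f, 1⟩ : M ≀ᵣ Q) *
          conj (wrPsi (fun x => (ψ x : M → ℂ)) (⟨f, 1⟩ : M ≀ᵣ Q))
        = ∑ q : Q, ∑ q' : Q, (∏ y, (ψ (q⁻¹ * y) : M → ℂ) (f y)) *
            conj (∏ y, (ψ (q'⁻¹ * y) : M → ℂ) (f y)) := by
      intro f
      unfold wrPsi
      simp only [if_true]
      rw [map_sum, Finset.sum_mul]
      apply Finset.sum_congr rfl
      intro q _
      rw [Finset.mul_sum]
      apply Finset.sum_congr rfl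
      intro q' _
      have e1 : ∏ x, (ψ x : M → ℂ) (f (q * x)) = ∏ y, (ψ (q⁻¹ * y) : M → ℂ) (f y) :=
        Fintype.prod_equiv (Equiv.mulLeft q) _ _ (fun x => by simp)
      have e2 : ∏ x, (ψ x : M → ℂ) (f (q' * x)) = ∏ y, (ψ (q'⁻¹ * y) : M → ℂ) (f y) :=
        Fintype.prod_equiv (Equiv.mulLeft q') _ _ (fun x => by simp)
      rw [e1, e2]
    simp only [h1]
    rw [Finset.sum_comm]
    have h2 : ∀ q : Q, ∑ f : Q → M, ∑ q' : Q, (∏ y, (ψ (q⁻¹ * y) : M → ℂ) (f y)) *
            conj (∏ y, (ψ (q'⁻¹ * y) : M → ℂ) (f y))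
        = (Fintype.card M : ℂ) ^ Fintype.card Q := by
      intro q
      rw [Finset.sum_comm]
      rw [Finset.sum_eq_single q]
      · rw [wr_prod_ortho]
        simp
      · intro q' _ hq'
        rw [wr_prod_ortho]
        have : ∃ y, ψ (q⁻¹ * y) ≠ ψ (q'⁻¹ * y) := by
          by_contra hcon
          push Not at hcon
          exact hq' (wr_shift_eq hp ψ hψ q q' hcon).symm
        obtain ⟨y, hy⟩ := this
        apply Finset.prod_eq_zero (Finset.mem_univ y)
        rw [if_neg hy]
      · intro h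
        exact absurd (Finset.mem_univ _) h
    simp only [h2]
    rw [Finset.sum_const, Finset.card_univ, nsmul_eq_mul, wr_card]
    have hM : (Fintype.card M : ℂ) ≠ 0 := by exact_mod_cast Fintype.card_pos.ne'
    have hQ : (Fintype.card Q : ℂ) ≠ 0 := by exact_mod_cast Fintype.card_pos.ne'
    field_simp
  · intro w hw
    unfold wrPsi
    rw [if_neg hw, zero_mul]

/-- **The wreath product of an M-group with a group of prime order is an M-group.** -/
theorem wreath_mgroup (hp : (Nat.card Q).Prime)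
    (hM : ∀ χ : M → ℂ, IsIrrCharacter M χ →
      ∃ (H : Subgroup M) (lam : H →* ℂˣ), χ = indFun H (fun h => ((lam h : ℂˣ) : ℂ)))
    [Fintype (M ≀ᵣ Q)] (χ : M ≀ᵣ Q → ℂ) (hχ : IsIrrCharacter (M ≀ᵣ Q) χ) :
    ∃ (H : Subgroup (M ≀ᵣ Q)) (lam : H →* ℂˣ), χ = indFun H (fun h => ((lam h : ℂˣ) : ℂ)) := by
  classical
  letI : Fintype (IrrCharacter M) := Fintype.ofFinite _
  have hMne : (Fintype.card M : ℂ) ≠ 0 := by exact_mod_cast Fintype.card_pos.ne'
  have hQne : (Fintype.card Q : ℂ) ≠ 0 := by exact_mod_cast Fintype.card_pos.ne'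
  -- some `wrPsi` is not orthogonal to `χ`
  have hex : ∃ ψ : Q → IrrCharacter M,
      classInner χ (wrPsi (fun x => (ψ x : M → ℂ))) ≠ 0 := by
    by_contra hcon
    push Not at hcon
    set R : M ≀ᵣ Q → ℂ := ∑ ψ : Q → IrrCharacter M,
      (∏ x, (ψ x : M → ℂ) 1) • wrPsi (fun x => (ψ x : M → ℂ)) with hRdef
    have h1 : classInner χ R = 0 := by
      rw [hRdef, classInner_sum_right]
      apply Finset.sum_eq_zero
      intro ψ _
      rw [classInner_smul_right, hcon, mul_zero]
    have hR : ∀ w, R w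
        = if w = 1 then (Fintype.card Q : ℂ) * (Fintype.card M : ℂ) ^ Fintype.card Q else 0 := by
      intro w
      rw [← wrPsi_regular w, hRdef, Finset.sum_apply]
      rfl
    have h2 : classInner χ R = χ 1 := by
      unfold classInner
      rw [Finset.sum_eq_single 1]
      · rw [hR 1, if_pos rfl, wr_card]
        simp only [map_mul, map_pow, Complex.conj_natCast]
        field_simp
      · intro w _ hw
        rw [hR w, if_neg hw, map_zero, mul_zero]
      · intro h
        exact absurd (Finset.mem_univ _) h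
    have h3 : χ 1 ≠ 0 := Cfsg.Agent.Helper80.irr_one_ne_zero ⟨χ, hχ⟩
    exact h3 (h2 ▸ h1)
  obtain ⟨ψ, hψ⟩ := hex
  by_cases hconst : ∀ x, ψ x = ψ 1
  · -- constant tuple: extend the product character
    obtain ⟨J, μ, hJμ⟩ := hM (ψ 1 : M → ℂ) (ψ 1).2
    set Φ : M ≀ᵣ Q → ℂ :=
      indFun (fullSub Q J) (fun h => ((fullHom J μ 1 h : ℂˣ) : ℂ)) with hΦdef
    have hΦchar : IsCharacter (M ≀ᵣ Q) Φ :=
      Cfsg.Agent.Helper3.isCharacter_indFun _ _
        (isChar_of_irr (Cfsg.Agent.Helper79.isIrrCharacter_of_hom (fullHom J μ 1)))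
    have hΦbase : ∀ w : M ≀ᵣ Q, w.right = 1 → Φ w = ∏ x, (ψ 1 : M → ℂ) (w.left x) := by
      intro w h1
      rw [hΦdef, indFun_fullHom_base _ _ _ h1, ← hJμ]
    have hPsi : ∀ w : M ≀ᵣ Q, wrPsi (fun x => (ψ x : M → ℂ)) w
        = if w.right = 1 then (Fintype.card Q : ℂ) * Φ w else 0 := by
      intro w
      unfold wrPsi
      by_cases h1 : w.right = 1
      · rw [if_pos h1, if_pos h1, hΦbase w h1]
        have h2 : ∀ q : Q, ∏ x, (ψ x : M → ℂ) (w.left (q * x))
            = ∏ x, (ψ 1 : M → ℂ) (w.left x) := by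
          intro q
          simp only [hconst]
          exact Fintype.prod_equiv (Equiv.mulLeft q) _ _ (fun x => rfl)
        simp only [h2]
        rw [Finset.sum_const, Finset.card_univ, nsmul_eq_mul]
      · rw [if_neg h1, if_neg h1]
    letI : Fintype (IrrCharacter Q) := Fintype.ofFinite _
    have hQcomm : ∀ a b : Q, a * b = b * a := by
      have : Fact (Nat.card Q).Prime := ⟨hp⟩
      have : IsCyclic Q := isCyclic_of_prime_card rfl
      intro a b
      exact (IsCyclic.commGroup (α := Q)).mul_comm a b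
    have hlin : ∀ lam : IrrCharacter Q, (lam : Q → ℂ) 1 = 1 :=
      fun lam => Cfsg.Agent.Helper3.irr_apply_one_of_comm hQcomm lam.2
    set Ξ : IrrCharacter Q → (M ≀ᵣ Q → ℂ) :=
      fun lam w => (lam : Q → ℂ) w.right * Φ w with hΞdef
    have hΞchar : ∀ lam, IsCharacter (M ≀ᵣ Q) (Ξ lam) := by
      intro lam
      have h1 : IsCharacter (M ≀ᵣ Q) (fun w => (lam : Q → ℂ) (rightHom w)) :=
        Cfsg.Agent.Helper79.isCharacter_comp (isChar_of_irr lam.2) rightHom
      exact Cfsg.Agent.Helper79.isCharacter_mul h1 hΦchar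
    have hPsiSum : wrPsi (fun x => (ψ x : M → ℂ)) = ∑ lam : IrrCharacter Q, Ξ lam := by
      funext w
      rw [hPsi, Finset.sum_apply]
      simp only [hΞdef]
      rw [← Finset.sum_mul]
      have h1 := Cfsg.Agent.Helper80.irr_sum_degree_mul (G := Q) w.right
      simp only [hlin, one_mul] at h1
      rw [h1]
      by_cases h2 : w.right = 1
      · rw [if_pos h2, if_pos h2]
      · rw [if_neg h2, if_neg h2, zero_mul]
    -- `Φ` is irreducible
    have hΦΨ : classInner Φ (wrPsi (fun x => (ψ x : M → ℂ))) = 1 := by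
      unfold classInner
      rw [wr_sum_base]
      · have h1 : ∀ f : Q → M, Φ (⟨f, 1⟩ : M ≀ᵣ Q) *
            conj (wrPsi (fun x => (ψ x : M → ℂ)) (⟨f, 1⟩ : M ≀ᵣ Q))
            = (Fintype.card Q : ℂ) * ((∏ y, (ψ 1 : M → ℂ) (f y)) *
                conj (∏ y, (ψ 1 : M → ℂ) (f y))) := by
          intro f
          rw [hPsi, if_pos rfl, hΦbase _ rfl]
          simp only [map_mul, Complex.conj_natCast]
          ring
        simp only [h1]
        rw [← Finset.mul_sum, wr_prod_ortho (fun _ => ψ 1) (fun _ => ψ 1), wr_card]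
        simp only [if_true, Finset.prod_const, Finset.card_univ]
        field_simp
      · intro w hw
        rw [hPsi, if_neg hw, map_zero, mul_zero]
    have hΦΦ : classInner Φ Φ = 1 := by
      have hnat : ∀ lam, ∃ n : ℕ, classInner Φ (Ξ lam) = n :=
        fun lam => inner_nat hΦchar (hΞchar lam)
      choose n hn using hnat
      have hsum : (1 : ℂ) = ∑ lam, (n lam : ℂ) := by
        rw [← hΦΨ, hPsiSum, classInner_sum_right]
        exact Finset.sum_congr rfl (fun lam _ => hn lam)
      have hsumN : 1 = ∑ lam, n lam := by exact_mod_cast hsum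
      have hΞ0 : Ξ (Cfsg.Agent.Helper80.trivIrr Q) = Φ := by
        funext w
        simp [hΞdef]
      have hn0 : classInner Φ Φ = n (Cfsg.Agent.Helper80.trivIrr Q) := by
        rw [← hn, hΞ0]
      have hle : n (Cfsg.Agent.Helper80.trivIrr Q) ≤ 1 := by
        rw [hsumN]
        exact Finset.single_le_sum (fun _ _ => Nat.zero_le _) (Finset.mem_univ _)
      have hne0 : n (Cfsg.Agent.Helper80.trivIrr Q) ≠ 0 := by
        intro h0
        rw [h0, Nat.cast_zero] at hn0
        have hΦ0 : Φ = 0 := classInner_self_eq_zero hn0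
        have h1 : Φ 1 = ∏ x : Q, (ψ 1 : M → ℂ) ((1 : M ≀ᵣ Q).left x) := hΦbase 1 rfl
        rw [hΦ0] at h1
        have h2 : ∏ x : Q, (ψ 1 : M → ℂ) ((1 : M ≀ᵣ Q).left x) ≠ 0 := by
          apply Finset.prod_ne_zero_iff.mpr
          intro x _
          exact Cfsg.Agent.Helper80.irr_one_ne_zero (ψ 1)
        exact h2 h1.symm
      have h1 : n (Cfsg.Agent.Helper80.trivIrr Q) = 1 := by omega
      rw [hn0, h1, Nat.cast_one]
    have hΦirr : IsIrrCharacter (M ≀ᵣ Q) Φ := isIrr_of_inner_one hΦchar hΦΦ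
    have hex2 : ∃ lam, classInner χ (Ξ lam) ≠ 0 := by
      by_contra hcon
      push Not at hcon
      apply hψ
      rw [hPsiSum, classInner_sum_right]
      exact Finset.sum_eq_zero (fun lam _ => hcon lam)
    obtain ⟨lam, hlam⟩ := hex2
    obtain ⟨ν, hν⟩ := Cfsg.Agent.Helper79.isCharacter_linear (isChar_of_irr lam.2) (hlin lam)
    have hΞ : Ξ lam = indFun (fullSub Q J) (fun h => ((fullHom J μ ν h : ℂˣ) : ℂ)) := by
      funext w
      rw [indFun_fullHom_twist, ← hν]
    have hΞirr : IsIrrCharacter (M ≀ᵣ Q) (Ξ lam) := by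
      have h1 := Cfsg.Agent.Helper79.isIrrCharacter_twist (ν.comp rightHom) hΦirr
      have h2 : Ξ lam = fun g => ((ν.comp rightHom g : ℂˣ) : ℂ) * Φ g := by
        funext w
        simp only [hΞdef, hν]
        rfl
      rw [h2]
      exact h1
    have heq : χ = Ξ lam := by
      by_contra hne
      exact hlam (irr_inner_ne hχ hΞirr hne)
    exact ⟨fullSub Q J, fullHom J μ ν, heq.trans hΞ⟩
  · -- non-constant tuple: `wrPsi` is irreducible
    choose H μ hHμ using fun x => hM (ψ x : M → ℂ) (ψ x).2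
    have hPsi : wrPsi (fun x => (ψ x : M → ℂ))
        = indFun (baseSub H) (fun h => ((baseHom H μ h : ℂˣ) : ℂ)) := by
      funext w
      rw [indFun_baseHom]
      unfold wrPsi
      simp only [← hHμ]
    have hchar : IsCharacter (M ≀ᵣ Q) (wrPsi (fun x => (ψ x : M → ℂ))) := by
      rw [hPsi]
      exact Cfsg.Agent.Helper3.isCharacter_indFun _ _
        (isChar_of_irr (Cfsg.Agent.Helper79.isIrrCharacter_of_hom (baseHom H μ)))
    have hirr : IsIrrCharacter (M ≀ᵣ Q) (wrPsi (fun x => (ψ x : M → ℂ))) :=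
      isIrr_of_inner_one hchar (wrPsi_norm hp ψ hconst)
    have heq : χ = wrPsi (fun x => (ψ x : M → ℂ)) := by
      by_contra hne
      exact hψ (irr_inner_ne hχ hirr hne)
    exact ⟨baseSub H, baseHom H μ, heq.trans hPsi⟩

end Cfsg.Agent.Helper15
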