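import Mathlib
import Cfsg.Prelude.Def_Characters
import Cfsg.Agent.Helper15.WreathM
import Cfsg.Agent.Helper3.MGroup

/-!
# Dade's embedding theorem: every finite solvable group embeds in an M-group

* `exists_wreath_embedding` (Kaluzhnin–Krasner): if `N ⊴ G` embeds in `M` then `G` embeds in
  `M ≀ᵣ (G ⧸ N)`.
* `exists_normal_prime_index'`: a nontrivial finite solvable group has a normal subgroup of
  prime index.
* `dade_embedding`: every finite solvable group embeds in a finite M-group
  (induction on the order, using `wreath_mgroup`).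
-/

set_option autoImplicit false

namespace Cfsg.Agent.Helper15

open RegularWreathProduct Cfsg

universe u

/-- Kaluzhnin–Krasner embedding into a wreath product. -/
theorem exists_wreath_embedding {G : Type u} [Group G] (N : Subgroup G) [hN : N.Normal]
    {M : Type u} [Group M] (j : N →* M) (hj : Function.Injective j) :
    ∃ φ : G →* M ≀ᵣ (G ⧸ N), Function.Injective φ := by
  classical
  set s : G ⧸ N → G := fun c => Quotient.out c with hs
  have hsq : ∀ c : G ⧸ N, ((s c : G) : G ⧸ N) = c := fun c => QuotientGroup.out_eq' c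
  have hmem : ∀ (g : G) (c : G ⧸ N), (s c)⁻¹ * g * s ((g : G ⧸ N)⁻¹ * c) ∈ N := by
    intro g c
    rw [← QuotientGroup.eq_one_iff]
    rw [QuotientGroup.mk_mul, QuotientGroup.mk_mul, QuotientGroup.mk_inv, hsq, hsq]
    group
  set F : G → M ≀ᵣ (G ⧸ N) :=
    fun g => ⟨fun c => j ⟨(s c)⁻¹ * g * s ((g : G ⧸ N)⁻¹ * c), hmem g c⟩, (g : G ⧸ N)⟩ with hF
  have hmul : ∀ g h : G, F (g * h) = F g * F h := by
    intro g h
    apply RegularWreathProduct.ext
    · funext c
      simp only [hF, RegularWreathProduct.mul_left, Pi.mul_apply]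
      rw [← map_mul]
      congr 1
      apply Subtype.ext
      simp only [Subgroup.coe_mul, QuotientGroup.mk_mul, mul_inv_rev]
      group
    · rfl
  refine ⟨MonoidHom.mk' F hmul, ?_⟩
  rw [injective_iff_map_eq_one]
  intro g hg
  have hg' : F g = 1 := hg
  have h1 : (g : G ⧸ N) = 1 := congrArg RegularWreathProduct.right hg'
  have h2 : j ⟨(s 1)⁻¹ * g * s ((g : G ⧸ N)⁻¹ * 1), hmem g 1⟩ = 1 :=
    congrFun (congrArg RegularWreathProduct.left hg') 1
  have h3 : (⟨(s 1)⁻¹ * g * s ((g : G ⧸ N)⁻¹ * 1), hmem g 1⟩ : N) = 1 := by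
    apply hj
    rw [h2, map_one]
  have h4 : (s 1)⁻¹ * g * s ((g : G ⧸ N)⁻¹ * 1) = 1 := congrArg Subtype.val h3
  rw [h1, inv_one, one_mul] at h4
  have h5 := congrArg (fun t => s 1 * t * (s 1)⁻¹) h4
  simpa [mul_assoc] using h5

/-- A nontrivial finite solvable group has a normal subgroup of prime index. -/
theorem exists_normal_prime_index' {G : Type*} [Group G] [Finite G] [Nontrivial G]
    (hsol : Group.IsSolvable G) : ∃ N : Subgroup G, N.Normal ∧ N.index.Prime := by
  classical
  have hcomm : commutator G ≠ ⊤ := (Group.IsSolvable.commutator_lt_top_of_nontrivial G).ne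
  obtain ⟨H, hH, hle⟩ := (eq_top_or_exists_le_coatom (commutator G)).resolve_left hcomm
  have hHn : H.Normal := by
    constructor
    intro n hn g
    have h1 : g * n * g⁻¹ * n⁻¹ ∈ commutator G := by
      have := Subgroup.commutator_mem_commutator (Subgroup.mem_top g) (Subgroup.mem_top n)
      rw [commutatorElement_def] at this
      exact this
    have h2 : g * n * g⁻¹ = (g * n * g⁻¹ * n⁻¹) * n := by group
    rw [h2]
    exact H.mul_mem (hle h1) hn
  refine ⟨H, hHn, ?_⟩
  have hne : H.index ≠ 1 := fun h => hH.1 (Subgroup.index_eq_one.mp h)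
  obtain ⟨p, hp, hpd⟩ := Nat.exists_prime_and_dvd hne
  haveI : Fact p.Prime := ⟨hp⟩
  have hpd' : p ∣ Nat.card (G ⧸ H) := by
    rw [← Subgroup.index_eq_card]
    exact hpd
  obtain ⟨xb, hxb⟩ := exists_prime_orderOf_dvd_card' p hpd'
  obtain ⟨x, rfl⟩ := QuotientGroup.mk_surjective xb
  have hxH : x ∉ H := by
    intro hx
    have : ((x : G) : G ⧸ H) = 1 := (QuotientGroup.eq_one_iff x).mpr hx
    rw [this, orderOf_one] at hxb
    exact hp.one_lt.ne hxb
  have hsup : H ⊔ Subgroup.zpowers x = ⊤ := by
    apply hH.2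
    refine lt_of_le_of_ne le_sup_left ?_
    intro heq
    apply hxH
    rw [heq]
    exact le_sup_right (a := H) (Subgroup.mem_zpowers x)
  have hz : Subgroup.zpowers ((x : G) : G ⧸ H) = ⊤ := by
    have h1 : (H ⊔ Subgroup.zpowers x).map (QuotientGroup.mk' H) = ⊤ := by
      rw [hsup, ← MonoidHom.range_eq_map]
      exact MonoidHom.range_eq_top.mpr (QuotientGroup.mk'_surjective H)
    rw [Subgroup.map_sup, MonoidHom.map_zpowers] at h1
    have h2 : H.map (QuotientGroup.mk' H) = ⊥ := by
      rw [Subgroup.map_eq_bot_iff, QuotientGroup.ker_mk']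
    rw [h2, bot_sup_eq] at h1
    exact h1
  have hcard : H.index = p := by
    rw [Subgroup.index_eq_card, ← Subgroup.card_top, ← hz, Nat.card_zpowers, hxb]
  rw [hcard]
  exact hp

/-- **Dade's embedding theorem**, by induction on the order. -/
theorem dade_embedding_aux (n : ℕ) : ∀ (G : Type u) [Group G] [Finite G],
    Group.IsSolvable G → Nat.card G = n →
    ∃ (M : Type u) (_ : Group M) (_ : Fintype M),
      (∀ χ : M → ℂ, IsIrrCharacter M χ →
        ∃ (H : Subgroup M) (lam : H →* ℂˣ), χ = indFun H (fun h => ((lam h : ℂˣ) : ℂ))) ∧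
      ∃ f : G →* M, Function.Injective f := by
  induction n using Nat.strong_induction_on with
  | _ n ih =>
    intro G _ _ hsol hn
    classical
    by_cases htriv : Subsingleton G
    · refine ⟨PUnit.{u+1}, inferInstance, inferInstance, ?_, 1, ?_⟩
      · intro χ hχ
        exact Cfsg.Agent.Helper3.nilpotent_mgroup χ hχ
      · intro a b _
        exact Subsingleton.elim a b
    · rw [not_subsingleton_iff_nontrivial] at htriv
      obtain ⟨N, hNn, hNp⟩ := exists_normal_prime_index' hsol
      have hNlt : Nat.card N < n := by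
        rw [← hn, ← Subgroup.card_mul_index N]
        have h1 : 0 < Nat.card N := Nat.card_pos
        nlinarith [hNp.two_le]
      obtain ⟨M₀, iG, iF, hM₀, j, hj⟩ := ih (Nat.card N) hNlt N inferInstance rfl
      have hQ : (Nat.card (G ⧸ N)).Prime := by
        rw [← Subgroup.index_eq_card]
        exact hNp
      obtain ⟨φ, hφ⟩ := exists_wreath_embedding N j hj
      letI : Fintype (G ⧸ N) := Fintype.ofFinite _
      letI : Fintype (M₀ ≀ᵣ (G ⧸ N)) := Fintype.ofFinite _
      exact ⟨M₀ ≀ᵣ (G ⧸ N), inferInstance, inferInstance, wreath_mgroup hQ hM₀, φ, hφ⟩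

theorem dade_embedding {G : Type u} [Group G] [Finite G] (hsolv : Group.IsSolvable G) :
    ∃ (M : Type u) (_ : Group M) (_ : Fintype M),
      (∀ χ : M → ℂ, IsIrrCharacter M χ →
        ∃ (H : Subgroup M) (lam : H →* ℂˣ), χ = indFun H (fun h => ((lam h : ℂˣ) : ℂ))) ∧
      ∃ f : G →* M, Function.Injective f :=
  dade_embedding_aux (Nat.card G) G hsolv rfl

end Cfsg.Agent.Helper15
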