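import Mathlib
import Cfsg.Prelude.Def_Characters
import Cfsg.Prelude.Def_CharExt
import Cfsg.Agent.Helper3.RepEquiv
import Cfsg.Agent.Helper15.LinChar

set_option autoImplicit false

namespace Cfsg.Agent.Helper15

section DetChar

universe u

/-- Equivalent representations have the same determinants. -/
theorem det_eq_of_equiv {G : Type*} [Group G] {V W : Type*} [AddCommGroup V] [Module ℂ V]
    [AddCommGroup W] [Module ℂ W] (ρ : Representation ℂ G V) (σ : Representation ℂ G W)
    (e : ρ.Equiv σ) (g : G) : LinearMap.det (ρ g) = LinearMap.det (σ g) := by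
  have h1 : σ g = (e.toLinearEquiv : V →ₗ[ℂ] W) ∘ₗ ρ g ∘ₗ (e.toLinearEquiv.symm : W →ₗ[ℂ] V) := by
    ext w
    simp only [LinearMap.coe_comp, LinearEquiv.coe_coe, Function.comp_apply]
    have h2 := LinearMap.congr_fun (e.toIntertwiningMap.isIntertwining' g) (e.toLinearEquiv.symm w)
    have h3 : e.toIntertwiningMap.toLinearMap (e.toLinearEquiv.symm w) = w :=
      e.toLinearEquiv.apply_symm_apply w
    rw [LinearMap.comp_apply, LinearMap.comp_apply, h3] at h2
    rw [← h2]
  rw [h1, LinearMap.det_conj]

/-- Representations of a finite group with the same character have the same determinants. -/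
theorem det_eq_of_character_eq {G : Type*} [Group G] [Finite G] {V W : Type*}
    [AddCommGroup V] [Module ℂ V] [FiniteDimensional ℂ V]
    [AddCommGroup W] [Module ℂ W] [FiniteDimensional ℂ W]
    (ρ : Representation ℂ G V) (σ : Representation ℂ G W) (h : ρ.character = σ.character)
    (g : G) : LinearMap.det (ρ g) = LinearMap.det (σ g) := by
  obtain ⟨e⟩ := Cfsg.Agent.Helper3.equiv_of_character_eq ρ σ h
  exact det_eq_of_equiv ρ σ e g

/-- The determinantal character is computed by any representation affording the character. -/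
theorem detChar_of_rep {G : Type u} [Group G] [Finite G] {V : Type*}
    [AddCommGroup V] [Module ℂ V] [FiniteDimensional ℂ V]
    (ρ : Representation ℂ G V) (χ : G → ℂ) (hχ : Cfsg.IsCharacter G χ) (h : ρ.character = χ) :
    Cfsg.detChar χ = fun g => LinearMap.det (ρ g) := by
  unfold Cfsg.detChar
  rw [dif_pos hχ]
  funext g
  exact det_eq_of_character_eq _ ρ ((Classical.choose_spec (Classical.choose_spec hχ)).trans h.symm) g

/-- The determinant of a representation as a homomorphism to `ℂˣ`. -/
noncomputable def detHom {G : Type*} [Group G] {V : Type*} [AddCommGroup V] [Module ℂ V]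
    (ρ : Representation ℂ G V) : G →* ℂˣ :=
  MonoidHom.toHomUnits ((LinearMap.det : (V →ₗ[ℂ] V) →* ℂ).comp ρ)

theorem detHom_coe {G : Type*} [Group G] {V : Type*} [AddCommGroup V] [Module ℂ V]
    (ρ : Representation ℂ G V) (g : G) : ((detHom ρ g : ℂˣ) : ℂ) = LinearMap.det (ρ g) := rfl

/-- The determinantal character of a character of a finite group is given by a homomorphism. -/
theorem detChar_exists_hom {G : Type u} [Group G] [Finite G] (χ : G → ℂ)
    (hχ : Cfsg.IsCharacter G χ) : ∃ f : G →* ℂˣ, ∀ g, Cfsg.detChar χ g = (f g : ℂ) := by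
  obtain ⟨n, ρ, hρ⟩ := hχ
  refine ⟨detHom ρ, fun g => ?_⟩
  rw [detChar_of_rep ρ χ ⟨n, ρ, hρ⟩ hρ, detHom_coe]

/-- The determinantal character of a character of a finite group is a linear character. -/
theorem detChar_isCharacter {G : Type u} [Group G] [Finite G] (χ : G → ℂ)
    (hχ : Cfsg.IsCharacter G χ) : Cfsg.IsCharacter G (Cfsg.detChar χ) ∧ Cfsg.detChar χ 1 = 1 := by
  obtain ⟨f, hf⟩ := detChar_exists_hom χ hχ
  have h1 : Cfsg.detChar χ = fun g => (f g : ℂ) := funext hf
  rw [h1]
  exact linChar_of_hom f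

/-- Restriction commutes with the determinantal character. -/
theorem detChar_restrict {G : Type u} [Group G] [Finite G] (H : Subgroup G) (χ : G → ℂ)
    (hχ : Cfsg.IsCharacter G χ) (h : H) :
    Cfsg.detChar (fun x : H => χ x) h = Cfsg.detChar χ h := by
  obtain ⟨n, ρ, hρ⟩ := hχ
  obtain ⟨σ, hσ⟩ : ∃ σ : Representation ℂ H (Fin n → ℂ), ∀ x : H, σ x = ρ x :=
    ⟨ρ.comp H.subtype, fun _ => rfl⟩
  have h1 : σ.character = fun x : H => χ x := by
    funext x
    rw [← hρ]
    unfold Representation.character
    rw [hσ]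
  rw [detChar_of_rep ρ χ ⟨n, ρ, hρ⟩ hρ,
    detChar_of_rep σ (fun x : H => χ x) ⟨n, σ, h1⟩ h1]
  simp only [hσ]

end DetChar

end Cfsg.Agent.Helper15
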