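import Mathlib
import Cfsg.Prelude.Def_Characters
import Cfsg.Agent.Helper15.Gallagher
import Cfsg.Agent.Helper79.Normal

set_option autoImplicit false

namespace Cfsg.Agent.Helper15

open scoped ComplexConjugate

section Gallagher2

variable {G : Type*} [Group G] [Fintype G]

/-- An irreducible character is a constituent of the permutation character on the cosets of the
normal subgroup `N` exactly when `N` lies in its kernel. -/
theorem inner_ind_one_ne_zero_iff (N : Subgroup G) [N.Normal] [Fintype N] {γ : G → ℂ}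
    (hγ : Cfsg.IsIrrCharacter G γ) :
    Cfsg.classInner (Cfsg.indFun N (fun _ => (1 : ℂ))) γ ≠ 0 ↔ ∀ x ∈ N, γ x = γ 1 := by
  have hγc := isChar_of_irr hγ
  rw [Cfsg.Agent.Helper3.frobenius_reciprocity N _ _ (isClassFunction_of_isChar hγc)]
  unfold Cfsg.classInner
  have hN0 : (Nat.card N : ℂ) ≠ 0 := by exact_mod_cast Nat.card_pos.ne'
  constructor
  · intro h
    by_contra hcon
    push Not at hcon
    apply h
    have h1 := Cfsg.Agent.Helper79.irr_sum_coset_eq_zero hγ N hcon 1
    have h2 : ∑ n : N, (1 : ℂ) * conj (γ n) = conj (∑ n : N, γ (1 * (n : G))) := by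
      rw [map_sum]
      apply Finset.sum_congr rfl
      intro n _
      rw [one_mul, one_mul]
    rw [h2, h1, map_zero, mul_zero]
  · intro h
    have h2 : ∑ n : N, (1 : ℂ) * conj (γ n) = (Nat.card N : ℂ) * conj (γ 1) := by
      rw [Finset.sum_congr rfl (fun n _ => by rw [one_mul, h n n.2] :
        ∀ n ∈ (Finset.univ : Finset N), (1 : ℂ) * conj (γ n) = conj (γ 1))]
      rw [Finset.sum_const, Finset.card_univ, nsmul_eq_mul, Nat.card_eq_fintype_card]
    rw [h2, ← mul_assoc, inv_mul_cancel₀ hN0, one_mul]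
    intro h3
    have h4 : γ 1 = 0 := by
      have := congrArg conj h3
      rwa [Complex.conj_conj, map_zero] at this
    exact Cfsg.Agent.Helper3.irr_apply_one_ne_zero hγ h4

/-- The average of a function over the cosets of `N`. -/
noncomputable def avgN (N : Subgroup G) [Fintype N] (F : G → ℂ) : G → ℂ :=
  fun g => (Nat.card N : ℂ)⁻¹ * ∑ n : N, F ((n : G) * g)

omit [Fintype G] in
theorem avgN_isClassFunction (N : Subgroup G) [hN : N.Normal] [Fintype N] {F : G → ℂ}
    (hF : Cfsg.IsClassFunction G F) : Cfsg.IsClassFunction G (avgN N F) := by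
  intro g h
  unfold avgN
  congr 1
  let e : N ≃ N := {
    toFun := fun n => ⟨h * n * h⁻¹, hN.conj_mem n n.2 h⟩
    invFun := fun n => ⟨h⁻¹ * n * h, by
      have := hN.conj_mem n n.2 h⁻¹
      rwa [inv_inv] at this⟩
    left_inv := fun n => by apply Subtype.ext; simp [mul_assoc]
    right_inv := fun n => by apply Subtype.ext; simp [mul_assoc] }
  rw [← Equiv.sum_comp e]
  apply Finset.sum_congr rfl
  intro n _
  have h1 : ((e n : N) : G) * (h * g * h⁻¹) = h * ((n : G) * g) * h⁻¹ := by
    show h * n * h⁻¹ * (h * g * h⁻¹) = h * ((n : G) * g) * h⁻¹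
    group
  rw [h1, hF]

theorem classInner_avgN (N : Subgroup G) [hN : N.Normal] [Fintype N] (F : G → ℂ) {γ : G → ℂ}
    (hγ : Cfsg.IsIrrCharacter G γ) [Decidable (∀ x ∈ N, γ x = γ 1)] :
    Cfsg.classInner (avgN N F) γ =
      if (∀ x ∈ N, γ x = γ 1) then Cfsg.classInner F γ else 0 := by
  have hγc := isChar_of_irr hγ
  have hN0 : (Nat.card N : ℂ) ≠ 0 := by exact_mod_cast Nat.card_pos.ne'
  have h1 : Cfsg.classInner (avgN N F) γ =
      (Nat.card G : ℂ)⁻¹ * ∑ g : G, F g *
        conj ((Nat.card N : ℂ)⁻¹ * ∑ n : N, γ (g * (n : G))) := by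
    unfold Cfsg.classInner avgN
    congr 1
    have h2 : ∀ g : G, (Nat.card N : ℂ)⁻¹ * (∑ n : N, F ((n : G) * g)) * conj (γ g) =
        ∑ n : N, (Nat.card N : ℂ)⁻¹ * (F ((n : G) * g) * conj (γ g)) := by
      intro g
      rw [mul_assoc, Finset.sum_mul, Finset.mul_sum]
    have h3 : ∀ g : G, F g * conj ((Nat.card N : ℂ)⁻¹ * ∑ n : N, γ (g * (n : G))) =
        ∑ n : N, (Nat.card N : ℂ)⁻¹ * (F g * conj (γ ((n : G)⁻¹ * g))) := by
      intro g
      rw [map_mul, map_inv₀, Complex.conj_natCast, map_sum, mul_left_comm, Finset.mul_sum,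
        Finset.mul_sum]
      rw [← Equiv.sum_comp (Equiv.inv N)]
      apply Finset.sum_congr rfl
      intro n _
      rw [Equiv.inv_apply, Subgroup.coe_inv, Cfsg.Agent.Helper79.isCharacter_mul_comm hγc]
    rw [Finset.sum_congr rfl (fun g _ => h2 g), Finset.sum_congr rfl (fun g _ => h3 g),
      Finset.sum_comm]
    conv_rhs => rw [Finset.sum_comm]
    apply Finset.sum_congr rfl
    intro n _
    rw [← Equiv.sum_comp (Equiv.mulLeft ((n : G)⁻¹))]
    apply Finset.sum_congr rfl
    intro g _
    rw [Equiv.coe_mulLeft, mul_inv_cancel_left]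
  rw [h1]
  by_cases hker : ∀ x ∈ N, γ x = γ 1
  · rw [if_pos hker]
    unfold Cfsg.classInner
    congr 1
    apply Finset.sum_congr rfl
    intro g _
    rw [Cfsg.Agent.Helper79.isCharacter_sum_coset_of_ker hγc N hker g, ← Nat.card_eq_fintype_card,
      ← mul_assoc, inv_mul_cancel₀ hN0, one_mul]
  · rw [if_neg hker]
    push Not at hker
    rw [Finset.sum_eq_zero, mul_zero]
    intro g _
    rw [Cfsg.Agent.Helper79.irr_sum_coset_eq_zero hγ N hker g, mul_zero, map_zero, mul_zero]

/-- Gallagher: if the irreducible character `χ` of `G` restricts irreducibly to the normal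
subgroup `N`, then for an irreducible character `ψ` of `G` the `N`-average of `ψ * conj χ` is an
irreducible character `β` with `N` in its kernel and `ψ = β * χ`, or zero. -/
theorem gallagher_average (N : Subgroup G) [hN : N.Normal] [Fintype N] (χ : G → ℂ)
    (hχ : Cfsg.IsIrrCharacter G χ) (hχN : Cfsg.IsIrrCharacter N (fun n : N => χ n)) (ψ : G → ℂ)
    (hψ : Cfsg.IsIrrCharacter G ψ) :
    (Cfsg.classInner (fun n : N => ψ n) (fun n : N => χ n) ≠ 0 →
      Cfsg.IsIrrCharacter G (avgN N (fun g => ψ g * conj (χ g))) ∧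
      (∀ x ∈ N, avgN N (fun g => ψ g * conj (χ g)) x = avgN N (fun g => ψ g * conj (χ g)) 1) ∧
      ψ = avgN N (fun g => ψ g * conj (χ g)) * χ) ∧
    (Cfsg.classInner (fun n : N => ψ n) (fun n : N => χ n) = 0 →
      avgN N (fun g => ψ g * conj (χ g)) = 0) := by
  classical
  have : Fintype (Cfsg.IrrCharacter G) := Fintype.ofFinite _
  have hχc := isChar_of_irr hχ
  have hψc := isChar_of_irr hψ
  have hone : Cfsg.IsIrrCharacter N (fun _ : N => (1 : ℂ)) := Cfsg.Agent.Helper79.isIrrCharacter_one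
  have honeinv : ∀ (g : G) (n : N),
      (fun _ : N => (1 : ℂ)) ⟨g * n * g⁻¹, hN.conj_mem (n : G) n.2 g⟩ = (fun _ : N => (1 : ℂ)) n :=
    fun _ _ => rfl
  have hmul : ((fun _ : N => (1 : ℂ)) * fun n : N => χ n) = fun n : N => χ n := by
    funext n; simp
  have hprod : Cfsg.IsIrrCharacter N ((fun _ : N => (1 : ℂ)) * fun n : N => χ n) := by
    rw [hmul]; exact hχN
  have hext : ∀ n : N, χ n = (fun n : N => χ n) n := fun _ => rfl
  -- the class function and its expansion
  have hF : Cfsg.IsClassFunction G (fun g => ψ g * conj (χ g)) := by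
    intro g h
    simp only
    rw [isClassFunction_of_isChar hψc g h, isClassFunction_of_isChar hχc g h]
  have hηcl := avgN_isClassFunction N hF
  have hinner : ∀ γ : Cfsg.IrrCharacter G,
      Cfsg.classInner (avgN N (fun g => ψ g * conj (χ g))) γ =
        if (∀ x ∈ N, (γ : G → ℂ) x = (γ : G → ℂ) 1) then
          Cfsg.classInner ψ ((γ : G → ℂ) * χ) else 0 := by
    intro γ
    rw [classInner_avgN N _ γ.2]
    congr 1
    unfold Cfsg.classInner
    congr 1
    apply Finset.sum_congr rfl
    intro g _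
    rw [Pi.mul_apply, map_mul]
    ring
  have hcond : ∀ γ : Cfsg.IrrCharacter G, (∀ x ∈ N, (γ : G → ℂ) x = (γ : G → ℂ) 1) →
      Cfsg.classInner (Cfsg.indFun N (fun _ => (1 : ℂ))) γ ≠ 0 := fun γ h =>
    (inner_ind_one_ne_zero_iff N γ.2).mpr h
  constructor
  · intro hne
    have h1 : Cfsg.classInner (Cfsg.indFun N ((fun _ : N => (1 : ℂ)) * fun n : N => χ n)) ψ ≠ 0 := by
      rw [hmul, Cfsg.Agent.Helper3.frobenius_reciprocity N _ _ (isClassFunction_of_isChar hψc),
        classInner_conj_symm]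
      intro h0
      apply hne
      have := congrArg conj h0
      rwa [Complex.conj_conj, map_zero] at this
    obtain ⟨β, hβ, hβ1, hβψ⟩ := gallagher_surj N _ _ hone honeinv hprod χ hχc hext ψ hψ h1
    have hβker : ∀ x ∈ N, β x = β 1 := (inner_ind_one_ne_zero_iff N hβ).mp hβ1
    have hη : avgN N (fun g => ψ g * conj (χ g)) = β := by
      rw [classFun_eq_sum hηcl]
      rw [Finset.sum_eq_single (⟨β, hβ⟩ : Cfsg.IrrCharacter G)]
      · rw [hinner, if_pos hβker, ← hβψ]
        have := gallagher_core N _ _ hone honeinv hprod χ hχc hext ⟨β, hβ⟩ ⟨β, hβ⟩ hβ1 hβ1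
        rw [if_pos rfl] at this
        rw [this, one_smul]
      · intro γ _ hγ
        rw [hinner]
        by_cases hk : ∀ x ∈ N, (γ : G → ℂ) x = (γ : G → ℂ) 1
        · rw [if_pos hk, ← hβψ]
          have := gallagher_core N _ _ hone honeinv hprod χ hχc hext ⟨β, hβ⟩ γ hβ1 (hcond γ hk)
          rw [if_neg (fun h => hγ h.symm)] at this
          rw [this, zero_smul]
        · rw [if_neg hk, zero_smul]
      · intro h; exact absurd (Finset.mem_univ _) h
    rw [hη]
    exact ⟨hβ, hβker, hβψ.symm⟩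
  · intro h0
    rw [classFun_eq_sum hηcl]
    apply Finset.sum_eq_zero
    intro γ _
    rw [hinner]
    by_cases hk : ∀ x ∈ N, (γ : G → ℂ) x = (γ : G → ℂ) 1
    · rw [if_pos hk]
      have hirr := (gallagher_mul_irr N _ _ hone honeinv hprod χ hχc hext γ γ.2 (hcond γ hk)).1
      have h2 : Cfsg.classInner ψ ((γ : G → ℂ) * χ) = 0 := by
        by_contra hne
        have h3 : ψ = (γ : G → ℂ) * χ := by
          by_contra hne2
          exact hne (irr_inner_ne hψ hirr hne2)
        apply Cfsg.Agent.Helper3.irr_apply_one_ne_zero γ.2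
        have h4 : (fun n : N => ψ n) = ((γ : G → ℂ) 1) • (fun n : N => χ n) := by
          funext n
          rw [h3, Pi.mul_apply, hk n n.2]
          rfl
        rw [h4, classInner_smul_left, irr_inner_self hχN, mul_one] at h0
        exact h0
      rw [h2, zero_smul]
    · rw [if_neg hk, zero_smul]

end Gallagher2

end Cfsg.Agent.Helper15
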