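import Mathlib
import Cfsg.Agent.Helper15.LinChar

set_option autoImplicit false

namespace Cfsg.Agent.Helper15

open Subgroup Subgroup.leftTransversals MonoidHom

section LinExt

variable {G : Type*} [Group G]

/-- The coercion of homomorphisms to `ℂˣ` into complex valued functions, as a monoid hom. -/
def homToFun (G : Type*) [Group G] : (G →* ℂˣ) →* (G → ℂ) where
  toFun f := fun g => (f g : ℂ)
  map_one' := by ext; simp
  map_mul' := by intros; ext; simp

theorem homToFun_apply (f : G →* ℂˣ) (g : G) : homToFun G f g = (f g : ℂ) := rfl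

theorem homToFun_injective : Function.Injective (homToFun G) := by
  intro f f' h
  ext g
  exact congrFun h g

theorem orderOf_homToFun (f : G →* ℂˣ) : orderOf (fun g => (f g : ℂ)) = orderOf f :=
  orderOf_injective (homToFun G) homToFun_injective f

theorem transfer_pow_eq_one {N : Subgroup G} [N.FiniteIndex] (f : N →* ℂˣ) (k : ℕ)
    (hk : ∀ x : N, f x ^ k = 1) (g : G) : (transfer f g) ^ k = 1 := by
  classical
  letI := N.fintypeQuotientOfFiniteIndex
  rw [transfer_def f default g]
  unfold diff
  simp only
  rw [← Finset.prod_pow]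
  exact Finset.prod_eq_one (fun q _ => hk _)

theorem transfer_apply_of_mem_normal {N : Subgroup G} [hN : N.Normal] [N.FiniteIndex]
    (f : N →* ℂˣ)
    (hinv : ∀ (g : G) (n : N), f ⟨g * n * g⁻¹, hN.conj_mem (n : G) n.2 g⟩ = f n) (n : N) :
    transfer f (n : G) = f n ^ N.index := by
  classical
  letI := N.fintypeQuotientOfFiniteIndex
  have hinv' : ∀ (y : G) (x : N) (h : y⁻¹ * x * y ∈ N), f ⟨y⁻¹ * x * y, h⟩ = f x := by
    intro y x h
    have h1 := hinv y⁻¹ x
    simp only [inv_inv] at h1
    exact h1
  rw [transfer_def f default (n : G)]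
  unfold diff
  simp only
  have hq : ∀ q : G ⧸ N, (n : G)⁻¹ • q = q := by
    intro q
    induction q using QuotientGroup.induction_on with
    | H y =>
      rw [MulAction.Quotient.smul_mk, QuotientGroup.eq]
      simp only [smul_eq_mul, mul_inv_rev, inv_inv]
      have h1 : y⁻¹ * (n : G) * y ∈ N := by
        have := hN.conj_mem (n : G) n.2 y⁻¹
        simpa using this
      simpa [mul_assoc] using h1
  have key : ∀ q : G ⧸ N, ∀ h,
      f ⟨((default : N.LeftTransversal).2.leftQuotientEquiv q : G)⁻¹ *
        (((n : G) • (default : N.LeftTransversal)).2.leftQuotientEquiv q : G), h⟩ = f n := by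
    intro q h
    have h2 : ((((n : G) • (default : N.LeftTransversal)).2.leftQuotientEquiv q : G)) =
        (n : G) * ((default : N.LeftTransversal).2.leftQuotientEquiv q : G) := by
      rw [smul_apply_eq_smul_apply_inv_smul, hq q, smul_eq_mul]
    have h3 : (⟨((default : N.LeftTransversal).2.leftQuotientEquiv q : G)⁻¹ *
        (((n : G) • (default : N.LeftTransversal)).2.leftQuotientEquiv q : G), h⟩ : N) =
        ⟨((default : N.LeftTransversal).2.leftQuotientEquiv q : G)⁻¹ * (n : G) *
          ((default : N.LeftTransversal).2.leftQuotientEquiv q : G), by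
            rw [mul_assoc, ← h2]; exact h⟩ := by
      apply Subtype.ext
      simp only
      rw [h2, mul_assoc]
    rw [h3, hinv']
  rw [Finset.prod_congr rfl (fun q _ => key q _), Finset.prod_const, Finset.card_univ]
  congr 1
  rw [Subgroup.index, Nat.card_eq_fintype_card]

end LinExt

end Cfsg.Agent.Helper15

namespace Cfsg.Agent.Helper15

open Subgroup MonoidHom

section LinExt2

variable {G : Type*} [Group G]

theorem hom_pow_orderOf_apply {H : Type*} [Group H] (f : H →* ℂˣ) (x : H) :
    f x ^ orderOf f = 1 := by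
  calc f x ^ orderOf f = (f ^ orderOf f) x := rfl
    _ = (1 : H →* ℂˣ) x := by rw [pow_orderOf_eq_one]
    _ = 1 := rfl

theorem orderOf_hom_pos [Finite G] (f : G →* ℂˣ) : 0 < orderOf f := by
  have h : f ^ Nat.card G = 1 := by
    ext g
    rw [MonoidHom.pow_apply, ← map_pow, pow_card_eq_one', map_one]
    rfl
  exact Nat.pos_of_dvd_of_pos (orderOf_dvd_of_pow_eq_one h) Nat.card_pos

/-- An invariant homomorphism `f : N →* ℂˣ` on a normal subgroup of index coprime to the order
of `f` extends to `G` with the same order. -/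
theorem exists_hom_extension_coprime [Finite G] (N : Subgroup G) [hN : N.Normal]
    (f : N →* ℂˣ)
    (hinv : ∀ (g : G) (n : N), f ⟨g * n * g⁻¹, hN.conj_mem (n : G) n.2 g⟩ = f n)
    (hcop : Nat.Coprime N.index (orderOf f)) :
    ∃ F : G →* ℂˣ, (∀ n : N, F n = f n) ∧ orderOf F = orderOf f := by
  have hfo : ∀ x : N, f x ^ orderOf f = 1 := hom_pow_orderOf_apply f
  have hbez := Nat.gcd_eq_gcd_ab N.index (orderOf f)
  rw [hcop.gcd_eq_one] at hbez
  refine ⟨(transfer f) ^ (Nat.gcdA N.index (orderOf f)), ?_, ?_⟩
  · intro n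
    have h1 : ((transfer f) ^ (Nat.gcdA N.index (orderOf f))) (n : G) =
        (transfer f (n : G)) ^ (Nat.gcdA N.index (orderOf f)) := rfl
    rw [h1, transfer_apply_of_mem_normal f hinv n, ← zpow_natCast, ← zpow_mul]
    have h2 : (N.index : ℤ) * Nat.gcdA N.index (orderOf f) =
        1 - (orderOf f : ℤ) * Nat.gcdB N.index (orderOf f) := by
      have := hbez
      push_cast at this
      linarith
    rw [h2, zpow_sub, zpow_one, zpow_mul, zpow_natCast, hfo n, one_zpow]
    simp
  · apply Nat.dvd_antisymm
    · apply orderOf_dvd_of_pow_eq_one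
      ext g
      have h1 : (((transfer f) ^ (Nat.gcdA N.index (orderOf f))) ^ orderOf f) g =
        ((transfer f g) ^ (Nat.gcdA N.index (orderOf f))) ^ orderOf f := rfl
      rw [h1, ← zpow_natCast, ← zpow_mul, mul_comm, zpow_mul, zpow_natCast,
        transfer_pow_eq_one f _ hfo g, one_zpow]
      rfl
    · apply orderOf_dvd_of_pow_eq_one
      ext n
      have h1 := pow_orderOf_eq_one ((transfer f) ^ (Nat.gcdA N.index (orderOf f)))
      have h2 := congrArg (fun φ : G →* ℂˣ => φ (n : G)) h1
      simp only [MonoidHom.pow_apply, MonoidHom.one_apply] at h2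
      have h3 : ((transfer f) ^ (Nat.gcdA N.index (orderOf f))) (n : G) = f n := by
        have h1 : ((transfer f) ^ (Nat.gcdA N.index (orderOf f))) (n : G) =
            (transfer f (n : G)) ^ (Nat.gcdA N.index (orderOf f)) := rfl
        rw [h1, transfer_apply_of_mem_normal f hinv n, ← zpow_natCast, ← zpow_mul]
        have h2 : (N.index : ℤ) * Nat.gcdA N.index (orderOf f) =
            1 - (orderOf f : ℤ) * Nat.gcdB N.index (orderOf f) := by
          have := hbez
          push_cast at this
          linarith
        rw [h2, zpow_sub, zpow_one, zpow_mul, zpow_natCast, hfo n, one_zpow]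
        simp
      rw [h3] at h2
      simp only [MonoidHom.pow_apply, MonoidHom.one_apply]
      rw [h2]

/-- Two homomorphisms `G →* ℂˣ` of order coprime to the index of the normal subgroup `N`
which agree on `N` are equal. -/
theorem hom_eq_of_coprime [Finite G] (N : Subgroup G) [N.Normal] (F F' : G →* ℂˣ)
    (hres : ∀ n : N, F n = F' n) (h1 : Nat.Coprime N.index (orderOf F))
    (h2 : Nat.Coprime N.index (orderOf F')) : F = F' := by
  have hD1 : (F / F') ^ N.index = 1 := by
    ext g
    have hg : g ^ N.index ∈ N := N.pow_index_mem g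
    have h3 : ((F / F') ^ N.index) g = F (g ^ N.index) / F' (g ^ N.index) := by
      rw [MonoidHom.pow_apply, MonoidHom.div_apply, div_pow, map_pow, map_pow]
    rw [h3]
    have h4 := hres ⟨g ^ N.index, hg⟩
    simp only at h4
    rw [h4, div_self']
    rfl
  have hD2 : (F / F') ^ (orderOf F * orderOf F') = 1 := by
    ext g
    have h3 : ((F / F') ^ (orderOf F * orderOf F')) g =
        (F g / F' g) ^ (orderOf F * orderOf F') := by
      rw [MonoidHom.pow_apply, MonoidHom.div_apply]
    rw [h3, div_pow, pow_mul, hom_pow_orderOf_apply, one_pow, mul_comm, pow_mul,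
      hom_pow_orderOf_apply, one_pow, div_one]
    rfl
  have hd1 := orderOf_dvd_of_pow_eq_one (G := G →* ℂˣ) (x := F / F') (n := N.index) hD1
  have hd2 := orderOf_dvd_of_pow_eq_one (G := G →* ℂˣ) (x := F / F')
    (n := orderOf F * orderOf F') hD2
  have hcop : Nat.Coprime N.index (orderOf F * orderOf F') := Nat.Coprime.mul_right h1 h2
  have h5 : orderOf (F / F') = 1 := Nat.eq_one_of_dvd_coprimes hcop hd1 hd2
  rw [orderOf_eq_one_iff] at h5
  exact div_eq_one.mp h5

end LinExt2

end Cfsg.Agent.Helper15
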