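import Mathlib
import Cfsg.Prelude.Def_Characters
import Cfsg.Agent.Helper15.CharInner
import Cfsg.Agent.Helper15.LinExt
import Cfsg.Agent.Helper3.RepEquiv
import Cfsg.Agent.Helper79.Quotient
import Cfsg.Agent.Helper80.CharSchur

set_option autoImplicit false

namespace Cfsg.Agent.Helper15

section ProjExt

variable {G : Type*} [Group G] {N : Subgroup G} [hN : N.Normal] {d : ℕ}
  (θ : Representation ℂ N (Fin d → ℂ))

/-- Conjugation by `g` on the normal subgroup `N`. -/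
def conjN (g : G) (n : N) : N := ⟨g * n * g⁻¹, hN.conj_mem (n : G) n.2 g⟩

theorem conjN_mul (g h : G) (n : N) : conjN (g * h) n = conjN g (conjN h n) := by
  apply Subtype.ext
  simp [conjN, mul_assoc]

theorem conjN_one (n : N) : conjN 1 n = n := by
  apply Subtype.ext
  simp [conjN]

theorem conjN_map_mul (g : G) (m n : N) : conjN g (m * n) = conjN g m * conjN g n := by
  apply Subtype.ext
  simp [conjN, mul_assoc]

theorem conjN_coe (m n : N) : conjN (m : G) n = m * n * m⁻¹ := by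
  apply Subtype.ext
  simp [conjN]

/-- Conjugation by `g` as a monoid homomorphism of `N`. -/
def conjNHom (g : G) : N →* N where
  toFun := conjN g
  map_one' := by apply Subtype.ext; simp [conjN]
  map_mul' := conjN_map_mul g

theorem conjNHom_surjective (g : G) : Function.Surjective (conjNHom g : N →* N) := by
  intro n
  refine ⟨conjN g⁻¹ n, ?_⟩
  show conjN g (conjN g⁻¹ n) = n
  rw [← conjN_mul, mul_inv_cancel, conjN_one]

/-- The group of pairs `(g, Q)` with `Q θ(n) Q⁻¹ = θ(g n g⁻¹)` for all `n` in `N`. -/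
def liftGroup : Subgroup (G × (Module.End ℂ (Fin d → ℂ))ˣ) where
  carrier := {x | ∀ n : N, (x.2 : Module.End ℂ (Fin d → ℂ)) * θ n =
    θ (conjN x.1 n) * (x.2 : Module.End ℂ (Fin d → ℂ))}
  mul_mem' := by
    intro x y hx hy n
    simp only [Prod.fst_mul, Prod.snd_mul, Units.val_mul]
    rw [mul_assoc, hy n, ← mul_assoc, hx (conjN y.1 n), conjN_mul, mul_assoc]
  one_mem' := by
    intro n
    simp [conjN_one]
  inv_mem' := by
    intro x hx n
    simp only [Prod.fst_inv, Prod.snd_inv]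
    have h := hx (conjN x.1⁻¹ n)
    rw [← conjN_mul, mul_inv_cancel, conjN_one] at h
    calc ((x.2⁻¹ : (Module.End ℂ (Fin d → ℂ))ˣ) : Module.End ℂ (Fin d → ℂ)) * θ n
        = (x.2⁻¹ : (Module.End ℂ (Fin d → ℂ))ˣ) * (θ n * x.2) * (x.2⁻¹ : (Module.End ℂ (Fin d → ℂ))ˣ) := by
          rw [mul_assoc, mul_assoc, Units.mul_inv, mul_one]
      _ = (x.2⁻¹ : (Module.End ℂ (Fin d → ℂ))ˣ) * (x.2 * θ (conjN x.1⁻¹ n)) *
            (x.2⁻¹ : (Module.End ℂ (Fin d → ℂ))ˣ) := by rw [h]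
      _ = θ (conjN x.1⁻¹ n) * (x.2⁻¹ : (Module.End ℂ (Fin d → ℂ))ˣ) := by
          rw [← mul_assoc, Units.inv_mul, one_mul]

theorem mem_liftGroup (x : G × (Module.End ℂ (Fin d → ℂ))ˣ) :
    x ∈ liftGroup θ ↔ ∀ n : N, (x.2 : Module.End ℂ (Fin d → ℂ)) * θ n =
      θ (conjN x.1 n) * (x.2 : Module.End ℂ (Fin d → ℂ)) := Iff.rfl

/-- `θ n` as a unit. -/
def thetaUnit : N →* (Module.End ℂ (Fin d → ℂ))ˣ := MonoidHom.toHomUnits θ

omit hN in
theorem thetaUnit_coe (n : N) : ((thetaUnit θ n : (Module.End ℂ (Fin d → ℂ))ˣ) :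
    Module.End ℂ (Fin d → ℂ)) = θ n := rfl

theorem base_mem_liftGroup (n : N) : ((n : G), thetaUnit θ n) ∈ liftGroup θ := by
  intro m
  show θ n * θ m = θ (conjN (n : G) m) * θ n
  rw [← map_mul, ← map_mul, conjN_coe]
  congr 1
  group

/-- The scalar unit attached to a nonzero complex number. -/
def scalarUnit (d : ℕ) : ℂˣ →* (Module.End ℂ (Fin d → ℂ))ˣ :=
  Units.map (algebraMap ℂ (Module.End ℂ (Fin d → ℂ))).toMonoidHom

theorem scalarUnit_coe (c : ℂˣ) : ((scalarUnit d c : (Module.End ℂ (Fin d → ℂ))ˣ) :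
    Module.End ℂ (Fin d → ℂ)) = (c : ℂ) • (1 : Module.End ℂ (Fin d → ℂ)) := by
  show algebraMap ℂ (Module.End ℂ (Fin d → ℂ)) (c : ℂ) = _
  rw [Algebra.algebraMap_eq_smul_one]

theorem scalarUnit_comm (c : ℂˣ) (Q : (Module.End ℂ (Fin d → ℂ))ˣ) :
    scalarUnit d c * Q = Q * scalarUnit d c := by
  apply Units.ext
  rw [Units.val_mul, Units.val_mul, scalarUnit_coe]
  simp

theorem scalar_mem_liftGroup (c : ℂˣ) : ((1 : G), scalarUnit d c) ∈ liftGroup θ := by
  intro n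
  simp only
  rw [scalarUnit_coe, conjN_one]
  simp

/-- Every element of `G` lifts, for an invariant representation of a finite normal subgroup. -/
theorem exists_lift [Finite N]
    (hinv : ∀ (g : G) (n : N), θ.character (conjN g n) = θ.character n) (g : G) :
    ∃ Q : (Module.End ℂ (Fin d → ℂ))ˣ, (g, Q) ∈ liftGroup θ := by
  obtain ⟨θ', hθ'⟩ : ∃ θ' : Representation ℂ N (Fin d → ℂ), θ' = θ.comp (conjNHom g) := ⟨_, rfl⟩
  have hchar : θ.character = θ'.character := by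
    funext n
    rw [hθ']
    exact (hinv g n).symm
  obtain ⟨e⟩ := Cfsg.Agent.Helper3.equiv_of_character_eq θ θ' hchar
  subst hθ'
  refine ⟨LinearMap.GeneralLinearGroup.ofLinearEquiv e.toLinearEquiv, ?_⟩
  intro n
  have h := e.toIntertwiningMap.isIntertwining' n
  exact h

omit hN in
/-- A subgroup of `G × U` which is the graph of a function is the graph of a homomorphism. -/
theorem exists_hom_of_graph {U : Type*} [Group U] (Γ₁ : Subgroup (G × U))
    (ha : ∀ g, ∃ Q, (g, Q) ∈ Γ₁) (hb : ∀ Q, ((1 : G), Q) ∈ Γ₁ → Q = 1) :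
    ∃ f : G →* U, ∀ g Q, (g, Q) ∈ Γ₁ ↔ Q = f g := by
  choose f hf using ha
  have huniq : ∀ g Q, (g, Q) ∈ Γ₁ → Q = f g := by
    intro g Q hQ
    have h1 := Γ₁.mul_mem (Γ₁.inv_mem (hf g)) hQ
    have h2 : ((g, f g)⁻¹ * (g, Q) : G × U) = (1, (f g)⁻¹ * Q) := by
      ext <;> simp
    rw [h2] at h1
    have h3 := hb _ h1
    exact (inv_mul_eq_one.mp h3).symm
  refine ⟨MonoidHom.mk' f (fun g h => (huniq _ _ (Γ₁.mul_mem (hf g) (hf h))).symm), ?_⟩
  intro g Q
  constructor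
  · exact huniq g Q
  · intro h
    rw [h]
    exact hf g

theorem scalarUnit_injective (hd : 0 < d) : Function.Injective (scalarUnit d) := by
  intro c c' h
  have h1 := congrArg (fun u : (Module.End ℂ (Fin d → ℂ))ˣ => (u : Module.End ℂ (Fin d → ℂ))) h
  simp only [scalarUnit_coe] at h1
  have h2 := congrArg (fun T : Module.End ℂ (Fin d → ℂ) => T (fun _ => (1 : ℂ)) ⟨0, hd⟩) h1
  simp at h2
  exact Units.ext h2

/-- Two lifts of the same element differ by a scalar. -/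
theorem lift_eq_scalar_mul (hθ : θ.IsIrreducible) {g : G} {Q Q' : (Module.End ℂ (Fin d → ℂ))ˣ}
    (h : (g, Q) ∈ liftGroup θ) (h' : (g, Q') ∈ liftGroup θ) :
    ∃ c : ℂˣ, Q' = scalarUnit d c * Q := by
  have := hθ
  have h1 := (liftGroup θ).mul_mem h' ((liftGroup θ).inv_mem h)
  have h2 : ((g, Q') * (g, Q)⁻¹ : G × (Module.End ℂ (Fin d → ℂ))ˣ) = (1, Q' * Q⁻¹) := by
    ext <;> simp
  rw [h2] at h1
  have h3 : ∀ n : N, ((Q' * Q⁻¹ : (Module.End ℂ (Fin d → ℂ))ˣ) : Module.End ℂ (Fin d → ℂ)) * θ n =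
      θ n * ((Q' * Q⁻¹ : (Module.End ℂ (Fin d → ℂ))ˣ) : Module.End ℂ (Fin d → ℂ)) := by
    intro n
    have := h1 n
    simp only [conjN_one] at this
    exact this
  obtain ⟨c, hc⟩ := Cfsg.Agent.Helper80.schur_scalar θ _ h3
  have hc0 : c ≠ 0 := by
    intro h0
    rw [h0, zero_smul] at hc
    have hu : IsUnit (0 : Module.End ℂ (Fin d → ℂ)) := hc ▸ (Q' * Q⁻¹).isUnit
    have hpos := Cfsg.Agent.Helper80.rep_finrank_pos θ
    have hnt : Nontrivial (Fin d → ℂ) := Module.finrank_pos_iff.mp hpos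
    exact not_isUnit_zero hu
  refine ⟨Units.mk0 c hc0, ?_⟩
  have h4 : Q' * Q⁻¹ = scalarUnit d (Units.mk0 c hc0) := by
    apply Units.ext
    rw [hc, scalarUnit_coe]
    rfl
  rw [← h4, inv_mul_cancel_right]

omit hN in
/-- If the restriction of a representation to `N` is irreducible, so is the representation. -/
theorem isIrreducible_of_restrict {ρ : Representation ℂ G (Fin d → ℂ)} (hθ : θ.IsIrreducible)
    (h : ∀ n : N, ρ n = θ n) : ρ.IsIrreducible := by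
  rw [Cfsg.Agent.Helper79.isIrreducible_iff] at hθ ⊢
  refine ⟨hθ.1, fun S hS => hθ.2 S ?_⟩
  intro n v hv
  rw [← h n]
  exact hS n v hv

omit hN in
theorem exists_irr_extension_of_rep {ϑ : N → ℂ} (hθ : θ.IsIrreducible) (hϑ : θ.character = ϑ)
    (ρ : Representation ℂ G (Fin d → ℂ)) (h : ∀ n : N, ρ n = θ n) :
    ∃ χ : G → ℂ, Cfsg.IsIrrCharacter G χ ∧ ∀ n : N, χ n = ϑ n := by
  refine ⟨ρ.character, ⟨d, ρ, isIrreducible_of_restrict θ hθ h, rfl⟩, fun n => ?_⟩
  rw [← hϑ]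
  unfold Representation.character
  rw [h]

omit hN in
/-- Extension criterion: a subgroup of lifts surjecting onto `G` together with a homomorphism
to `ℂˣ` which measures the deviation from `θ` over `N`. -/
theorem exists_rep_extension_of_hom
    (Γ' : Subgroup (G × (Module.End ℂ (Fin d → ℂ))ˣ))
    (hpr : ∀ g, ∃ Q, (g, Q) ∈ Γ') (L : Γ' →* ℂˣ)
    (hL : ∀ x : Γ', x.1.1 = 1 → x.1.2 = scalarUnit d (L x))
    (hbase : ∀ n : N, ∃ h : ((n : G), thetaUnit θ n) ∈ Γ', L ⟨_, h⟩ = 1) :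
    ∃ ρ : Representation ℂ G (Fin d → ℂ), ∀ n : N, ρ n = θ n := by
  let Φ : Γ' →* G × (Module.End ℂ (Fin d → ℂ))ˣ := MonoidHom.mk'
    (fun x => (x.1.1, scalarUnit d (L x)⁻¹ * x.1.2)) (by
      intro x y
      refine Prod.ext (by simp) ?_
      show scalarUnit d (L (x * y))⁻¹ * (x.1.2 * y.1.2) =
        scalarUnit d (L x)⁻¹ * x.1.2 * (scalarUnit d (L y)⁻¹ * y.1.2)
      have h1 : x.1.2 * scalarUnit d (L y)⁻¹ = scalarUnit d (L y)⁻¹ * x.1.2 :=
        (scalarUnit_comm _ _).symm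
      have h2 : scalarUnit d (L (x * y))⁻¹ = scalarUnit d (L x)⁻¹ * scalarUnit d (L y)⁻¹ := by
        rw [← map_mul, map_mul L, mul_inv_rev, mul_comm]
      calc scalarUnit d (L (x * y))⁻¹ * (x.1.2 * y.1.2)
          = scalarUnit d (L x)⁻¹ * (scalarUnit d (L y)⁻¹ * x.1.2) * y.1.2 := by
            rw [h2]; simp only [mul_assoc]
        _ = scalarUnit d (L x)⁻¹ * (x.1.2 * scalarUnit d (L y)⁻¹) * y.1.2 := by rw [h1]
        _ = scalarUnit d (L x)⁻¹ * x.1.2 * (scalarUnit d (L y)⁻¹ * y.1.2) := by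
            simp only [mul_assoc])
  have hΦ : ∀ x : Γ', Φ x = (x.1.1, scalarUnit d (L x)⁻¹ * x.1.2) := fun x => rfl
  obtain ⟨f, hf⟩ := exists_hom_of_graph Φ.range (by
      intro g
      obtain ⟨Q, hQ⟩ := hpr g
      exact ⟨_, ⟨⟨(g, Q), hQ⟩, rfl⟩⟩) (by
      rintro Q ⟨x, hx⟩
      rw [hΦ] at hx
      have h1 : x.1.1 = 1 := congrArg Prod.fst hx
      have h2 : scalarUnit d (L x)⁻¹ * x.1.2 = Q := congrArg Prod.snd hx
      rw [← h2, hL x h1, ← map_mul, inv_mul_cancel, map_one])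
  refine ⟨(Units.coeHom _).comp f, fun n => ?_⟩
  obtain ⟨h, hLn⟩ := hbase n
  have h3 : ((n : G), thetaUnit θ n) ∈ Φ.range := by
    refine ⟨⟨_, h⟩, ?_⟩
    rw [hΦ, hLn]
    simp
  have h4 := (hf _ _).mp h3
  show ((f (n : G) : (Module.End ℂ (Fin d → ℂ))ˣ) : Module.End ℂ (Fin d → ℂ)) = θ n
  rw [← h4]
  rfl

end ProjExt

end Cfsg.Agent.Helper15
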