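import Mathlib
import Cfsg.Prelude.Def_Characters
import Cfsg.Agent.Helper15.ProjExt

set_option autoImplicit false

namespace Cfsg.Agent.Helper15

open Subgroup MonoidHom

section ProjExt2

/-- An invariant homomorphism to `ℂˣ` on a normal subgroup of finite index, of exponent
coprime to the index, extends to the whole group (transfer). -/
theorem exists_hom_extension_of_pow {Γ : Type*} [Group Γ] (A : Subgroup Γ) [hA : A.Normal]
    [A.FiniteIndex] (f : A →* ℂˣ)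
    (hinv : ∀ (g : Γ) (a : A), f ⟨g * a * g⁻¹, hA.conj_mem (a : Γ) a.2 g⟩ = f a) (k : ℕ)
    (hk : ∀ a : A, f a ^ k = 1) (hcop : Nat.Coprime A.index k) :
    ∃ F : Γ →* ℂˣ, ∀ a : A, F a = f a := by
  have hbez := Nat.gcd_eq_gcd_ab A.index k
  rw [hcop.gcd_eq_one] at hbez
  refine ⟨(transfer f) ^ (Nat.gcdA A.index k), ?_⟩
  intro n
  have h1 : ((transfer f) ^ (Nat.gcdA A.index k)) (n : Γ) =
      (transfer f (n : Γ)) ^ (Nat.gcdA A.index k) := rfl
  rw [h1, transfer_apply_of_mem_normal f hinv n, ← zpow_natCast, ← zpow_mul]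
  have h2 : (A.index : ℤ) * Nat.gcdA A.index k = 1 - (k : ℤ) * Nat.gcdB A.index k := by
    have := hbez
    push_cast at this
    linarith
  rw [h2, zpow_sub, zpow_one, zpow_mul, zpow_natCast, hk n, one_zpow]
  simp

variable {G : Type*} [Group G] {N : Subgroup G} [hN : N.Normal] {d : ℕ}
  (θ : Representation ℂ N (Fin d → ℂ))

/-- The subgroup of pairs with prescribed determinant. -/
def detGroup (μ : G →* ℂˣ) (d : ℕ) : Subgroup (G × (Module.End ℂ (Fin d → ℂ))ˣ) where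
  carrier := {x | LinearMap.det (x.2 : Module.End ℂ (Fin d → ℂ)) = (μ x.1 : ℂ)}
  mul_mem' := by
    intro x y hx hy
    simp only [Set.mem_setOf_eq, Prod.snd_mul, Prod.fst_mul, Units.val_mul, map_mul] at *
    rw [hx, hy]
  one_mem' := by simp
  inv_mem' := by
    intro x hx
    simp only [Set.mem_setOf_eq, Prod.snd_inv, Prod.fst_inv, map_inv] at *
    have h1 : LinearMap.det ((x.2⁻¹ : (Module.End ℂ (Fin d → ℂ))ˣ) : Module.End ℂ (Fin d → ℂ)) *
        LinearMap.det (x.2 : Module.End ℂ (Fin d → ℂ)) = 1 := by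
      rw [← map_mul, Units.inv_mul, map_one]
    rw [hx] at h1
    rw [Units.val_inv_eq_inv_val]
    exact eq_inv_of_mul_eq_one_left h1

theorem det_scalarUnit_mul (c : ℂˣ) (Q : (Module.End ℂ (Fin d → ℂ))ˣ) :
    LinearMap.det ((scalarUnit d c * Q : (Module.End ℂ (Fin d → ℂ))ˣ) : Module.End ℂ (Fin d → ℂ)) =
      (c : ℂ) ^ d * LinearMap.det (Q : Module.End ℂ (Fin d → ℂ)) := by
  rw [Units.val_mul, scalarUnit_coe, smul_mul_assoc, one_mul, LinearMap.det_smul]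
  simp

/-- Gallagher's extension theorem at the level of representations: an invariant irreducible
representation of `N` of degree prime to the index extends to `G` as soon as its determinant
does. -/
theorem exists_rep_extension_of_det [Finite G] (hθ : θ.IsIrreducible)
    (hinv : ∀ (g : G) (n : N), θ.character (conjN g n) = θ.character n)
    (μ : G →* ℂˣ) (hμ : ∀ n : N, (μ n : ℂ) = LinearMap.det (θ n))
    (hcop : Nat.Coprime N.index d) :
    ∃ ρ : Representation ℂ G (Fin d → ℂ), ∀ n : N, ρ n = θ n := by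
  have := hθ
  have hd : 0 < d := by simpa using Cfsg.Agent.Helper80.rep_finrank_pos θ
  obtain ⟨Γ', hΓ'⟩ : ∃ Γ' : Subgroup (G × (Module.End ℂ (Fin d → ℂ))ˣ),
      Γ' = liftGroup θ ⊓ detGroup μ d := ⟨_, rfl⟩
  have hΓmem : ∀ x : Γ', x.1 ∈ liftGroup θ ∧
      LinearMap.det (x.1.2 : Module.End ℂ (Fin d → ℂ)) = (μ x.1.1 : ℂ) := by
    intro x
    have hle : Γ' ≤ liftGroup θ ⊓ detGroup μ d := le_of_eq hΓ'
    exact hle x.2
  have hpr : ∀ g, ∃ Q, (g, Q) ∈ Γ' := by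
    intro g
    obtain ⟨Q₀, hQ₀⟩ := exists_lift θ hinv g
    have hdet0 : LinearMap.det (Q₀ : Module.End ℂ (Fin d → ℂ)) ≠ 0 :=
      (Q₀.isUnit.map LinearMap.det).ne_zero
    obtain ⟨c, hc⟩ := IsAlgClosed.exists_pow_nat_eq
      ((μ g : ℂ) / LinearMap.det (Q₀ : Module.End ℂ (Fin d → ℂ))) hd
    have hc0 : c ≠ 0 := by
      intro h
      rw [h, zero_pow hd.ne'] at hc
      exact (div_ne_zero (Units.ne_zero _) hdet0) hc.symm
    refine ⟨scalarUnit d (Units.mk0 c hc0) * Q₀, ?_⟩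
    rw [hΓ']
    constructor
    · have := (liftGroup θ).mul_mem (scalar_mem_liftGroup θ (Units.mk0 c hc0)) hQ₀
      simpa using this
    · show LinearMap.det ((scalarUnit d (Units.mk0 c hc0) * Q₀ : (Module.End ℂ (Fin d → ℂ))ˣ) :
        Module.End ℂ (Fin d → ℂ)) = (μ g : ℂ)
      rw [det_scalarUnit_mul, Units.val_mk0, hc]
      field_simp
  obtain ⟨pr, hprdef⟩ : ∃ pr : Γ' →* G, pr = (MonoidHom.fst G _).comp Γ'.subtype := ⟨_, rfl⟩
  have hprx : ∀ x : Γ', pr x = x.1.1 := fun x => by rw [hprdef]; rfl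
  have hprsurj : Function.Surjective pr := fun g => by
    obtain ⟨Q, hQ⟩ := hpr g
    exact ⟨⟨(g, Q), hQ⟩, hprx _⟩
  obtain ⟨A, hAdef⟩ : ∃ A : Subgroup Γ', A = N.comap pr := ⟨_, rfl⟩
  have hAnormal : A.Normal := by rw [hAdef]; infer_instance
  have hAidx : A.index = N.index := by rw [hAdef]; exact Subgroup.index_comap_of_surjective N hprsurj
  have hAfin : A.FiniteIndex := ⟨by rw [hAidx]; exact Subgroup.FiniteIndex.index_ne_zero⟩
  have hAmem : ∀ a : A, a.1.1.1 ∈ N := fun a => by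
    have hle : A ≤ N.comap pr := le_of_eq hAdef
    have := Subgroup.mem_comap.mp (hle a.2)
    rw [hprx] at this
    exact this
  have hex : ∀ a : A, ∃ c : ℂˣ, a.1.1.2 = scalarUnit d c * thetaUnit θ ⟨a.1.1.1, hAmem a⟩ := by
    intro a
    exact lift_eq_scalar_mul θ hθ (base_mem_liftGroup θ ⟨a.1.1.1, hAmem a⟩) (hΓmem a.1).1
  choose c hc using hex
  have hcmul : ∀ a b : A, c (a * b) = c a * c b := by
    intro a b
    apply scalarUnit_injective hd
    have h1 := hc (a * b)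
    have h2 : (a * b).1.1.2 = a.1.1.2 * b.1.1.2 := rfl
    have h3 : thetaUnit θ ⟨(a * b).1.1.1, hAmem (a * b)⟩ =
        thetaUnit θ ⟨a.1.1.1, hAmem a⟩ * thetaUnit θ ⟨b.1.1.1, hAmem b⟩ := by
      rw [← map_mul]; rfl
    rw [h2, hc a, hc b, h3] at h1
    have h4 : scalarUnit d (c a) * thetaUnit θ ⟨a.1.1.1, hAmem a⟩ *
        (scalarUnit d (c b) * thetaUnit θ ⟨b.1.1.1, hAmem b⟩) =
        scalarUnit d (c a * c b) *
          (thetaUnit θ ⟨a.1.1.1, hAmem a⟩ * thetaUnit θ ⟨b.1.1.1, hAmem b⟩) := by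
      calc scalarUnit d (c a) * thetaUnit θ ⟨a.1.1.1, hAmem a⟩ *
            (scalarUnit d (c b) * thetaUnit θ ⟨b.1.1.1, hAmem b⟩)
          = scalarUnit d (c a) * (thetaUnit θ ⟨a.1.1.1, hAmem a⟩ * scalarUnit d (c b)) *
              thetaUnit θ ⟨b.1.1.1, hAmem b⟩ := by group
        _ = scalarUnit d (c a) * (scalarUnit d (c b) * thetaUnit θ ⟨a.1.1.1, hAmem a⟩) *
              thetaUnit θ ⟨b.1.1.1, hAmem b⟩ := by
            rw [scalarUnit_comm (c b) (thetaUnit θ ⟨a.1.1.1, hAmem a⟩)]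
        _ = scalarUnit d (c a) * scalarUnit d (c b) *
          (thetaUnit θ ⟨a.1.1.1, hAmem a⟩ * thetaUnit θ ⟨b.1.1.1, hAmem b⟩) := by group
        _ = _ := by rw [map_mul]
    rw [h4] at h1
    exact (mul_right_cancel h1).symm
  obtain ⟨δ, hδ⟩ : ∃ δ : A →* ℂˣ, ∀ a, δ a = c a := ⟨MonoidHom.mk' c hcmul, fun _ => rfl⟩
  have hcpow : ∀ a : A, δ a ^ d = 1 := by
    intro a
    rw [hδ]
    have h1 := (hΓmem a.1).2
    rw [hc a, det_scalarUnit_mul, thetaUnit_coe, ← hμ ⟨a.1.1.1, hAmem a⟩] at h1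
    have hμ0 : (μ a.1.1.1 : ℂ) ≠ 0 := Units.ne_zero _
    apply Units.ext
    rw [Units.val_pow_eq_pow_val, Units.val_one]
    exact mul_right_cancel₀ hμ0 (by rw [h1, one_mul])
  have hcinv : ∀ (x : Γ') (a : A),
      δ ⟨x * a * x⁻¹, hAnormal.conj_mem (a : Γ') a.2 x⟩ = δ a := by
    intro x a
    rw [hδ, hδ]
    apply scalarUnit_injective hd
    have h1 := hc ⟨x * a * x⁻¹, hAnormal.conj_mem (a : Γ') a.2 x⟩
    have h2 : (x * (a : Γ') * x⁻¹).1.2 = x.1.2 * a.1.1.2 * x.1.2⁻¹ := rfl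
    have h3 : x.1.2 * thetaUnit θ ⟨a.1.1.1, hAmem a⟩ =
        thetaUnit θ (conjN x.1.1 ⟨a.1.1.1, hAmem a⟩) * x.1.2 :=
      Units.ext ((hΓmem x).1 ⟨a.1.1.1, hAmem a⟩)
    have h4 : (⟨(x * (a : Γ') * x⁻¹).1.1, hAmem ⟨x * a * x⁻¹, hAnormal.conj_mem (a : Γ') a.2 x⟩⟩ : N) =
        conjN x.1.1 ⟨a.1.1.1, hAmem a⟩ := Subtype.ext rfl
    simp only at h1
    rw [h4, h2, hc a] at h1
    have h5 : x.1.2 * (scalarUnit d (c a) * thetaUnit θ ⟨a.1.1.1, hAmem a⟩) * x.1.2⁻¹ =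
        scalarUnit d (c a) * thetaUnit θ (conjN x.1.1 ⟨a.1.1.1, hAmem a⟩) := by
      rw [← mul_assoc, ← scalarUnit_comm, mul_assoc (scalarUnit d (c a)), h3, mul_assoc, mul_assoc,
        mul_inv_cancel, mul_one]
    rw [h5] at h1
    exact (mul_right_cancel h1).symm
  obtain ⟨L, hL⟩ := exists_hom_extension_of_pow A δ hcinv d hcpow (by rw [hAidx]; exact hcop)
  apply exists_rep_extension_of_hom θ Γ' hpr L
  · intro x hx1
    have hxA : x ∈ A := by
      rw [hAdef, Subgroup.mem_comap, hprx, hx1]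
      exact N.one_mem
    have h1 := hc ⟨x, hxA⟩
    have h2 : (⟨x.1.1, hAmem ⟨x, hxA⟩⟩ : N) = 1 := Subtype.ext hx1
    simp only at h1
    rw [h2, map_one, mul_one] at h1
    rw [h1, ← hδ, ← hL ⟨x, hxA⟩]
  · intro n
    have hmem : ((n : G), thetaUnit θ n) ∈ Γ' := by
      rw [hΓ']
      exact ⟨base_mem_liftGroup θ n, (hμ n).symm⟩
    refine ⟨hmem, ?_⟩
    have hA' : (⟨_, hmem⟩ : Γ') ∈ A := by
      rw [hAdef, Subgroup.mem_comap, hprx]
      exact n.2
    have h0 := hL ⟨⟨_, hmem⟩, hA'⟩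
    simp only at h0
    rw [h0, hδ]
    have h1 := hc ⟨⟨_, hmem⟩, hA'⟩
    simp only at h1
    have h2 : scalarUnit d (c ⟨⟨_, hmem⟩, hA'⟩) = 1 := by
      have h3 : (⟨(n : G), hAmem ⟨⟨_, hmem⟩, hA'⟩⟩ : N) = n := Subtype.ext rfl
      rw [h3] at h1
      exact (mul_eq_right.mp h1.symm)
    exact scalarUnit_injective hd (h2.trans (map_one _).symm)

end ProjExt2

end Cfsg.Agent.Helper15
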