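import Mathlib
import Cfsg.Prelude.Def_Characters
import Cfsg.Prelude.Def_CharExt
import Cfsg.Agent.Helper15.DetChar
import Cfsg.Agent.Helper15.ProjExt2
import Cfsg.Agent.Helper15.Gallagher2
import Cfsg.Agent.Helper15.LinExt
import Cfsg.Agent.Helper79.Basic

set_option autoImplicit false

namespace Cfsg.Agent.Helper15

section DetExt

universe u

variable {G : Type u} [Group G]

/-- Determinantal character of a twist by a linear character. -/
theorem detChar_twist [Finite G] (f : G →* ℂˣ) {χ : G → ℂ} (hχ : Cfsg.IsCharacter G χ) (d : ℕ)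
    (hd : χ 1 = d) (g : G) :
    Cfsg.detChar (fun g => (f g : ℂ) * χ g) g = (f g : ℂ) ^ d * Cfsg.detChar χ g := by
  obtain ⟨n, ρ, rfl⟩ := hχ
  have hn : n = d := by
    rw [Representation.char_one] at hd
    simpa using hd
  subst hn
  have h1 : (Cfsg.Agent.Helper79.twistRep f ρ).character = fun g => (f g : ℂ) * ρ.character g :=
    Cfsg.Agent.Helper79.twistRep_character f ρ
  rw [detChar_of_rep (Cfsg.Agent.Helper79.twistRep f ρ) _ ⟨n, _, h1⟩ h1,
    detChar_of_rep ρ _ ⟨n, ρ, rfl⟩ rfl]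
  show LinearMap.det ((f g : ℂ) • ρ g) = _
  rw [LinearMap.det_smul]
  simp

/-- A homomorphism to `ℂˣ` trivial on a normal subgroup has `index`-th power one. -/
theorem hom_pow_index_eq_one (N : Subgroup G) [N.Normal] (b : G →* ℂˣ)
    (hb : ∀ n : N, b n = 1) (g : G) : b g ^ N.index = 1 := by
  rw [← map_pow]
  exact hb ⟨g ^ N.index, N.pow_index_mem g⟩

/-- Existence part: an extension with prescribed determinant. -/
theorem exists_irr_extension_det [Finite G] (N : Subgroup G) [N.Normal] (ϑ : N → ℂ)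
    (hϑ : Cfsg.IsIrrCharacter N ϑ) (d : ℕ) (hd : ϑ 1 = d) (hcop : Nat.Coprime N.index d)
    (hext : ∃ η : G → ℂ, Cfsg.IsIrrCharacter G η ∧ (∀ n : N, η n = ϑ n))
    (f : G →* ℂˣ) (hfN : ∀ n : N, (f n : ℂ) = Cfsg.detChar ϑ n) :
    ∃ χ : G → ℂ, Cfsg.IsIrrCharacter G χ ∧ (∀ n : N, χ n = ϑ n) ∧
      Cfsg.detChar χ = fun g => (f g : ℂ) := by
  obtain ⟨η, hη, hηN⟩ := hext
  have hηc := isChar_of_irr hη
  obtain ⟨ν, hν⟩ := detChar_exists_hom η hηc
  have hηres : (fun x : N => η x) = ϑ := funext hηN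
  have hνN : ∀ n : N, ν n = f n := by
    intro n
    apply Units.ext
    rw [← hν, ← detChar_restrict N η hηc n, hηres, hfN]
  have hγN : ∀ n : N, (f / ν) n = 1 := by
    intro n
    rw [MonoidHom.div_apply, hνN, div_self']
  have hbez := Nat.gcd_eq_gcd_ab N.index d
  rw [hcop.gcd_eq_one] at hbez
  have hβN : ∀ n : N, ((f / ν) ^ (Nat.gcdB N.index d)) n = 1 := by
    intro n
    have h1 : ((f / ν) ^ (Nat.gcdB N.index d)) (n : G) = ((f / ν) (n : G)) ^ (Nat.gcdB N.index d) :=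
      rfl
    rw [h1, hγN, one_zpow]
  have hβd : ∀ g : G, (((f / ν) ^ (Nat.gcdB N.index d)) g) ^ d = (f / ν) g := by
    intro g
    have h1 : ((f / ν) ^ (Nat.gcdB N.index d)) g = ((f / ν) g) ^ (Nat.gcdB N.index d) := rfl
    rw [h1, ← zpow_natCast, ← zpow_mul]
    have h2 : Nat.gcdB N.index d * (d : ℤ) = 1 - (N.index : ℤ) * Nat.gcdA N.index d := by
      have := hbez
      push_cast at this
      linarith
    rw [h2, zpow_sub, zpow_one, zpow_mul, zpow_natCast, hom_pow_index_eq_one N (f / ν) hγN g,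
      one_zpow]
    simp
  have hd' : η 1 = d := by
    have := hηN 1
    rw [← hd, ← this]
    rfl
  refine ⟨fun g => (((f / ν) ^ (Nat.gcdB N.index d)) g : ℂ) * η g,
    Cfsg.Agent.Helper79.isIrrCharacter_twist _ hη, fun n => ?_, ?_⟩
  · show (((f / ν) ^ (Nat.gcdB N.index d)) (n : G) : ℂ) * η n = ϑ n
    rw [hβN n, Units.val_one, one_mul, hηN]
  · funext g
    rw [detChar_twist _ hηc d hd' g, ← Units.val_pow_eq_pow_val, hβd g, hν, ← Units.val_mul,
      MonoidHom.div_apply, div_mul_cancel]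

/-- Uniqueness part: two extensions with the same determinant coincide. -/
theorem irr_extension_det_unique [Finite G] (N : Subgroup G) [hN : N.Normal] (ϑ : N → ℂ)
    (hϑ : Cfsg.IsIrrCharacter N ϑ) (d : ℕ) (hd : ϑ 1 = d) (hcop : Nat.Coprime N.index d)
    (χ₁ χ₂ : G → ℂ) (h₁ : Cfsg.IsIrrCharacter G χ₁) (h₂ : Cfsg.IsIrrCharacter G χ₂)
    (hN₁ : ∀ n : N, χ₁ n = ϑ n) (hN₂ : ∀ n : N, χ₂ n = ϑ n)
    (hdet : Cfsg.detChar χ₁ = Cfsg.detChar χ₂) : χ₁ = χ₂ := by
  classical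
  cases nonempty_fintype G
  letI : Fintype N := Fintype.ofFinite N
  have h₁c := isChar_of_irr h₁
  have h₂c := isChar_of_irr h₂
  have h1ϑ : (fun _ : N => (1 : ℂ)) * ϑ = ϑ := by
    funext n
    simp
  have hrec : Cfsg.classInner (Cfsg.indFun N ((fun _ : N => (1 : ℂ)) * ϑ)) χ₂ ≠ 0 := by
    rw [h1ϑ, Cfsg.Agent.Helper3.frobenius_reciprocity N ϑ χ₂ (isClassFunction_of_isChar h₂c)]
    have : (fun h : N => χ₂ h) = ϑ := funext hN₂
    rw [this, irr_inner_self hϑ]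
    exact one_ne_zero
  obtain ⟨β, hβ, hβN, hβχ⟩ := gallagher_surj N (fun _ : N => (1 : ℂ)) ϑ
    Cfsg.Agent.Helper79.isIrrCharacter_one (fun _ _ => rfl) (by rw [h1ϑ]; exact hϑ) χ₁ h₁c hN₁
    χ₂ h₂ hrec
  have hβker := (inner_ind_one_ne_zero_iff N hβ).mp hβN
  have hd0 : (d : ℂ) ≠ 0 := by
    rw [← hd]
    exact Cfsg.Agent.Helper3.irr_apply_one_ne_zero hϑ
  have hχ₁1 : χ₁ 1 = d := by
    rw [← hd]
    exact hN₁ 1
  have hχ₂1 : χ₂ 1 = d := by
    rw [← hd]
    exact hN₂ 1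
  have hβ1 : β 1 = 1 := by
    have h3 := congrFun hβχ 1
    rw [Pi.mul_apply, hχ₁1, hχ₂1] at h3
    exact mul_right_cancel₀ hd0 (by rw [h3, one_mul])
  obtain ⟨b, hb⟩ := linChar_exists_hom β ⟨isChar_of_irr hβ, hβ1⟩
  have hbN : ∀ n : N, b n = 1 := by
    intro n
    apply Units.ext
    rw [← hb, hβker n n.2, hβ1, Units.val_one]
  obtain ⟨ν, hν⟩ := detChar_exists_hom χ₁ h₁c
  have hbd : ∀ g : G, b g ^ d = 1 := by
    intro g
    have h3 : χ₂ = fun g => (b g : ℂ) * χ₁ g := by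
      rw [← hβχ]
      funext x
      rw [Pi.mul_apply, hb]
    have h4 := detChar_twist b h₁c d hχ₁1 g
    rw [← h3, ← hdet, hν] at h4
    apply Units.ext
    rw [Units.val_pow_eq_pow_val, Units.val_one]
    exact mul_right_cancel₀ (Units.ne_zero (ν g)) (by rw [← h4, one_mul])
  have hb1 : ∀ g : G, b g = 1 := by
    intro g
    have h3 := hom_pow_index_eq_one N b hbN g
    have h4 := pow_gcd_eq_one.mpr ⟨h3, hbd g⟩
    rw [hcop.gcd_eq_one, pow_one] at h4
    exact h4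
  rw [← hβχ]
  funext g
  rw [Pi.mul_apply, hb, hb1, Units.val_one, one_mul]

/-- The determinantal character of an invariant character is invariant. -/
theorem detChar_invariant [Finite G] (N : Subgroup G) [hN : N.Normal] (ϑ : N → ℂ)
    (hϑ : Cfsg.IsCharacter N ϑ)
    (hinv : ∀ (g : G) (n : N), ϑ ⟨g * n * g⁻¹, hN.conj_mem (n : G) n.2 g⟩ = ϑ n) (g : G) (n : N) :
    Cfsg.detChar ϑ ⟨g * n * g⁻¹, hN.conj_mem (n : G) n.2 g⟩ = Cfsg.detChar ϑ n := by
  obtain ⟨m, θ, hθ⟩ := hϑ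
  obtain ⟨σ, hσ⟩ : ∃ σ : Representation ℂ N (Fin m → ℂ), ∀ x : N, σ x = θ (conjN g x) :=
    ⟨θ.comp (conjNHom g), fun _ => rfl⟩
  have h1 : σ.character = θ.character := by
    funext x
    have h2 : σ.character x = θ.character (conjN g x) := by
      unfold Representation.character
      rw [hσ]
    rw [h2, hθ]
    exact hinv g x
  rw [detChar_of_rep θ ϑ ⟨m, θ, hθ⟩ hθ]
  have h3 := det_eq_of_character_eq σ θ h1 n
  rw [hσ] at h3
  exact h3

end DetExt

end Cfsg.Agent.Helper15
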