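import Mathlib
import Cfsg.Prelude.Def_Characters
import Cfsg.Agent.Helper15.ProjExt

set_option autoImplicit false

namespace Cfsg.Agent.Helper15

open Subgroup MonoidHom

section ProjExtCyclic

variable {G : Type*} [Group G] {N : Subgroup G} [hN : N.Normal] {d : ℕ}
  (θ : Representation ℂ N (Fin d → ℂ))

theorem liftGroup_units {x : G × (Module.End ℂ (Fin d → ℂ))ˣ} (hx : x ∈ liftGroup θ) (n : N) :
    x.2 * thetaUnit θ n = thetaUnit θ (conjN x.1 n) * x.2 :=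
  Units.ext (hx n)

theorem liftGroup_zpow {g₀ : G} {Q : (Module.End ℂ (Fin d → ℂ))ˣ} (hQ : (g₀, Q) ∈ liftGroup θ)
    (i : ℤ) (n : N) : Q ^ i * thetaUnit θ n = thetaUnit θ (conjN (g₀ ^ i) n) * Q ^ i := by
  have h1 : ((g₀, Q) : G × (Module.End ℂ (Fin d → ℂ))ˣ) ^ i ∈ liftGroup θ :=
    (liftGroup θ).zpow_mem hQ i
  exact liftGroup_units θ h1 n

/-- The subgroup `{(n g₀ⁱ, θ(n) Qⁱ)}` of `G × GL`. -/
def cycGraph (g₀ : G) (Q : (Module.End ℂ (Fin d → ℂ))ˣ) (hQ : (g₀, Q) ∈ liftGroup θ) :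
    Subgroup (G × (Module.End ℂ (Fin d → ℂ))ˣ) where
  carrier := {x | ∃ (n : N) (i : ℤ), x.1 = n * g₀ ^ i ∧ x.2 = thetaUnit θ n * Q ^ i}
  mul_mem' := by
    rintro x y ⟨n, i, hx1, hx2⟩ ⟨m, j, hy1, hy2⟩
    refine ⟨n * conjN (g₀ ^ i) m, i + j, ?_, ?_⟩
    · rw [Prod.fst_mul, hx1, hy1, zpow_add]
      simp only [conjN, Subgroup.coe_mul]
      group
    · rw [Prod.snd_mul, hx2, hy2, map_mul, zpow_add]
      calc thetaUnit θ n * Q ^ i * (thetaUnit θ m * Q ^ j)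
          = thetaUnit θ n * (Q ^ i * thetaUnit θ m) * Q ^ j := by group
        _ = thetaUnit θ n * (thetaUnit θ (conjN (g₀ ^ i) m) * Q ^ i) * Q ^ j := by
            rw [liftGroup_zpow θ hQ i m]
        _ = _ := by group
  one_mem' := ⟨1, 0, by simp, by simp⟩
  inv_mem' := by
    rintro x ⟨n, i, hx1, hx2⟩
    refine ⟨conjN (g₀ ^ (-i)) n⁻¹, -i, ?_, ?_⟩
    · rw [Prod.fst_inv, hx1]
      simp only [conjN, Subgroup.coe_inv]
      group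
    · rw [Prod.snd_inv, hx2, ← liftGroup_zpow θ hQ (-i) n⁻¹, map_inv]
      group

theorem mem_cycGraph (g₀ : G) (Q : (Module.End ℂ (Fin d → ℂ))ˣ) (hQ : (g₀, Q) ∈ liftGroup θ)
    (x : G × (Module.End ℂ (Fin d → ℂ))ˣ) :
    x ∈ cycGraph θ g₀ Q hQ ↔
      ∃ (n : N) (i : ℤ), x.1 = n * g₀ ^ i ∧ x.2 = thetaUnit θ n * Q ^ i := Iff.rfl

/-- Extension from a generator of the quotient. -/
theorem exists_rep_of_generator (g₀ : G) (Q : (Module.End ℂ (Fin d → ℂ))ˣ)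
    (hQ : (g₀, Q) ∈ liftGroup θ)
    (hgen : ∀ g : G, ∃ (n : N) (i : ℤ), g = n * g₀ ^ i)
    (hpow : ∀ (i : ℤ) (h : g₀ ^ i ∈ N), Q ^ i = thetaUnit θ ⟨g₀ ^ i, h⟩) :
    ∃ ρ : Representation ℂ G (Fin d → ℂ), (∀ n : N, ρ n = θ n) ∧
      ρ g₀ = (Q : Module.End ℂ (Fin d → ℂ)) := by
  obtain ⟨f, hf⟩ := exists_hom_of_graph (cycGraph θ g₀ Q hQ) (by
      intro g
      obtain ⟨n, i, hg⟩ := hgen g
      exact ⟨thetaUnit θ n * Q ^ i, n, i, hg, rfl⟩) (by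
      rintro Q' ⟨n, i, h1, h2⟩
      simp only at h1 h2
      have h3 : g₀ ^ i = ((n⁻¹ : N) : G) := by
        rw [Subgroup.coe_inv]
        exact eq_inv_of_mul_eq_one_right h1.symm
      have h4 : g₀ ^ i ∈ N := by
        rw [h3]
        exact (n⁻¹).2
      have h5 : (⟨g₀ ^ i, h4⟩ : N) = n⁻¹ := Subtype.ext h3
      rw [h2, hpow i h4, h5, ← map_mul, mul_inv_cancel, map_one])
  refine ⟨(Units.coeHom _).comp f, fun n => ?_, ?_⟩
  · have h3 : ((n : G), thetaUnit θ n) ∈ cycGraph θ g₀ Q hQ := ⟨n, 0, by simp, by simp⟩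
    have h4 := (hf _ _).mp h3
    show ((f (n : G) : (Module.End ℂ (Fin d → ℂ))ˣ) : Module.End ℂ (Fin d → ℂ)) = θ n
    rw [← h4]
    rfl
  · have h3 : (g₀, Q) ∈ cycGraph θ g₀ Q hQ := ⟨1, 1, by simp, by simp⟩
    have h4 := (hf _ _).mp h3
    show ((f g₀ : (Module.End ℂ (Fin d → ℂ))ˣ) : Module.End ℂ (Fin d → ℂ)) = Q
    rw [← h4]

/-- An invariant irreducible representation of `N` extends to `G` when `G / N` is cyclic. -/
theorem exists_rep_extension_of_cyclic [Finite G] (hcyc : IsCyclic (G ⧸ N))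
    (hθ : θ.IsIrreducible)
    (hinv : ∀ (g : G) (n : N), θ.character (conjN g n) = θ.character n) :
    ∃ ρ : Representation ℂ G (Fin d → ℂ), ∀ n : N, ρ n = θ n := by
  have hd : 0 < d := by simpa using Cfsg.Agent.Helper80.rep_finrank_pos θ
  obtain ⟨q, hq⟩ := hcyc.exists_generator
  obtain ⟨g₀, rfl⟩ := QuotientGroup.mk_surjective q
  have hk : 0 < orderOf (g₀ : G ⧸ N) := orderOf_pos _
  have hmemN : ∀ i : ℤ, g₀ ^ i ∈ N ↔ (orderOf (g₀ : G ⧸ N) : ℤ) ∣ i := by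
    intro i
    rw [← QuotientGroup.eq_one_iff, QuotientGroup.mk_zpow, orderOf_dvd_iff_zpow_eq_one]
  have hkN : g₀ ^ orderOf (g₀ : G ⧸ N) ∈ N := by
    have := (hmemN (orderOf (g₀ : G ⧸ N))).mpr dvd_rfl
    rwa [zpow_natCast] at this
  obtain ⟨Q₀, hQ₀⟩ := exists_lift θ hinv g₀
  have h1 : (g₀ ^ orderOf (g₀ : G ⧸ N), Q₀ ^ orderOf (g₀ : G ⧸ N)) ∈ liftGroup θ :=
    (liftGroup θ).pow_mem hQ₀ (orderOf (g₀ : G ⧸ N))
  obtain ⟨c, hc⟩ := lift_eq_scalar_mul θ hθ (base_mem_liftGroup θ ⟨_, hkN⟩) h1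
  obtain ⟨a, ha⟩ := IsAlgClosed.exists_pow_nat_eq (c : ℂ) hk
  have ha0 : a ≠ 0 := by
    intro h
    rw [h, zero_pow hk.ne'] at ha
    exact c.ne_zero ha.symm
  have hau : (Units.mk0 a ha0) ^ orderOf (g₀ : G ⧸ N) = c := by
    apply Units.ext
    rw [Units.val_pow_eq_pow_val, Units.val_mk0, ha]
  have hQ : (g₀, scalarUnit d (Units.mk0 a ha0)⁻¹ * Q₀) ∈ liftGroup θ := by
    have := (liftGroup θ).mul_mem (scalar_mem_liftGroup θ (Units.mk0 a ha0)⁻¹) hQ₀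
    simpa using this
  have hQk : (scalarUnit d (Units.mk0 a ha0)⁻¹ * Q₀) ^ orderOf (g₀ : G ⧸ N) =
      thetaUnit θ ⟨_, hkN⟩ := by
    rw [(show Commute _ _ from scalarUnit_comm (Units.mk0 a ha0)⁻¹ Q₀).mul_pow, hc, ← map_pow, inv_pow, hau, ← mul_assoc,
      ← map_mul, inv_mul_cancel, map_one, one_mul]
  obtain ⟨ρ, hρ, -⟩ := exists_rep_of_generator θ g₀ _ hQ (by
      intro g
      obtain ⟨i, hi⟩ := Subgroup.mem_zpowers_iff.mp (hq (g : G ⧸ N))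
      have h2 : g * (g₀ ^ i)⁻¹ ∈ N := by
        rw [← QuotientGroup.eq_one_iff, QuotientGroup.mk_mul, QuotientGroup.mk_inv,
          QuotientGroup.mk_zpow, hi, mul_inv_cancel]
      exact ⟨⟨_, h2⟩, i, by simp⟩) (by
      intro i h
      obtain ⟨m, hm⟩ := (hmemN i).mp h
      subst hm
      rw [zpow_mul, zpow_natCast, hQk, ← map_zpow]
      congr 1
      apply Subtype.ext
      show (g₀ ^ orderOf (g₀ : G ⧸ N)) ^ m = g₀ ^ ((orderOf (g₀ : G ⧸ N) : ℤ) * m)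
      rw [zpow_mul, zpow_natCast])
  exact ⟨ρ, hρ⟩

end ProjExtCyclic

end Cfsg.Agent.Helper15
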