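import Mathlib
import Cfsg.Prelude.Def_Characters
import Cfsg.Agent.Helper15.Gallagher2
import Cfsg.Agent.Helper15.CharScalar
import Cfsg.Agent.Helper75.ScalarDvd
import Cfsg.Agent.Helper79.Quotient

set_option autoImplicit false

namespace Cfsg.Agent.Helper15

open scoped ComplexConjugate

section RamDvd

/-- Abstract ramification-divisibility lemma: if `σ` is an irreducible character of the finite
group `Γ` with irreducible restriction to the normal subgroup `N₀`, and `A` is a subgroup all of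
whose elements are products of a central element and an element of `N₀`, then every irreducible
character `ψ` lying over `σ|N₀` has degree `b * σ 1` with `b` dividing the index of `A`. -/
theorem degree_dvd_of_central_cover {Γ : Type*} [Group Γ] [Fintype Γ] (N₀ : Subgroup Γ)
    [hN : N₀.Normal] [Fintype N₀] (A : Subgroup Γ)
    (hA : ∀ a ∈ A, ∃ z ∈ Subgroup.center Γ, ∃ n ∈ N₀, a = z * n)
    (σ : Γ → ℂ) (hσ : Cfsg.IsIrrCharacter Γ σ)
    (hσN : Cfsg.IsIrrCharacter N₀ (fun n : N₀ => σ n)) (ψ : Γ → ℂ)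
    (hψ : Cfsg.IsIrrCharacter Γ ψ)
    (hne : Cfsg.classInner (fun n : N₀ => ψ n) (fun n : N₀ => σ n) ≠ 0) :
    ∃ b : ℕ, ψ 1 = b * σ 1 ∧ b ∣ A.index := by
  obtain ⟨hβ, hβN, hψβ⟩ := (gallagher_average N₀ σ hσ hσN ψ hψ).1 hne
  obtain ⟨b, τ, hτ, hτβ⟩ := hβ
  refine ⟨b, ?_, ?_⟩
  · have h1 := congrFun hψβ 1
    rw [Pi.mul_apply, ← hτβ, Representation.char_one] at h1
    rw [h1]
    simp
  · have h1 := Cfsg.Agent.Helper75.finrank_dvd_index_of_scalar τ A (by
      intro a ha
      obtain ⟨z, hz, n, hn, rfl⟩ := hA a ha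
      obtain ⟨c, hc⟩ := rep_central_scalar τ hz
      have h2 : τ n = 1 := by
        apply Cfsg.Agent.Helper79.rep_eq_one_of_char_eq τ n
        rw [hτβ]
        exact hβN n hn
      refine ⟨c, ?_⟩
      rw [map_mul, h2, mul_one, hc]
      rfl)
    simpa using h1

end RamDvd

end Cfsg.Agent.Helper15
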