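import Mathlib
import Cfsg.Prelude.Def_Characters
import Cfsg.Agent.Helper15.ProjExt2
import Cfsg.Agent.Helper15.ProjExtCyclic
import Cfsg.Agent.Helper15.RamDvd

set_option autoImplicit false

namespace Cfsg.Agent.Helper15

open Subgroup MonoidHom

section FinLift

variable {G : Type*} [Group G] {N : Subgroup G} [hN : N.Normal] {d : ℕ}
  (θ : Representation ℂ N (Fin d → ℂ))

/-- Pairs whose determinant is an `m`-th root of unity. -/
def detPowGroup (G : Type*) [Group G] (d m : ℕ) :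
    Subgroup (G × (Module.End ℂ (Fin d → ℂ))ˣ) where
  carrier := {x | LinearMap.det (x.2 : Module.End ℂ (Fin d → ℂ)) ^ m = 1}
  mul_mem' := by
    intro x y hx hy
    show LinearMap.det ((x.2 * y.2 : (Module.End ℂ (Fin d → ℂ))ˣ) : Module.End ℂ (Fin d → ℂ)) ^ m = 1
    rw [Units.val_mul, map_mul, mul_pow, hx, hy, one_mul]
  one_mem' := by
    show LinearMap.det ((1 : (Module.End ℂ (Fin d → ℂ))ˣ) : Module.End ℂ (Fin d → ℂ)) ^ m = 1
    rw [Units.val_one, map_one, one_pow]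
  inv_mem' := by
    intro x hx
    show LinearMap.det ((x.2⁻¹ : (Module.End ℂ (Fin d → ℂ))ˣ) : Module.End ℂ (Fin d → ℂ)) ^ m = 1
    have h1 : LinearMap.det ((x.2⁻¹ : (Module.End ℂ (Fin d → ℂ))ˣ) : Module.End ℂ (Fin d → ℂ)) *
        LinearMap.det (x.2 : Module.End ℂ (Fin d → ℂ)) = 1 := by
      rw [← map_mul, Units.inv_mul, map_one]
    have h2 : (LinearMap.det ((x.2⁻¹ : (Module.End ℂ (Fin d → ℂ))ˣ) : Module.End ℂ (Fin d → ℂ)) *
        LinearMap.det (x.2 : Module.End ℂ (Fin d → ℂ))) ^ m = 1 := by rw [h1, one_pow]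
    have hx' : LinearMap.det (x.2 : Module.End ℂ (Fin d → ℂ)) ^ m = 1 := hx
    rw [mul_pow, hx', mul_one] at h2
    exact h2

/-- The finite group of lifts with determinant an `m`-th root of unity. -/
def finLift (m : ℕ) : Subgroup (G × (Module.End ℂ (Fin d → ℂ))ˣ) :=
  liftGroup θ ⊓ detPowGroup G d m

theorem mem_finLift (m : ℕ) (x : G × (Module.End ℂ (Fin d → ℂ))ˣ) :
    x ∈ finLift θ m ↔ x ∈ liftGroup θ ∧
      LinearMap.det (x.2 : Module.End ℂ (Fin d → ℂ)) ^ m = 1 := Iff.rfl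

theorem det_scalarUnit (c : ℂˣ) :
    LinearMap.det ((scalarUnit d c : (Module.End ℂ (Fin d → ℂ))ˣ) : Module.End ℂ (Fin d → ℂ)) =
      (c : ℂ) ^ d := by
  have h := det_scalarUnit_mul c (1 : (Module.End ℂ (Fin d → ℂ))ˣ)
  rw [mul_one, Units.val_one, map_one, mul_one] at h
  exact h

theorem exists_finLift [Finite N]
    (hinv : ∀ (g : G) (n : N), θ.character (conjN g n) = θ.character n) (m : ℕ) (hd : 0 < d)
    (g : G) : ∃ Q : (Module.End ℂ (Fin d → ℂ))ˣ, (g, Q) ∈ finLift θ m := by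
  obtain ⟨Q₀, hQ₀⟩ := exists_lift θ hinv g
  have hdet0 : LinearMap.det (Q₀ : Module.End ℂ (Fin d → ℂ)) ≠ 0 :=
    (Q₀.isUnit.map LinearMap.det).ne_zero
  obtain ⟨c, hc⟩ := IsAlgClosed.exists_pow_nat_eq
    ((LinearMap.det (Q₀ : Module.End ℂ (Fin d → ℂ)))⁻¹) hd
  have hc0 : c ≠ 0 := by
    intro h
    rw [h, zero_pow hd.ne'] at hc
    exact (inv_ne_zero hdet0) hc.symm
  refine ⟨scalarUnit d (Units.mk0 c hc0) * Q₀, ?_, ?_⟩
  · have := (liftGroup θ).mul_mem (scalar_mem_liftGroup θ (Units.mk0 c hc0)) hQ₀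
    simpa using this
  · show LinearMap.det ((scalarUnit d (Units.mk0 c hc0) * Q₀ : (Module.End ℂ (Fin d → ℂ))ˣ) :
        Module.End ℂ (Fin d → ℂ)) ^ m = 1
    rw [det_scalarUnit_mul, Units.val_mk0, hc, inv_mul_cancel₀ hdet0, one_pow]

theorem scalar_mem_finLift (m : ℕ) (c : ℂˣ) (hc : c ^ (d * m) = 1) :
    ((1 : G), scalarUnit d c) ∈ finLift θ m := by
  refine ⟨scalar_mem_liftGroup θ c, ?_⟩
  show LinearMap.det ((scalarUnit d c : (Module.End ℂ (Fin d → ℂ))ˣ) :
    Module.End ℂ (Fin d → ℂ)) ^ m = 1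
  rw [det_scalarUnit, ← pow_mul, ← Units.val_pow_eq_pow_val, hc, Units.val_one]

theorem finLift_ker (hθ : θ.IsIrreducible) (m : ℕ) {Q : (Module.End ℂ (Fin d → ℂ))ˣ}
    (h : ((1 : G), Q) ∈ finLift θ m) : ∃ c : ℂˣ, Q = scalarUnit d c ∧ c ^ (d * m) = 1 := by
  obtain ⟨c, hc⟩ := lift_eq_scalar_mul θ hθ (liftGroup θ).one_mem h.1
  have hc' : Q = scalarUnit d c := by
    rw [hc]
    exact mul_one _
  refine ⟨c, hc', ?_⟩
  have h2 : LinearMap.det (Q : Module.End ℂ (Fin d → ℂ)) ^ m = 1 := h.2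
  rw [hc', det_scalarUnit, ← pow_mul] at h2
  apply Units.ext
  rw [Units.val_pow_eq_pow_val, h2, Units.val_one]

theorem base_mem_finLift [Finite N] (n : N) :
    ((n : G), thetaUnit θ n) ∈ finLift θ (Nat.card N) := by
  refine ⟨base_mem_liftGroup θ n, ?_⟩
  show LinearMap.det ((thetaUnit θ n : (Module.End ℂ (Fin d → ℂ))ˣ) :
    Module.End ℂ (Fin d → ℂ)) ^ Nat.card N = 1
  rw [thetaUnit_coe, ← map_pow, ← map_pow, pow_card_eq_one', map_one, map_one]

theorem finite_finLift [Finite G] (hθ : θ.IsIrreducible)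
    (hinv : ∀ (g : G) (n : N), θ.character (conjN g n) = θ.character n) (m : ℕ) (hm : 0 < m) :
    Finite (finLift θ m) := by
  have := hθ
  have hd : 0 < d := by simpa using Cfsg.Agent.Helper80.rep_finrank_pos θ
  haveI : NeZero (d * m) := ⟨(Nat.mul_pos hd hm).ne'⟩
  choose s hs using exists_finLift θ hinv m hd
  let Φ : G × rootsOfUnity (d * m) ℂ → finLift θ m := fun p =>
    ⟨((1 : G), scalarUnit d (p.2 : ℂˣ)), scalar_mem_finLift θ m _ p.2.2⟩ * ⟨(p.1, s p.1), hs p.1⟩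
  have hΦ : Function.Surjective Φ := by
    intro x
    have h1 : ((1 : G), x.1.2 * (s x.1.1)⁻¹) ∈ finLift θ m := by
      have h2 := (finLift θ m).mul_mem x.2 ((finLift θ m).inv_mem (hs x.1.1))
      have h3 : (x.1 * (x.1.1, s x.1.1)⁻¹ : G × (Module.End ℂ (Fin d → ℂ))ˣ) =
          (1, x.1.2 * (s x.1.1)⁻¹) := by
        ext <;> simp
      rw [h3] at h2
      exact h2
    obtain ⟨c, hc, hc1⟩ := finLift_ker θ hθ m h1
    refine ⟨(x.1.1, ⟨c, (mem_rootsOfUnity _ _).mpr hc1⟩), ?_⟩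
    apply Subtype.ext
    show ((1 : G), scalarUnit d c) * (x.1.1, s x.1.1) = x.1
    rw [← hc]
    ext <;> simp
  exact Finite.of_surjective Φ hΦ

/-- The tautological representation of the group of lifts. -/
def finLiftRep (m : ℕ) : Representation ℂ (finLift θ m) (Fin d → ℂ) :=
  (Units.coeHom _).comp ((MonoidHom.snd G _).comp (finLift θ m).subtype)

theorem finLiftRep_apply (m : ℕ) (x : finLift θ m) :
    finLiftRep θ m x = ((x.1.2 : (Module.End ℂ (Fin d → ℂ))ˣ) : Module.End ℂ (Fin d → ℂ)) := rfl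

/-- The projection of the group of lifts to `G`. -/
def finLiftPr (m : ℕ) : finLift θ m →* G := (MonoidHom.fst G _).comp (finLift θ m).subtype

theorem finLiftPr_apply (m : ℕ) (x : finLift θ m) : finLiftPr θ m x = x.1.1 := rfl

theorem finLiftPr_surjective [Finite N]
    (hinv : ∀ (g : G) (n : N), θ.character (conjN g n) = θ.character n) (m : ℕ) (hd : 0 < d) :
    Function.Surjective (finLiftPr θ m) := by
  intro g
  obtain ⟨Q, hQ⟩ := exists_finLift θ hinv m hd g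
  exact ⟨⟨(g, Q), hQ⟩, rfl⟩

/-- The embedding of `N` into the group of lifts. -/
def finLiftBase [Finite N] : N →* finLift θ (Nat.card N) where
  toFun n := ⟨((n : G), thetaUnit θ n), base_mem_finLift θ n⟩
  map_one' := by
    apply Subtype.ext
    show (((1 : N) : G), thetaUnit θ 1) = 1
    rw [map_one]
    rfl
  map_mul' a b := by
    apply Subtype.ext
    show (((a * b : N) : G), thetaUnit θ (a * b)) = ((a : G), thetaUnit θ a) * ((b : G), thetaUnit θ b)
    rw [map_mul]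
    rfl

theorem finLiftBase_apply [Finite N] (n : N) :
    (finLiftBase θ n : G × (Module.End ℂ (Fin d → ℂ))ˣ) = ((n : G), thetaUnit θ n) := rfl

theorem finLiftBase_injective [Finite N] : Function.Injective (finLiftBase θ) := by
  intro a b h
  have h1 := congrArg (fun x : finLift θ (Nat.card N) => x.1.1) h
  exact Subtype.ext h1

theorem finLiftRep_base [Finite N] (n : N) :
    finLiftRep θ (Nat.card N) (finLiftBase θ n) = θ n := rfl

theorem finLiftBase_conj [Finite N] (x : finLift θ (Nat.card N)) (n : N) :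
    x * finLiftBase θ n * x⁻¹ = finLiftBase θ (conjN x.1.1 n) := by
  apply Subtype.ext
  refine Prod.ext rfl ?_
  show x.1.2 * thetaUnit θ n * x.1.2⁻¹ = thetaUnit θ (conjN x.1.1 n)
  rw [liftGroup_units θ x.2.1 n, mul_inv_cancel_right]

instance finLiftBase_range_normal [Finite N] : (finLiftBase θ).range.Normal := by
  constructor
  rintro _ ⟨n, rfl⟩ x
  exact ⟨conjN x.1.1 n, (finLiftBase_conj θ x n).symm⟩

omit hN in
/-- A representation whose image contains that of an irreducible representation on the same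
space is irreducible. -/
theorem isIrreducible_of_image {H : Type*} [Group H] (ρ : Representation ℂ H (Fin d → ℂ))
    (hθ : θ.IsIrreducible) (h : ∀ n : N, ∃ x : H, ρ x = θ n) : ρ.IsIrreducible := by
  rw [Cfsg.Agent.Helper79.isIrreducible_iff] at hθ ⊢
  refine ⟨hθ.1, fun S hS => hθ.2 S ?_⟩
  intro n v hv
  obtain ⟨x, hx⟩ := h n
  rw [← hx]
  exact hS x v hv

/-- Elements over `N` are central times base. -/
theorem finLift_over_N [Finite N] (hθ : θ.IsIrreducible) (a : finLift θ (Nat.card N))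
    (ha : a.1.1 ∈ N) :
    ∃ z ∈ Subgroup.center (finLift θ (Nat.card N)), ∃ n ∈ (finLiftBase θ).range, a = z * n := by
  refine ⟨a * (finLiftBase θ ⟨a.1.1, ha⟩)⁻¹, ?_, finLiftBase θ ⟨a.1.1, ha⟩, ⟨_, rfl⟩,
    (inv_mul_cancel_right _ _).symm⟩
  have h1 : (a * (finLiftBase θ ⟨a.1.1, ha⟩)⁻¹).1.1 = 1 := by
    show a.1.1 * (a.1.1)⁻¹ = 1
    exact mul_inv_cancel _
  have h2 : ((1 : G), (a * (finLiftBase θ ⟨a.1.1, ha⟩)⁻¹).1.2) ∈ finLift θ (Nat.card N) := by
    have := (a * (finLiftBase θ ⟨a.1.1, ha⟩)⁻¹).2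
    rw [← h1]
    exact this
  obtain ⟨c, hc, -⟩ := finLift_ker θ hθ _ h2
  rw [Subgroup.mem_center_iff]
  intro y
  apply Subtype.ext
  refine Prod.ext ?_ ?_
  · show y.1.1 * (a * (finLiftBase θ ⟨a.1.1, ha⟩)⁻¹).1.1 =
      (a * (finLiftBase θ ⟨a.1.1, ha⟩)⁻¹).1.1 * y.1.1
    rw [h1, mul_one, one_mul]
  · show y.1.2 * (a * (finLiftBase θ ⟨a.1.1, ha⟩)⁻¹).1.2 =
      (a * (finLiftBase θ ⟨a.1.1, ha⟩)⁻¹).1.2 * y.1.2
    rw [hc, scalarUnit_comm]

end FinLift

end Cfsg.Agent.Helper15
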