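import Mathlib
import Cfsg.Prelude.Def_Characters
import Cfsg.Agent.Helper15.FinLift

set_option autoImplicit false

namespace Cfsg.Agent.Helper15

open Subgroup MonoidHom

section RamInv

variable {G : Type*} [Group G] {N : Subgroup G} [hN : N.Normal] {d : ℕ}
  (θ : Representation ℂ N (Fin d → ℂ))

/-- If `χ` is an irreducible character of `G` lying over the `G`-invariant irreducible
representation `θ` of the normal subgroup `N`, then `χ 1 = b * d` with `b` dividing the index
of `N`. -/
theorem degree_dvd_index_of_invariant [Fintype G] [Fintype N] (hθ : θ.IsIrreducible)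
    (hinv : ∀ (g : G) (n : N), θ.character (conjN g n) = θ.character n)
    (χ : G → ℂ) (hχ : Cfsg.IsIrrCharacter G χ)
    (hne : Cfsg.classInner (fun n : N => χ n) θ.character ≠ 0) :
    ∃ b : ℕ, χ 1 = b * d ∧ b ∣ N.index := by
  classical
  have := hθ
  have hd : 0 < d := by simpa using Cfsg.Agent.Helper80.rep_finrank_pos θ
  have hfin : Finite (finLift θ (Nat.card N)) := finite_finLift θ hθ hinv _ Nat.card_pos
  letI : Fintype (finLift θ (Nat.card N)) := Fintype.ofFinite _
  letI : Fintype (finLiftBase θ).range := Fintype.ofFinite _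
  have hσirr : (finLiftRep θ (Nat.card N)).IsIrreducible :=
    isIrreducible_of_image θ _ hθ (fun n => ⟨finLiftBase θ n, rfl⟩)
  obtain ⟨σN, hσN⟩ : ∃ σN : Representation ℂ (finLiftBase θ).range (Fin d → ℂ),
      ∀ x : (finLiftBase θ).range, σN x = finLiftRep θ (Nat.card N) x :=
    ⟨(finLiftRep θ _).comp (Subgroup.subtype _), fun _ => rfl⟩
  have hσNirr : σN.IsIrreducible :=
    isIrreducible_of_image θ _ hθ (fun n => ⟨⟨finLiftBase θ n, n, rfl⟩, by rw [hσN]; rfl⟩)
  have hσNchar : σN.character =
      fun n : (finLiftBase θ).range => (finLiftRep θ (Nat.card N)).character n := by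
    funext x
    unfold Representation.character
    rw [hσN]
  have hne' : Cfsg.classInner
      (fun n : (finLiftBase θ).range => χ (finLiftPr θ (Nat.card N) n))
      (fun n : (finLiftBase θ).range => (finLiftRep θ (Nat.card N)).character n) ≠ 0 := by
    have e : N ≃* (finLiftBase θ).range := MonoidHom.ofInjective (finLiftBase_injective θ)
    have he : ∀ n : N, ((MonoidHom.ofInjective (finLiftBase_injective θ) n :
        (finLiftBase θ).range) : finLift θ (Nat.card N)) = finLiftBase θ n := fun n => rfl
    have h1 : Cfsg.classInner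
        (fun n : (finLiftBase θ).range => χ (finLiftPr θ (Nat.card N) n))
        (fun n : (finLiftBase θ).range => (finLiftRep θ (Nat.card N)).character n) =
        Cfsg.classInner (fun n : N => χ n) θ.character := by
      unfold Cfsg.classInner
      rw [Nat.card_congr (MonoidHom.ofInjective (finLiftBase_injective θ)).toEquiv.symm]
      congr 1
      rw [← Equiv.sum_comp (MonoidHom.ofInjective (finLiftBase_injective θ)).toEquiv]
      apply Finset.sum_congr rfl
      intro n _
      rfl
    rw [h1]
    exact hne
  obtain ⟨b, h1, h2⟩ := degree_dvd_of_central_cover (finLiftBase θ).range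
    (N.comap (finLiftPr θ (Nat.card N)))
    (fun a ha => finLift_over_N θ hθ a ha)
    (finLiftRep θ (Nat.card N)).character ⟨d, _, hσirr, rfl⟩ ⟨d, σN, hσNirr, hσNchar⟩
    (fun x => χ (finLiftPr θ (Nat.card N) x))
    (Cfsg.Agent.Helper79.isIrrCharacter_comp _ (finLiftPr_surjective θ hinv _ hd) hχ)
    hne'
  refine ⟨b, ?_, ?_⟩
  · rw [Representation.char_one] at h1
    simpa using h1
  · rwa [Subgroup.index_comap_of_surjective _ (finLiftPr_surjective θ hinv _ hd)] at h2

end RamInv

end Cfsg.Agent.Helper15
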