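import Mathlib
import Cfsg.Prelude.Def_Characters
import Cfsg.Agent.Helper15.RamInv
import Cfsg.Agent.Helper75.CliffordCorr
import Cfsg.Agent.Helper3.MGroup

set_option autoImplicit false

namespace Cfsg.Agent.Helper15

open Subgroup MonoidHom

section RamGen

variable {G : Type*} [Group G]

/-- Isaacs 11.29: if `χ` is an irreducible character of `G` lying over the irreducible
character `ϑ` of the normal subgroup `N`, then `χ 1 = t * b * ϑ 1` where `t * b` divides the
index of `N`. -/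
theorem degree_eq_mul_of_constituent [Fintype G] (N : Subgroup G) [hN : N.Normal] [Fintype N]
    (χ : G → ℂ) (hχ : Cfsg.IsIrrCharacter G χ) (ϑ : N → ℂ) (hϑ : Cfsg.IsIrrCharacter N ϑ)
    (hcon : Cfsg.classInner (fun n : N => χ n) ϑ ≠ 0) :
    ∃ k : ℕ, χ 1 = k * ϑ 1 ∧ k ∣ N.index := by
  classical
  have hϑc := isChar_of_irr hϑ
  have hχc := isChar_of_irr hχ
  obtain ⟨T, hTdef⟩ : ∃ T : Subgroup G, T = Cfsg.Agent.Helper3.inertia N ϑ := ⟨_, rfl⟩
  have hT : ∀ g : G, g ∈ T ↔ Cfsg.Agent.Helper75.conjFun N g ϑ = ϑ := by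
    intro g
    rw [hTdef]
    rfl
  have hNT : N ≤ T := by
    intro a ha
    rw [hT]
    funext h
    rw [Cfsg.Agent.Helper75.conjFun_apply]
    exact isClassFunction_of_isChar hϑc h ⟨a, ha⟩
  letI : Fintype T := Fintype.ofFinite T
  letI : Fintype (N.subgroupOf T) := Fintype.ofFinite _
  obtain ⟨ψ, hψ, hχψ, hψϑ⟩ := Cfsg.Agent.Helper75.exists_irr_over hNT hϑc hχc hcon
  obtain ⟨hind, -⟩ := Cfsg.Agent.Helper75.clifford_correspondence hNT hϑ hT hψ hχ hψϑ hχψ
  have h1 : χ 1 = (T.index : ℂ) * ψ 1 := by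
    rw [← hind, Cfsg.Agent.Helper75.indFun_one]
    have hT0 : (Nat.card T : ℂ) ≠ 0 := by exact_mod_cast Nat.card_pos.ne'
    rw [← Subgroup.index_mul_card T]
    push_cast
    field_simp
  obtain ⟨d, θ, hθirr, hθ⟩ := hϑ
  obtain ⟨θ', hθ'⟩ : ∃ θ' : Representation ℂ (N.subgroupOf T) (Fin d → ℂ),
      ∀ x : N.subgroupOf T, θ' x = θ (Subgroup.subgroupOfEquivOfLe hNT x) :=
    ⟨θ.comp (Subgroup.subgroupOfEquivOfLe hNT).toMonoidHom, fun _ => rfl⟩
  have hθ'irr : θ'.IsIrreducible := isIrreducible_of_image θ θ' hθirr (fun n =>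
    ⟨(Subgroup.subgroupOfEquivOfLe hNT).symm n, by rw [hθ', MulEquiv.apply_symm_apply]⟩)
  have hθ'char : θ'.character = fun x : N.subgroupOf T => ϑ (Subgroup.subgroupOfEquivOfLe hNT x) := by
    funext x
    rw [← hθ]
    unfold Representation.character
    rw [hθ']
  have hne : Cfsg.classInner (fun n : N.subgroupOf T => ψ n) θ'.character ≠ 0 := by
    rw [hθ'char, Cfsg.Agent.Helper75.classInner_subgroupOf hNT ψ ϑ]
    exact hψϑ
  have hinv : ∀ (t : T) (x : N.subgroupOf T), θ'.character (conjN t x) = θ'.character x := by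
    intro t x
    rw [hθ'char]
    have h2 := congrFun ((hT t).mp t.2) (Subgroup.subgroupOfEquivOfLe hNT x)
    rw [Cfsg.Agent.Helper75.conjFun_apply] at h2
    show ϑ (Subgroup.subgroupOfEquivOfLe hNT (conjN t x)) = ϑ (Subgroup.subgroupOfEquivOfLe hNT x)
    rw [← h2]
    rfl
  obtain ⟨b, hb1, hb2⟩ := degree_dvd_index_of_invariant θ' hθ'irr hinv ψ hψ hne
  refine ⟨T.index * b, ?_, ?_⟩
  · rw [h1, hb1, ← hθ, Representation.char_one]
    simp [mul_assoc]
  · have h3 : N.relIndex T * T.index = N.index := Subgroup.relIndex_mul_index hNT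
    rw [← h3, mul_comm]
    exact Nat.mul_dvd_mul hb2 dvd_rfl

end RamGen

end Cfsg.Agent.Helper15
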