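import Mathlib
import Cfsg.Prelude.Def_Characters
import Cfsg.Agent.Helper3.IndFun
import Cfsg.Agent.Helper15.CharInner
import Cfsg.Agent.Helper15.Gallagher
import Cfsg.Agent.Helper15.RamGen
import Cfsg.Agent.Helper75.CliffordCorr
import Cfsg.Agent.Helper79.Basic
import Cfsg.Agent.Helper79.Quotient
import Cfsg.Agent.Helper80.CharIrr

set_option autoImplicit false

namespace Cfsg.Agent.Helper15

open Cfsg
open scoped ComplexConjugate

section MassM

variable {G : Type*} [Group G] [Fintype G]

open Classical in
/-- The unnormalized inner product of two functions on `G` over a subgroup `N`. -/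
noncomputable def subInner (N : Subgroup G) (a b : G → ℂ) : ℂ :=
  ∑ g : G, if g ∈ N then a g * conj (b g) else 0

open Classical in
/-- The unnormalized square norm of a function on `G` over a subgroup `N`. -/
noncomputable def subNorm (N : Subgroup G) (a : G → ℂ) : ℝ :=
  ∑ g : G, if g ∈ N then Complex.normSq (a g) else 0

theorem subInner_eq_sum (N : Subgroup G) [Fintype N] (a b : G → ℂ) :
    subInner N a b = ∑ n : N, a n * conj (b n) := by
  classical
  unfold subInner
  rw [← Finset.sum_filter]
  exact Finset.sum_subtype _ (by simp) _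

theorem subInner_eq_classInner (N : Subgroup G) [Fintype N] (a b : G → ℂ) :
    subInner N a b = (Nat.card N : ℂ) * classInner (fun n : N => a n) (fun n : N => b n) := by
  rw [subInner_eq_sum]
  unfold classInner
  have : (Nat.card N : ℂ) ≠ 0 := by exact_mod_cast Nat.card_pos.ne'
  field_simp

theorem subInner_self (N : Subgroup G) (a : G → ℂ) : subInner N a a = (subNorm N a : ℂ) := by
  classical
  unfold subInner subNorm
  rw [Complex.ofReal_sum]
  apply Finset.sum_congr rfl
  intro g _
  split_ifs
  · rw [Complex.mul_conj]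
  · simp

/-- The key formula: the inner product over a normal subgroup `K` of an induced function with
a class function. -/
theorem subInner_indFun_normal (K : Subgroup G) [hK : K.Normal] (H : Subgroup G) (ϑ : H → ℂ)
    (α : G → ℂ) (hα : IsClassFunction G α) :
    subInner K (indFun H ϑ) α =
      (Nat.card G : ℂ) / (Nat.card H : ℂ) * subInner (K ⊓ H) (extendByZero H ϑ) α := by
  classical
  have key : ∀ x : G,
      (∑ g : G, if g ∈ K then extendByZero H ϑ (x⁻¹ * g * x) * conj (α g) else 0)
      = subInner (K ⊓ H) (extendByZero H ϑ) α := by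
    intro x
    unfold subInner
    rw [← Equiv.sum_comp (MulAut.conj x).toEquiv]
    apply Finset.sum_congr rfl
    intro g _
    have h1 : (MulAut.conj x).toEquiv g = x * g * x⁻¹ := rfl
    rw [h1]
    have h2 : x⁻¹ * (x * g * x⁻¹) * x = g := by group
    rw [h2, hα g x]
    have h3 : x * g * x⁻¹ ∈ K ↔ g ∈ K := by
      constructor
      · intro h
        have := hK.conj_mem _ h x⁻¹
        rw [inv_inv] at this
        rwa [show x⁻¹ * (x * g * x⁻¹) * x = g by group] at this
      · intro h
        exact hK.conj_mem g h x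
    by_cases hgK : g ∈ K
    · rw [if_pos (h3.mpr hgK)]
      by_cases hgH : g ∈ H
      · rw [if_pos ⟨hgK, hgH⟩]
      · rw [if_neg (fun h => hgH h.2), Cfsg.Agent.Helper3.extendByZero_of_not_mem H ϑ hgH,
          zero_mul]
    · rw [if_neg (fun h => hgK (h3.mp h)), if_neg (fun h => hgK h.1)]
  calc subInner K (indFun H ϑ) α
      = ∑ g : G, ∑ x : G, (Nat.card H : ℂ)⁻¹ *
          (if g ∈ K then extendByZero H ϑ (x⁻¹ * g * x) * conj (α g) else 0) := by
        unfold subInner indFun
        apply Finset.sum_congr rfl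
        intro g _
        split_ifs with h
        · rw [Finset.mul_sum, Finset.sum_mul]
          apply Finset.sum_congr rfl
          intro x _
          ring
        · simp
    _ = ∑ x : G, (Nat.card H : ℂ)⁻¹ *
          ∑ g : G, (if g ∈ K then extendByZero H ϑ (x⁻¹ * g * x) * conj (α g) else 0) := by
        rw [Finset.sum_comm]
        apply Finset.sum_congr rfl
        intro x _
        rw [Finset.mul_sum]
    _ = ∑ x : G, (Nat.card H : ℂ)⁻¹ * subInner (K ⊓ H) (extendByZero H ϑ) α := by
        apply Finset.sum_congr rfl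
        intro x _
        rw [key x]
    _ = _ := by
        rw [Finset.sum_const, Finset.card_univ, nsmul_eq_mul, ← Nat.card_eq_fintype_card]
        ring

/-- Bessel's inequality against one irreducible character. -/
theorem bessel_irr {R : Type*} [Group R] [Fintype R] (α η : R → ℂ) (hη : IsIrrCharacter R η) :
    (Nat.card R : ℝ) * Complex.normSq (classInner α η) ≤ ∑ g : R, Complex.normSq (α g) := by
  have hsum : ∀ f : R → ℂ, ((∑ g : R, Complex.normSq (f g) : ℝ) : ℂ) =
      (Nat.card R : ℂ) * classInner f f := by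
    intro f
    unfold classInner
    have : (Nat.card R : ℂ) ≠ 0 := by exact_mod_cast Nat.card_pos.ne'
    rw [← mul_assoc, mul_inv_cancel₀ this, one_mul, Complex.ofReal_sum]
    apply Finset.sum_congr rfl
    intro g _
    rw [Complex.mul_conj]
  set c := classInner α η with hc
  have h1 : classInner (α + (-c) • η) (α + (-c) • η) =
      classInner α α - (Complex.normSq c : ℂ) := by
    rw [classInner_add_left, classInner_add_right, classInner_add_right, classInner_smul_left,
      classInner_smul_left, classInner_smul_right, classInner_smul_right, irr_inner_self hη,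
      ← hc, classInner_conj_symm η α, ← hc, ← Complex.mul_conj]
    simp only [map_neg]
    ring
  have h2 := hsum (α + (-c) • η)
  rw [h1, mul_sub, ← hsum α] at h2
  have h3 : (∑ g : R, Complex.normSq ((α + (-c) • η) g) : ℝ) =
      ∑ g : R, Complex.normSq (α g) - (Nat.card R : ℝ) * Complex.normSq c := by
    exact_mod_cast h2
  have h4 : 0 ≤ ∑ g : R, Complex.normSq ((α + (-c) • η) g) :=
    Finset.sum_nonneg (fun g _ => Complex.normSq_nonneg _)
  linarith

/-- If the mass of `a` on `K` does not exceed its mass on the smaller subgroup `R`, then `a`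
vanishes on `K` off `R`. -/
theorem vanish_of_subNorm_le (R K : Subgroup G) (hRK : R ≤ K) (a : G → ℂ)
    (h : subNorm K a ≤ subNorm R a) : ∀ g ∈ K, g ∉ R → a g = 0 := by
  classical
  intro g₀ hg₀K hg₀R
  by_contra hne
  have hlt : subNorm R a < subNorm K a := by
    unfold subNorm
    apply Finset.sum_lt_sum
    · intro g _
      by_cases hgR : g ∈ R
      · rw [if_pos hgR, if_pos (hRK hgR)]
      · rw [if_neg hgR]
        split_ifs
        · exact Complex.normSq_nonneg _
        · exact le_refl _
    · refine ⟨g₀, Finset.mem_univ _, ?_⟩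
      rw [if_neg hg₀R, if_pos hg₀K]
      exact Complex.normSq_pos.mpr hne
  linarith

/-- If `a` vanishes on `K` off the smaller subgroup `L`, the inner products over `K` and `L`
agree. -/
theorem subInner_eq_of_vanish (L K : Subgroup G) (hLK : L ≤ K) (a b : G → ℂ)
    (h : ∀ g ∈ K, g ∉ L → a g = 0) : subInner K a b = subInner L a b := by
  classical
  unfold subInner
  apply Finset.sum_congr rfl
  intro g _
  by_cases hgL : g ∈ L
  · rw [if_pos hgL, if_pos (hLK hgL)]
  · rw [if_neg hgL]
    split_ifs with hgK
    · rw [h g hgK hgL, zero_mul]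
    · rfl

/-- A character whose pullback along a homomorphism is irreducible is irreducible. -/
theorem isIrr_of_comp_isIrr {T S : Type*} [Group T] [Group S] [Fintype T] [Fintype S]
    (f : S →* T) (ψ : T → ℂ) (hψ : IsCharacter T ψ)
    (h : IsIrrCharacter S (fun s => ψ (f s))) : IsIrrCharacter T ψ := by
  classical
  let _ : Fintype (IrrCharacter T) := Fintype.ofFinite _
  have hm : ∀ φ : IrrCharacter T, ∃ n : ℕ, classInner ψ (φ : T → ℂ) = n :=
    fun φ => inner_nat hψ (isChar_of_irr φ.2)
  choose m hm using hm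
  have hcomp : ∀ φ : IrrCharacter T, IsCharacter S (fun s => (φ : T → ℂ) (f s)) :=
    fun φ => Cfsg.Agent.Helper79.isCharacter_comp (isChar_of_irr φ.2) f
  have hg : ∀ φ φ' : IrrCharacter T, ∃ n : ℕ,
      classInner (fun s => (φ : T → ℂ) (f s)) (fun s => (φ' : T → ℂ) (f s)) = n :=
    fun φ φ' => inner_nat (hcomp φ) (hcomp φ')
  choose g hg using hg
  have h0 := classFun_eq_sum (isClassFunction_of_isChar hψ)
  simp only [hm] at h0
  have hψf : (fun s => ψ (f s)) =
      ∑ φ : IrrCharacter T, (m φ : ℂ) • (fun s => (φ : T → ℂ) (f s)) := by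
    funext s
    conv_lhs => rw [h0]
    simp [Finset.sum_apply]
  have h1 : classInner (fun s => ψ (f s)) (fun s => ψ (f s)) = 1 := irr_inner_self h
  rw [hψf, classInner_sum_left] at h1
  simp_rw [classInner_smul_left, classInner_sum_right, classInner_smul_right, hg] at h1
  have h2 : ∑ φ : IrrCharacter T, ∑ φ' : IrrCharacter T, m φ * m φ' * g φ φ' = 1 := by
    have : ((∑ φ : IrrCharacter T, ∑ φ' : IrrCharacter T, m φ * m φ' * g φ φ' : ℕ) : ℂ) = 1 := by
      rw [← h1]
      push_cast
      apply Finset.sum_congr rfl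
      intro φ _
      rw [Finset.mul_sum]
      apply Finset.sum_congr rfl
      intro φ' _
      rw [Complex.conj_natCast]
      ring
    exact_mod_cast this
  have hgpos : ∀ φ : IrrCharacter T, 1 ≤ g φ φ := by
    intro φ
    rw [Nat.one_le_iff_ne_zero]
    intro h0'
    have := hg φ φ
    rw [h0', Nat.cast_zero] at this
    have h3 := classInner_self_eq_zero this
    have h4 := congrFun h3 1
    simp only [map_one, Pi.zero_apply] at h4
    exact Cfsg.Agent.Helper80.irr_one_ne_zero φ h4
  have h3 : ∑ φ : IrrCharacter T, m φ * m φ ≤ 1 := by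
    rw [← h2]
    apply Finset.sum_le_sum
    intro φ _
    calc m φ * m φ ≤ m φ * m φ * g φ φ := Nat.le_mul_of_pos_right _ (hgpos φ)
      _ ≤ ∑ φ' : IrrCharacter T, m φ * m φ' * g φ φ' :=
        Finset.single_le_sum (f := fun φ' => m φ * m φ' * g φ φ') (fun _ _ => Nat.zero_le _)
          (Finset.mem_univ φ)
  have h4 : classInner ψ ψ = ((∑ φ : IrrCharacter T, m φ * m φ : ℕ) : ℂ) := by
    rw [classInner_eq_sum (isClassFunction_of_isChar hψ)]
    push_cast
    apply Finset.sum_congr rfl
    intro φ _
    rw [hm, Complex.conj_natCast]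
  have h5 : ∑ φ : IrrCharacter T, m φ * m φ ≠ 0 := by
    intro h0'
    rw [h0', Nat.cast_zero] at h4
    have h6 := classInner_self_eq_zero h4
    have h7 : (fun s => ψ (f s)) 1 = 0 := by simp [h6]
    exact Cfsg.Agent.Helper80.irr_one_ne_zero ⟨_, h⟩ h7
  have h6 : ∑ φ : IrrCharacter T, m φ * m φ = 1 := by omega
  rw [h6, Nat.cast_one] at h4
  exact isIrr_of_inner_one hψ h4

/-- Relative version of the degree theorem: if `M ≤ K` with `M` normal and `ψ ∈ Irr(K)` lies
over `φ ∈ Irr(M)`, then `ψ 1 / φ 1` divides `|K : M|`. -/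
theorem degree_dvd_relIndex {M K : Subgroup G} [hM : M.Normal] (hMK : M ≤ K) [Fintype M]
    [Fintype K] (ψ : K → ℂ) (hψ : IsIrrCharacter K ψ) (φ : M → ℂ) (hφ : IsIrrCharacter M φ)
    (hcon : classInner (Cfsg.Agent.Helper75.resTo hMK ψ) φ ≠ 0) :
    ∃ k : ℕ, ψ 1 = k * φ 1 ∧ k ∣ M.relIndex K := by
  classical
  let _ : Fintype ↥(M.subgroupOf K) := Fintype.ofFinite _
  have hφ' : IsIrrCharacter ↥(M.subgroupOf K)
      (fun x => φ (Subgroup.subgroupOfEquivOfLe hMK x)) :=
    (Cfsg.Agent.Helper79.isIrrCharacter_mulEquiv (Subgroup.subgroupOfEquivOfLe hMK)).mpr hφ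
  have hcon' : classInner (fun n : ↥(M.subgroupOf K) => ψ n)
      (fun x : ↥(M.subgroupOf K) => φ (Subgroup.subgroupOfEquivOfLe hMK x)) ≠ 0 := by
    rw [Cfsg.Agent.Helper75.classInner_subgroupOf hMK]
    exact hcon
  obtain ⟨k, hk1, hk2⟩ := degree_eq_mul_of_constituent (M.subgroupOf K) ψ hψ _ hφ' hcon'
  refine ⟨k, ?_, hk2⟩
  rw [hk1, map_one]

theorem subInner_top (a b : G → ℂ) :
    subInner (⊤ : Subgroup G) a b = (Nat.card G : ℂ) * classInner a b := by
  classical
  unfold subInner classInner
  have : (Nat.card G : ℂ) ≠ 0 := by exact_mod_cast Nat.card_pos.ne'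
  rw [← mul_assoc, mul_inv_cancel₀ this, one_mul]
  apply Finset.sum_congr rfl
  intro g _
  rw [if_pos (Subgroup.mem_top g)]

theorem subNorm_eq_sum (N : Subgroup G) [Fintype N] (a : G → ℂ) :
    subNorm N a = ∑ n : N, Complex.normSq (a n) := by
  classical
  unfold subNorm
  rw [← Finset.sum_filter]
  exact Finset.sum_subtype _ (by simp) _

/-- The inner product over `N` of a function whose restriction to `N` is a natural multiple
of an irreducible character. -/
theorem subInner_homog (N : Subgroup G) [Fintype N] (χ : G → ℂ) (φ : N → ℂ)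
    (hφ : IsIrrCharacter N φ) (e : ℕ) (h : (fun m : N => χ m) = (e : ℂ) • φ) :
    subInner N χ χ = ((Nat.card N * e * e : ℕ) : ℂ) := by
  rw [subInner_eq_classInner, h, classInner_smul_left, classInner_smul_right,
    irr_inner_self hφ, Complex.conj_natCast]
  push_cast
  ring

omit [Fintype G] in
theorem homog_ne_zero (N : Subgroup G) (χ : G → ℂ) (hχ1 : χ 1 ≠ 0) (φ : N → ℂ) (e : ℕ)
    (h : (fun m : N => χ m) = (e : ℂ) • φ) : e ≠ 0 := by
  rintro rfl
  apply hχ1
  have := congrFun h 1
  simpa using this

end MassM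

end Cfsg.Agent.Helper15
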