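import Mathlib
import Cfsg.Agent.Helper16.NGDefs

/-!
# CALL S4404 (helper16), piece FACTS (helper15): six small facts on `V = [x, M]`.
-/

set_option autoImplicit false

namespace Cfsg.Agent.Helper15.NGFACTS
open Cfsg.Agent.Helper16.NG

variable {S : Type*} [Group S]

theorem ng_V_le {M V : Subgroup S} {x : S} (h : Cfg M V x) : V ≤ M := by
  intro v hv
  obtain ⟨m, hm, rfl⟩ := (h.hV v).1 hv
  exact M.mul_mem (h.normal.conj_mem m hm x) (M.inv_mem hm)

theorem ng_V_conj {M V : Subgroup S} {x : S} (h : Cfg M V x) : ∀ v ∈ V, x * v * x⁻¹ ∈ V := by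
  intro v hv
  obtain ⟨m, hm, rfl⟩ := (h.hV v).1 hv
  refine (h.hV _).2 ⟨x * m * x⁻¹, h.normal.conj_mem m hm x, ?_⟩
  group

theorem ng_V_fpf {M V : Subgroup S} {x : S} (h : Cfg M V x) :
    ∀ v ∈ V, x * v * x⁻¹ = v → v = 1 := by
  intro v hv hfix
  have hvM : v ∈ M := ng_V_le h hv
  obtain ⟨m, hm, hvm⟩ := (h.hV v).1 hv
  set a := x * m * x⁻¹ with ha
  set b := x * a * x⁻¹ with hb
  have haM : a ∈ M := h.normal.conj_mem m hm x
  have hbM : b ∈ M := h.normal.conj_mem a haM x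
  have hc : x * b * x⁻¹ = m := by
    have h1 := h.cube m hm
    have h2 : x * b * x⁻¹ = x ^ 3 * m * (x ^ 3)⁻¹ := by
      rw [hb, ha]
      simp only [pow_succ, pow_zero, one_mul, mul_inv_rev, mul_assoc]
    rw [h2, h1]
  have ha' : a⁻¹ = x * m⁻¹ * x⁻¹ := by rw [ha]; group
  -- `v = a m⁻¹`, `x v x⁻¹ = b a⁻¹`, `x (x v x⁻¹) x⁻¹ = m b⁻¹`
  have e1 : x * v * x⁻¹ = b * a⁻¹ := by
    calc x * v * x⁻¹ = x * (a * m⁻¹) * x⁻¹ := by rw [← hvm]
      _ = (x * a * x⁻¹) * (x * m⁻¹ * x⁻¹) := by group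
      _ = b * a⁻¹ := by rw [← hb, ← ha']
  have hb' : b⁻¹ = x * a⁻¹ * x⁻¹ := by rw [hb]; group
  have e2 : x * (x * v * x⁻¹) * x⁻¹ = m * b⁻¹ := by
    rw [e1]
    calc x * (b * a⁻¹) * x⁻¹ = x * b * x⁻¹ * (x * a⁻¹ * x⁻¹) := by group
      _ = m * b⁻¹ := by rw [hc, ← hb']
  have e3 : v = b * a⁻¹ := by rw [← e1, hfix]
  have e4 : v = m * b⁻¹ := by
    rw [← e2, hfix, hfix]
  have hab : a * b = b * a := h.comm a haM b hbM
  have h1 : m⁻¹ * (b * a⁻¹) = (b * a⁻¹) * m⁻¹ :=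
    h.comm _ (M.inv_mem hm) _ (M.mul_mem hbM (M.inv_mem haM))
  have h2 : a * b * a⁻¹ * b⁻¹ = 1 := by rw [hab]; group
  have h3 : v * v * v = 1 := by
    calc v * v * v = (a * m⁻¹) * (b * a⁻¹) * (m * b⁻¹) := by
          nth_rewrite 1 [hvm]
          nth_rewrite 1 [e3]
          nth_rewrite 1 [e4]
          rfl
      _ = a * (m⁻¹ * (b * a⁻¹)) * (m * b⁻¹) := by group
      _ = a * ((b * a⁻¹) * m⁻¹) * (m * b⁻¹) := by rw [h1]
      _ = a * b * a⁻¹ * b⁻¹ := by group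
      _ = 1 := h2
  have h4 : v * v = 1 := by
    have := h.sq v hvM
    rwa [pow_two] at this
  rw [h4, one_mul] at h3
  exact h3

theorem ng_V_irred {M V : Subgroup S} {x : S} (h : Cfg M V x) (K : Subgroup S) (hK : K ≤ V)
    (hKx : ∀ k ∈ K, x * k * x⁻¹ ∈ K) : K = ⊥ ∨ K = V := by
  have hVfin : Finite V := Nat.finite_of_card_ne_zero (by rw [h.card]; norm_num)
  have hdvd : Nat.card K ∣ 2 ^ 2 := by
    have := Subgroup.card_dvd_of_le hK
    rw [h.card] at this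
    simpa using this
  obtain ⟨j, hj, hcard⟩ := (Nat.dvd_prime_pow Nat.prime_two).1 hdvd
  interval_cases j
  · left
    exact Subgroup.eq_bot_of_card_eq K (by simpa using hcard)
  · exfalso
    have hc2 : Nat.card K = 2 := by simpa using hcard
    obtain ⟨k, hk1, huniq⟩ := (Nat.card_eq_two_iff' (1 : K)).1 hc2
    have hk' : (⟨x * (k : S) * x⁻¹, hKx k k.2⟩ : K) ≠ 1 := by
      intro hcon
      have h1 : x * (k : S) * x⁻¹ = 1 := congrArg Subtype.val hcon
      have h2 : (k : S) = 1 := by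
        have : (k : S) = x⁻¹ * (x * (k : S) * x⁻¹) * x := by group
        rw [this, h1]; group
      exact hk1 (Subtype.ext h2)
    have h3 := huniq _ hk'
    have h4 : x * (k : S) * x⁻¹ = (k : S) := congrArg Subtype.val h3
    have h5 := ng_V_fpf h (k : S) (hK k.2) h4
    exact hk1 (Subtype.ext h5)
  · right
    exact Subgroup.eq_of_le_of_card_ge hK (by rw [h.card, hcard]; norm_num)

theorem ng_V_norm_of_comm {M V : Subgroup S} {x : S} (h : Cfg M V x) (g : S)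
    (hg : ∀ m ∈ M, g * (x * m * x⁻¹) * g⁻¹ = x * (g * m * g⁻¹) * x⁻¹) :
    ∀ v ∈ V, g * v * g⁻¹ ∈ V := by
  intro v hv
  obtain ⟨m, hm, rfl⟩ := (h.hV v).1 hv
  refine (h.hV _).2 ⟨g * m * g⁻¹, h.normal.conj_mem m hm g, ?_⟩
  rw [← hg m hm]
  group

theorem ng_V_cent_of_norm [Finite S] {M V : Subgroup S} {x : S} (h : Cfg M V x) (g : S)
    (hg : ∀ v ∈ V, g * v * g⁻¹ ∈ V) (hord : (orderOf g).Coprime 6) :
    g ∈ Subgroup.centralizer (V : Set S) := by
  classical
  let f : V → V := fun v => ⟨g * (v : S) * g⁻¹, hg v v.2⟩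
  have hinj : Function.Injective f := by
    intro a b hab
    have h1 : g * (a : S) * g⁻¹ = g * (b : S) * g⁻¹ := congrArg Subtype.val hab
    apply Subtype.ext
    have h2 : (a : S) = g⁻¹ * (g * (a : S) * g⁻¹) * g := by group
    rw [h2, h1]; group
  have hbij : Function.Bijective f := Finite.injective_iff_bijective.mp hinj
  let π : Equiv.Perm V := Equiv.ofBijective f hbij
  have hpow : ∀ n : ℕ, ∀ v : V, (((π ^ n) v : V) : S) = g ^ n * (v : S) * (g ^ n)⁻¹ := by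
    intro n
    induction n with
    | zero => intro v; simp
    | succ n ih =>
      intro v
      rw [pow_succ', Equiv.Perm.mul_apply]
      have h1 : ((π ((π ^ n) v) : V) : S) = g * (((π ^ n) v : V) : S) * g⁻¹ := rfl
      rw [h1, ih v, pow_succ']
      group
  have h1 : π ^ orderOf g = 1 := by
    ext v
    rw [hpow, pow_orderOf_eq_one]
    simp
  have h2 : π ^ 24 = 1 := by
    have h3 : Nat.card (Equiv.Perm V) = 24 := by
      rw [Nat.card_perm, h.card]; rfl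
    rw [← h3]
    exact pow_card_eq_one'
  have hcop : (orderOf g).Coprime 24 := by
    have h2' : (orderOf g).Coprime 2 := Nat.Coprime.coprime_dvd_right (by norm_num) hord
    have : (24 : ℕ) = 6 * 2 * 2 := by norm_num
    rw [this]
    exact Nat.Coprime.mul_right (Nat.Coprime.mul_right hord h2') h2'
  have h4 : orderOf π ∣ 1 := by
    have h5 := Nat.dvd_gcd (orderOf_dvd_of_pow_eq_one h1) (orderOf_dvd_of_pow_eq_one h2)
    rwa [Nat.Coprime.gcd_eq_one hcop] at h5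
  have h6 : π = 1 := orderOf_eq_one_iff.mp (Nat.dvd_one.mp h4)
  rw [Subgroup.mem_centralizer_iff]
  intro v hv
  have h7 : (π ⟨v, hv⟩ : V) = ⟨v, hv⟩ := by rw [h6]; rfl
  have h8 : g * v * g⁻¹ = v := congrArg Subtype.val h7
  calc v * g = (g * v * g⁻¹) * g := by rw [h8]
    _ = g * v := by group

end Cfsg.Agent.Helper15.NGFACTS
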