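import Mathlib
import Cfsg.Prelude.Def_Characters
import Cfsg.Prelude.Def_Blocks
import Cfsg.Agent.Helper15.PiPart
import Cfsg.Agent.Helper73.BrauerChar
import Cfsg.Agent.Helper3.BrauerInd

set_option autoImplicit false

namespace Cfsg.Agent.Helper15

open scoped ComplexConjugate

section PiPartBrauer

variable {G : Type*} [Group G]

/-- Isaacs 8.19: the function equal to `n` on the elements whose `n`-part is conjugate to `g`
and `0` elsewhere is an algebraic-integer combination of characters. -/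
theorem piPart_mem_genSpanA [Fintype G] (m n : ℕ) (hmn : Nat.card G = m * n)
    (hcop : Nat.Coprime m n) (g : G) (s t : ℤ) (hst : (n : ℤ) * s + (m : ℤ) * t = 1)
    (ϑ : G → ℂ) (h1 : ∀ x : G, IsConj (x ^ ((m : ℤ) * t)) g → ϑ x = n)
    (h0 : ∀ x : G, ¬ IsConj (x ^ ((m : ℤ) * t)) g → ϑ x = 0) :
    ϑ ∈ Cfsg.Agent.Helper73.genSpanA G := by
  classical
  have hcl : Cfsg.IsClassFunction G ϑ := by
    intro x h
    have h2 : (h * x * h⁻¹) ^ ((m : ℤ) * t) = h * x ^ ((m : ℤ) * t) * h⁻¹ := conj_zpow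
    have h3 : IsConj ((h * x * h⁻¹) ^ ((m : ℤ) * t)) g ↔ IsConj (x ^ ((m : ℤ) * t)) g := by
      rw [h2]
      constructor
      · intro hc
        exact (isConj_iff.mpr ⟨h, rfl⟩ : IsConj (x ^ ((m : ℤ) * t)) _).trans hc
      · intro hc
        exact (isConj_iff.mpr ⟨h, rfl⟩ : IsConj (x ^ ((m : ℤ) * t)) _).symm.trans hc
    by_cases hc : IsConj (x ^ ((m : ℤ) * t)) g
    · rw [h1 x hc, h1 _ (h3.mpr hc)]
    · rw [h0 x hc, h0 _ (fun h' => hc (h3.mp h'))]
  apply Cfsg.Agent.Helper73.brauer_characterization_A hcl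
  intro E p hp hE
  haveI : Group.IsNilpotent E := Cfsg.Agent.Helper3.isNilpotent_of_isElementary hp hE
  apply Cfsg.Agent.Helper73.mem_genSpanA_of_classInner_algInt
  · intro x h
    exact hcl (x : G) (h : G)
  · intro χ
    have hD : ∀ e : E, IsIntegral ℤ
        ((fun e : E => if IsConj (e : G) g then (1 : ℂ) else 0) e) := by
      intro e
      by_cases hc : IsConj (e : G) g
      · simp only [if_pos hc]
        exact isIntegral_one
      · simp only [if_neg hc]
        exact isIntegral_zero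
    have key := classInner_piPart_algInt m n hcop
      ((Subgroup.card_subgroup_dvd_card E).trans (dvd_of_eq hmn)) s t hst
      (fun e : E => if IsConj (e : G) g then (1 : ℂ) else 0) hD χ.1 χ.2
    have hfun : (fun e : E => ϑ e) = fun e : E =>
        (n : ℂ) * (fun e : E => if IsConj (e : G) g then (1 : ℂ) else 0) (e ^ ((m : ℤ) * t)) := by
      funext e
      simp only [Subgroup.coe_zpow]
      by_cases hc : IsConj ((e : G) ^ ((m : ℤ) * t)) g
      · rw [h1 _ hc, if_pos hc, mul_one]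
      · rw [h0 _ hc, if_neg hc, mul_zero]
    rw [hfun]
    exact key

/-- The decomposition into `m`-part and `n`-part, via powers. -/
theorem exists_parts_iff [Finite G] (m n : ℕ) (hmn : Nat.card G = m * n) (hcop : Nat.Coprime m n)
    (g : G) (s t : ℤ) (hst : (n : ℤ) * s + (m : ℤ) * t = 1) (x : G) :
    (∃ v : G, IsConj v g ∧ (∃ u : G, x = u * v ∧ Commute u v ∧ Nat.Coprime (orderOf u) n ∧
      Nat.Coprime (orderOf v) m)) ↔ IsConj (x ^ ((m : ℤ) * t)) g := by
  have hpow : ∀ y : G, y ^ (m * n) = 1 := by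
    intro y
    rw [← hmn]
    exact pow_card_eq_one'
  constructor
  · rintro ⟨v, hvg, u, rfl, hcomm, hu, hv⟩
    have hum : u ^ m = 1 := by
      have h2 : orderOf u ∣ m * n := orderOf_dvd_of_pow_eq_one (hpow u)
      exact orderOf_dvd_iff_pow_eq_one.mp (hu.dvd_of_dvd_mul_right h2)
    have hvn : v ^ n = 1 := by
      have h2 : orderOf v ∣ m * n := orderOf_dvd_of_pow_eq_one (hpow v)
      exact orderOf_dvd_iff_pow_eq_one.mp (hv.dvd_of_dvd_mul_left h2)
    have h3 : (u * v) ^ ((m : ℤ) * t) = v := by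
      rw [hcomm.mul_zpow, zpow_mul, zpow_natCast, hum, one_zpow, one_mul]
      have h4 : (m : ℤ) * t = 1 - (n : ℤ) * s := by linarith
      rw [h4, zpow_sub, zpow_one, zpow_mul, zpow_natCast, hvn, one_zpow]
      simp
    rw [h3]
    exact hvg
  · intro hc
    refine ⟨x ^ ((m : ℤ) * t), hc, x ^ ((n : ℤ) * s), ?_, ?_, ?_, ?_⟩
    · rw [← zpow_add, hst, zpow_one]
    · exact (Commute.refl x).zpow_zpow _ _
    · have h2 : (x ^ ((n : ℤ) * s)) ^ m = 1 := by
        rw [← zpow_natCast, ← zpow_mul]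
        have h3 : (n : ℤ) * s * (m : ℤ) = ((m * n : ℕ) : ℤ) * s := by
          push_cast
          ring
        rw [h3, zpow_mul, zpow_natCast, hpow, one_zpow]
      exact Nat.Coprime.coprime_dvd_left (orderOf_dvd_of_pow_eq_one h2) hcop
    · have h2 : (x ^ ((m : ℤ) * t)) ^ n = 1 := by
        rw [← zpow_natCast, ← zpow_mul]
        have h3 : (m : ℤ) * t * (n : ℤ) = ((m * n : ℕ) : ℤ) * t := by
          push_cast
          ring
        rw [h3, zpow_mul, zpow_natCast, hpow, one_zpow]
      exact Nat.Coprime.coprime_dvd_left (orderOf_dvd_of_pow_eq_one h2) hcop.symm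

end PiPartBrauer

end Cfsg.Agent.Helper15
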