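import Mathlib
import Cfsg.Agent.Helper79.S4705Defs
import Cfsg.Agent.Helper15.B42Main
import Cfsg.Agent.Helper74.S4504CEN
import Cfsg.Agent.Helper15.S4705SARITH

/-!
CALL S4705SH (helper45), piece ARITH: `sh_arith`, verbatim, from `Helper15.s4705s_arith`.
-/

set_option autoImplicit false
open Cfsg Cfsg.Agent.Helper77 Cfsg.Agent.Helper15
open scoped ComplexConjugate

universe u

namespace Cfsg.Agent.Helper15.S4705SHARITH

variable {H : Type u} [Group H] [Finite H]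

theorem sh_arith (p : ℕ) [Fact p.Prime] (hp5 : 5 < p) (x : H) (hx : orderOf x = p)
    (F : Subgroup (ZMod p)ˣ) (hF : (F : Set (ZMod p)ˣ) = normUnits p x)
    (χ : H → ℂ) (hχ : Cfsg.IsCharacter H χ) (t : ℕ) (ht : 0 < t) (l₀ : ZMod p) (hl₀ : l₀ ≠ 0)
    (ε : ℤ) (hε : ε = 1 ∨ ε = -1)
    (hval : χ x = (ε : ℂ) * (t : ℂ)
      * ∑ᶠ s ∈ normUnits p x, d1zeta p ^ (((s : (ZMod p)ˣ) : ZMod p) * l₀).val)
    (hker : χ x ≠ χ 1) (hdeg : Cfsg.charDegree χ + 2 = p) :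
    (χ x = ((Cfsg.charDegree χ : ℕ) : ℂ) * d1zeta p ^ l₀.val) ∨
    (Nat.card F = 2 ∧ ∀ b : ℕ,
      χ (x ^ b) + d1zeta p ^ (l₀.val * b) + d1zeta p ^ ((-l₀).val * b)
        = if p ∣ b then (p : ℂ) else 0) := by
  have hp : p.Prime := Fact.out
  haveI : NeZero p := ⟨hp.ne_zero⟩
  have hζp : d1zeta p ^ p = 1 := (Complex.isPrimitiveRoot_exp p hp.ne_zero).pow_eq_one
  rcases s4705s_arith p hp5 x hx F hF χ hχ t ht l₀ hl₀ ε hε hval hker hdeg with h1 | h1
  · left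
    rw [h1, Helper80.isCharacter_one_eq hχ]
  · right
    obtain ⟨-, -, hF2, hb⟩ := h1
    refine ⟨hF2, fun b => ?_⟩
    have hnegval : d1zeta p ^ (-l₀).val = (d1zeta p ^ l₀.val)⁻¹ := by
      have h1 : (-l₀).val + l₀.val = p := by
        rw [ZMod.neg_val, if_neg hl₀]
        have := ZMod.val_lt l₀
        omega
      have h2 : d1zeta p ^ (-l₀).val * d1zeta p ^ l₀.val = 1 := by rw [← pow_add, h1, hζp]
      exact eq_inv_of_mul_eq_one_left h2
    rw [pow_mul, pow_mul, hnegval]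
    exact hb b

end Cfsg.Agent.Helper15.S4705SHARITH
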