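import Mathlib
import Cfsg.Agent.Helper79.S4705Defs
import Cfsg.Agent.Helper15.B42Main
import Cfsg.Agent.Helper74.S4504CEN
import Cfsg.Agent.Helper15.BergerTools
import Cfsg.Agent.Helper15.LinChar

/-!
CALL S4705SH (helper45), piece MULT: `sh_mult`, verbatim.
-/

set_option autoImplicit false
open Cfsg Cfsg.Agent.Helper77 Cfsg.Agent.Helper15
open scoped ComplexConjugate

universe u

namespace Cfsg.Agent.Helper15.S4705SHMULT

variable {H : Type u} [Group H] [Finite H]

theorem sh_mult (K : Subgroup H) (χ : H → ℂ) (hχ : Cfsg.IsCharacter H χ)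
    (θ : Cfsg.IrrCharacter K) (N : ℕ) (hN : dco K (θ : K → ℂ) χ 1 = (N : ℂ))
    (hle : Cfsg.charDegree χ ≤ N) :
    ∀ k ∈ K, ‖χ k‖ = (Cfsg.charDegree χ : ℝ) := by
  classical
  letI : Fintype K := Fintype.ofFinite K
  letI : Fintype (Cfsg.IrrCharacter K) := Fintype.ofFinite _
  have hψ : Cfsg.IsCharacter K (fun k : K => χ k) := Helper79.isCharacter_restrict hχ K
  obtain ⟨m, hm, hdec⟩ := char_decomp (fun k : K => χ k) hψ
  have hval : ∀ k : K, χ k = ∑ φ : Cfsg.IrrCharacter K, (m φ : ℂ) * (φ : K → ℂ) k := by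
    intro k
    have h1 := congrFun hdec k
    simp only [Finset.sum_apply, Pi.smul_apply, smul_eq_mul] at h1
    exact h1
  have hmθ : m θ = N := by
    have h1 := hm θ
    have h2 : Cfsg.classInner (fun k : K => χ k) (θ : K → ℂ) = dco K (θ : K → ℂ) χ 1 := by
      unfold Cfsg.classInner dco
      rw [finsum_eq_sum_of_fintype]
      simp only [one_mul]
    rw [h2, hN] at h1
    exact_mod_cast h1.symm
  -- the degree
  have hdegC : ((Cfsg.charDegree χ : ℕ) : ℂ)
      = ((∑ φ : Cfsg.IrrCharacter K, m φ * Cfsg.charDegree (φ : K → ℂ) : ℕ) : ℂ) := by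
    rw [← Helper80.isCharacter_one_eq hχ]
    have h1 := hval 1
    rw [Subgroup.coe_one] at h1
    rw [h1]
    push_cast
    refine Finset.sum_congr rfl (fun φ _ => ?_)
    rw [Helper81.irr_one_eq_charDegree]
  have hdegN : Cfsg.charDegree χ = ∑ φ : Cfsg.IrrCharacter K, m φ * Cfsg.charDegree (φ : K → ℂ) := by
    exact_mod_cast hdegC
  have hsplit := Finset.add_sum_erase Finset.univ
    (fun φ : Cfsg.IrrCharacter K => m φ * Cfsg.charDegree (φ : K → ℂ)) (Finset.mem_univ θ)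
  have hθpos : 0 < Cfsg.charDegree (θ : K → ℂ) := Helper81.charDegree_pos θ
  have hge : N ≤ m θ * Cfsg.charDegree (θ : K → ℂ) := by
    rw [hmθ]; exact Nat.le_mul_of_pos_right N hθpos
  have hdN : Cfsg.charDegree χ = N := by
    have h1 : m θ * Cfsg.charDegree (θ : K → ℂ) ≤ Cfsg.charDegree χ := by
      rw [hdegN, ← hsplit]; exact Nat.le_add_right _ _
    omega
  have hrest : ∑ φ ∈ Finset.univ.erase θ, m φ * Cfsg.charDegree (φ : K → ℂ) = 0 := by
    have h1 : m θ * Cfsg.charDegree (θ : K → ℂ)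
        + ∑ φ ∈ Finset.univ.erase θ, m φ * Cfsg.charDegree (φ : K → ℂ) = N := by
      rw [hsplit, ← hdegN, hdN]
    omega
  have hzero : ∀ φ : Cfsg.IrrCharacter K, φ ≠ θ → m φ = 0 := by
    intro φ hφ
    have h1 := Finset.sum_eq_zero_iff.mp hrest φ (Finset.mem_erase.mpr ⟨hφ, Finset.mem_univ _⟩)
    rcases Nat.mul_eq_zero.mp h1 with h2 | h2
    · exact h2
    · exact absurd h2 (Helper81.charDegree_pos φ).ne'
  have hχk : ∀ k : K, χ k = (N : ℂ) * (θ : K → ℂ) k := by
    intro k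
    rw [hval k, Finset.sum_eq_single θ]
    · rw [hmθ]
    · intro φ _ hφ
      rw [hzero φ hφ, Nat.cast_zero, zero_mul]
    · intro hh
      exact absurd (Finset.mem_univ _) hh
  intro k hk
  rw [hdN]
  rcases Nat.eq_zero_or_pos N with hN0 | hNpos
  · have h1 := hχk ⟨k, hk⟩
    rw [hN0, Nat.cast_zero, zero_mul] at h1
    rw [show χ k = 0 from h1, hN0]
    simp
  · have hθ1 : Cfsg.charDegree (θ : K → ℂ) = 1 := by
      have h1 : m θ * Cfsg.charDegree (θ : K → ℂ) = N := by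
        have h2 : m θ * Cfsg.charDegree (θ : K → ℂ)
            + ∑ φ ∈ Finset.univ.erase θ, m φ * Cfsg.charDegree (φ : K → ℂ) = N := by
          rw [hsplit, ← hdegN, hdN]
        omega
      rw [hmθ] at h1
      have h3 : N * Cfsg.charDegree (θ : K → ℂ) = N * 1 := by rw [h1, mul_one]
      exact Nat.eq_of_mul_eq_mul_left hNpos h3
    have hθone : (θ : K → ℂ) 1 = 1 := by
      rw [Helper81.irr_one_eq_charDegree, hθ1, Nat.cast_one]
    obtain ⟨f, hf⟩ := linChar_exists_hom (θ : K → ℂ) ⟨isChar_of_irr θ.2, hθone⟩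
    have hnorm : ‖(θ : K → ℂ) ⟨k, hk⟩‖ = 1 := by
      rw [hf]
      have h1 : ((f ⟨k, hk⟩ : ℂˣ) : ℂ) ^ Nat.card K = 1 := by
        rw [← Units.val_pow_eq_pow_val, ← map_pow, pow_card_eq_one', map_one, Units.val_one]
      exact Complex.norm_eq_one_of_pow_eq_one h1 Nat.card_pos.ne'
    have h2 := hχk ⟨k, hk⟩
    rw [show χ k = (N : ℂ) * (θ : K → ℂ) ⟨k, hk⟩ from h2, norm_mul, hnorm, mul_one,
      Complex.norm_natCast]

end Cfsg.Agent.Helper15.S4705SHMULT
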