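import Mathlib
import Cfsg.Agent.Helper3.SU2Defs
import Cfsg.Agent.Helper15.SU2CKEYX

set_option autoImplicit false

namespace Cfsg.Agent.Helper15

open Matrix
open Cfsg.Agent.Helper3.SU2 Cfsg.Agent.Helper13

variable {F : Type*} [Field F] [Fintype F] {n : ℕ}

theorem su2c_diag (hF : Fintype.card F = 2 ^ 2) (d : Fin n → F) (hd0 : ∀ i, d i ≠ 0)
    (hd : ∏ i, d i = 1) :
    ∃ g : ↥(Cfsg.SU n F 2), ∀ x : Fin n → F, uact g x = fun i => d i * x i := by
  have hdet : (Matrix.diagonal d : Matrix (Fin n) (Fin n) F).det = 1 := by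
    rw [Matrix.det_diagonal, hd]
  obtain ⟨g0, hg0⟩ : ∃ g0 : Matrix.SpecialLinearGroup (Fin n) F,
      (g0 : Matrix (Fin n) (Fin n) F) = Matrix.diagonal d := ⟨⟨Matrix.diagonal d, hdet⟩, rfl⟩
  have hmem : g0 ∈ Cfsg.SU n F 2 := by
    refine (mem_SU_iff g0).2 ?_
    intro u v
    rw [herm2_apply, herm2_apply, hg0]
    refine Finset.sum_congr rfl (fun i _ => ?_)
    have hc : d i ^ 3 = 1 := su2c_h15_cube hF _ (hd0 i)
    rw [Matrix.mulVec_diagonal, Matrix.mulVec_diagonal]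
    linear_combination (u i * v i ^ 2) * hc
  refine ⟨⟨g0, hmem⟩, fun x => ?_⟩
  funext i
  change ((g0 : Matrix (Fin n) (Fin n) F) *ᵥ x) i = d i * x i
  rw [hg0, Matrix.mulVec_diagonal]

end Cfsg.Agent.Helper15
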