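import Mathlib
import Cfsg.Agent.Helper3.SU2Defs
import Cfsg.Agent.Helper15.SU2CKEYX

set_option autoImplicit false

namespace Cfsg.Agent.Helper15

open Cfsg.Agent.Helper3.SU2 Cfsg.Agent.Helper13

variable {F : Type*} [Field F] [Fintype F] {n : ℕ}

/-- the form against a vector supported on four distinct coordinates -/
theorem su2c_h15_herm4 (hF : Fintype.card F = 2 ^ 2) (u : Fin n → F) (i1 i2 i3 i4 : Fin n)
    (a1 a2 a3 a4 : F) :
    Cfsg.hermForm n F 2 u (a1 • Pi.single i1 (1 : F) + a2 • Pi.single i2 (1 : F)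
      + a3 • Pi.single i3 (1 : F) + a4 • Pi.single i4 (1 : F))
      = a1 ^ 2 * u i1 + a2 ^ 2 * u i2 + a3 ^ 2 * u i3 + a4 ^ 2 * u i4 := by
  rw [uh_add_right hF, uh_add_right hF, uh_add_right hF, uh_smul_right hF, uh_smul_right hF,
    uh_smul_right hF, uh_smul_right hF, uh_single_right hF, uh_single_right hF,
    uh_single_right hF, uh_single_right hF, Cfsg.Agent.Helper5.frobQ_apply,
    Cfsg.Agent.Helper5.frobQ_apply, Cfsg.Agent.Helper5.frobQ_apply,
    Cfsg.Agent.Helper5.frobQ_apply]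

theorem su2c_red (hF : Fintype.card F = 2 ^ 2) {Φ : Set (Fin n → F)} (hΦ : PhiCl Φ)
    (ω : F) (hω0 : ω ≠ 0) (hω1 : 1 + ω ≠ 0) (hω : 1 + ω + ω ^ 2 = 0)
    (h4 : ∀ x : Fin n → F, (supp x).card = 4 → x ∈ Φ)
    (v : Fin n → F) (i1 i2 i3 i4 : Fin n) (h12 : i1 ≠ i2) (h13 : i1 ≠ i3) (h14 : i1 ≠ i4)
    (h23 : i2 ≠ i3) (h24 : i2 ≠ i4) (h34 : i3 ≠ i4)
    (hv1 : v i1 ≠ 0) (hv2 : v i2 ≠ 0) (hv3 : v i3 ≠ 0) (hv4 : v i4 ≠ 0)
    (IH : ∀ y : Fin n → F, (supp y).card < (supp v).card → y ∈ Φ) : v ∈ Φ := by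
  classical
  have h2 : (2 : F) = 0 := ufld2_two hF
  have c1 : v i1 ^ 3 = 1 := su2c_h15_cube hF _ hv1
  have c2 : v i2 ^ 3 = 1 := su2c_h15_cube hF _ hv2
  have c3 : v i3 ^ 3 = 1 := su2c_h15_cube hF _ hv3
  have c4 : v i4 ^ 3 = 1 := su2c_h15_cube hF _ hv4
  have cω : ω ^ 3 = 1 := su2c_h15_cube hF _ hω0
  have ha3 : ω * v i3 ≠ 0 := mul_ne_zero hω0 hv3
  have ha4 : ω ^ 2 * v i4 ≠ 0 := mul_ne_zero (pow_ne_zero 2 hω0) hv4
  obtain ⟨x, hxdef⟩ : ∃ x : Fin n → F, x = v i1 • Pi.single i1 (1 : F)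
      + v i2 • Pi.single i2 (1 : F) + (ω * v i3) • Pi.single i3 (1 : F)
      + (ω ^ 2 * v i4) • Pi.single i4 (1 : F) := ⟨_, rfl⟩
  have hx1 : x i1 = v i1 := by
    rw [hxdef]; simp [Pi.single_apply, h12, h13, h14]
  have hx2 : x i2 = v i2 := by
    rw [hxdef]; simp [Pi.single_apply, h12.symm, h23, h24]
  have hx3 : x i3 = ω * v i3 := by
    rw [hxdef]; simp [Pi.single_apply, h13.symm, h23.symm, h34]
  have hx4 : x i4 = ω ^ 2 * v i4 := by
    rw [hxdef]; simp [Pi.single_apply, h14.symm, h24.symm, h34.symm]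
  have hxo : ∀ j : Fin n, j ≠ i1 → j ≠ i2 → j ≠ i3 → j ≠ i4 → x j = 0 := by
    intro j j1 j2 j3 j4
    rw [hxdef]; simp [Pi.single_apply, j1, j2, j3, j4]
  -- the support of x
  have hsx : supp x = {i1, i2, i3, i4} := by
    ext j
    rw [mem_supp]
    simp only [Finset.mem_insert, Finset.mem_singleton]
    constructor
    · intro hj
      by_contra hne
      have hne' := not_or.mp hne
      have hne'' := not_or.mp hne'.2
      have hne''' := not_or.mp hne''.2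
      exact hj (hxo j hne'.1 hne''.1 hne'''.1 hne'''.2)
    · rintro (rfl | rfl | rfl | rfl)
      · rw [hx1]; exact hv1
      · rw [hx2]; exact hv2
      · rw [hx3]; exact ha3
      · rw [hx4]; exact ha4
  have hcx : (supp x).card = 4 := by
    rw [hsx]
    rw [Finset.card_insert_of_notMem (by simp [h12, h13, h14]),
      Finset.card_insert_of_notMem (by simp [h23, h24]),
      Finset.card_insert_of_notMem (by simp [h34]), Finset.card_singleton]
  have hxΦ : x ∈ Φ := h4 x hcx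
  -- x is isotropic
  have hxx : Cfsg.hermForm n F 2 x x = 0 := by
    conv_lhs => rw [hxdef]
    rw [su2c_h15_herm4 hF]
    have e : v i1 ^ 2 * (v i1 • Pi.single i1 (1 : F)
      + v i2 • Pi.single i2 (1 : F) + (ω * v i3) • Pi.single i3 (1 : F)
      + (ω ^ 2 * v i4) • Pi.single i4 (1 : F) : Fin n → F) i1 +
      v i2 ^ 2 * (v i1 • Pi.single i1 (1 : F)
      + v i2 • Pi.single i2 (1 : F) + (ω * v i3) • Pi.single i3 (1 : F)
      + (ω ^ 2 * v i4) • Pi.single i4 (1 : F) : Fin n → F) i2 +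
      (ω * v i3) ^ 2 * (v i1 • Pi.single i1 (1 : F)
      + v i2 • Pi.single i2 (1 : F) + (ω * v i3) • Pi.single i3 (1 : F)
      + (ω ^ 2 * v i4) • Pi.single i4 (1 : F) : Fin n → F) i3 +
      (ω ^ 2 * v i4) ^ 2 * (v i1 • Pi.single i1 (1 : F)
      + v i2 • Pi.single i2 (1 : F) + (ω * v i3) • Pi.single i3 (1 : F)
      + (ω ^ 2 * v i4) • Pi.single i4 (1 : F) : Fin n → F) i4
      = v i1 ^ 2 * x i1 + v i2 ^ 2 * x i2 + (ω * v i3) ^ 2 * x i3
        + (ω ^ 2 * v i4) ^ 2 * x i4 := by rw [hxdef]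
    rw [e, hx1, hx2, hx3, hx4]
    linear_combination c1 + c2 + (ω ^ 3) * c3 + cω + (ω ^ 6) * c4 + (ω ^ 3 + 1) * cω + 2 * h2
  -- y = v + x
  have hy1 : (v + x) i1 = 0 := by
    rw [Pi.add_apply, hx1]; linear_combination (v i1) * h2
  have hy2 : (v + x) i2 = 0 := by
    rw [Pi.add_apply, hx2]; linear_combination (v i2) * h2
  have hy3 : (v + x) i3 = v i3 + ω * v i3 := by rw [Pi.add_apply, hx3]
  have hy4 : (v + x) i4 = v i4 + ω ^ 2 * v i4 := by rw [Pi.add_apply, hx4]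
  have hsub : supp (v + x) ⊆ supp v := by
    intro j hj
    rw [mem_supp] at hj ⊢
    intro hvj
    apply hj
    have j1 : j ≠ i1 := by rintro rfl; exact hv1 hvj
    have j2 : j ≠ i2 := by rintro rfl; exact hv2 hvj
    have j3 : j ≠ i3 := by rintro rfl; exact hv3 hvj
    have j4 : j ≠ i4 := by rintro rfl; exact hv4 hvj
    rw [Pi.add_apply, hvj, hxo j j1 j2 j3 j4, add_zero]
  have hss : supp (v + x) ⊂ supp v := by
    refine (Finset.ssubset_iff_of_subset hsub).2 ⟨i1, ?_, ?_⟩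
    · rw [mem_supp]; exact hv1
    · rw [mem_supp]; intro h; exact h hy1
  have hyΦ : v + x ∈ Φ := IH _ (Finset.card_lt_card hss)
  have hyx : Cfsg.hermForm n F 2 (v + x) x = 1 := by
    conv_lhs => rw [hxdef]
    rw [su2c_h15_herm4 hF]
    have e : ∀ j : Fin n, (v + (v i1 • Pi.single i1 (1 : F)
      + v i2 • Pi.single i2 (1 : F) + (ω * v i3) • Pi.single i3 (1 : F)
      + (ω ^ 2 * v i4) • Pi.single i4 (1 : F)) : Fin n → F) j = (v + x) j := by
      intro j; rw [hxdef]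
    rw [e, e, e, e, hy1, hy2, hy3, hy4]
    linear_combination (ω ^ 2 + ω ^ 3) * c3 + (ω ^ 4 + ω ^ 6) * c4 + (ω ^ 3 + ω + 2) * cω
      + hω
  have key := hΦ.tv _ _ hxΦ hyΦ hxx
  rw [hyx] at key
  have e : v + x + (1 : F) • x = v := by
    have e1 : v + x + (1 : F) • x = v + (2 : F) • x := by module
    rw [e1, h2, zero_smul, add_zero]
  rw [e] at key
  exact key

end Cfsg.Agent.Helper15
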