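import Mathlib

set_option autoImplicit false

namespace Cfsg.Agent.Helper15

open Subgroup MonoidHom

section TransferTools

variable {Γ : Type*} [Group Γ] {A : Type*} [CommGroup A]

/-- The transfer of a central element is the index-th power. -/
theorem transfer_of_mem_center (H : Subgroup Γ) [H.FiniteIndex] (δ : H →* A) (z : Γ)
    (hz : z ∈ Subgroup.center Γ) (hzH : z ∈ H) : transfer δ z = δ ⟨z, hzH⟩ ^ H.index := by
  have key : ∀ (k : ℕ) (g₀ : Γ), g₀⁻¹ * z ^ k * g₀ ∈ H → g₀⁻¹ * z ^ k * g₀ = z ^ k := by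
    intro k g₀ _
    have h1 := Subgroup.mem_center_iff.mp ((Subgroup.center Γ).pow_mem hz k) g₀
    rw [mul_assoc, ← h1, inv_mul_cancel_left]
  rw [transfer_eq_pow δ z key, ← map_pow]
  rfl

/-- The transfer vanishes on a normal subgroup contained in the kernel. -/
theorem transfer_eq_one_of_normal (H : Subgroup Γ) [H.FiniteIndex] (δ : H →* A)
    (M : Subgroup Γ) [hM : M.Normal] (hMH : M ≤ H)
    (hδ : ∀ (m : Γ) (hm : m ∈ M), δ ⟨m, hMH hm⟩ = 1) (m : Γ) (hm : m ∈ M) :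
    transfer δ m = 1 := by
  classical
  haveI : Finite (Γ ⧸ H) := Subgroup.finite_quotient_of_finiteIndex
  letI : Fintype (Quotient (MulAction.orbitRel (Subgroup.zpowers m) (Γ ⧸ H))) :=
    Fintype.ofFinite _
  rw [transfer_eq_prod_quotient_orbitRel_zpowers_quot δ m]
  apply Finset.prod_eq_one
  intro q _
  have h1 : q.out.out⁻¹ * m ^ Function.minimalPeriod (m • ·) q.out * q.out.out ∈ M := by
    have := hM.conj_mem _ (M.pow_mem hm (Function.minimalPeriod (m • ·) q.out)) q.out.out⁻¹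
    simpa using this
  exact hδ _ h1

/-- From a family of homomorphisms acting on a central copy of `A` by powers `k_p` with
`p ∤ k_p`, one obtains a homomorphism acting as the identity. -/
theorem exists_hom_of_coprime_family (ζ : A → Γ) (B : Set Γ)
    (h : ∀ p : ℕ, p.Prime → ∃ (k : ℕ) (τ : Γ →* A), Nat.Coprime k p ∧
      (∀ a, τ (ζ a) = a ^ k) ∧ ∀ b ∈ B, τ b = 1) :
    ∃ τ : Γ →* A, (∀ a, τ (ζ a) = a) ∧ ∀ b ∈ B, τ b = 1 := by
  let I : AddSubgroup ℤ :=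
    { carrier := {j | ∃ τ : Γ →* A, (∀ a, τ (ζ a) = a ^ j) ∧ ∀ b ∈ B, τ b = 1}
      zero_mem' := ⟨1, by simp, by simp⟩
      add_mem' := by
        rintro a b ⟨τ₁, h1, h1'⟩ ⟨τ₂, h2, h2'⟩
        refine ⟨τ₁ * τ₂, fun x => ?_, fun x hx => ?_⟩
        · rw [MonoidHom.mul_apply, h1, h2, zpow_add]
        · rw [MonoidHom.mul_apply, h1' x hx, h2' x hx, one_mul]
      neg_mem' := by
        rintro a ⟨τ₁, h1, h1'⟩
        refine ⟨τ₁⁻¹, fun x => ?_, fun x hx => ?_⟩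
        · rw [MonoidHom.inv_apply, h1, zpow_neg]
        · rw [MonoidHom.inv_apply, h1' x hx, inv_one] }
  have hI : ∀ j : ℤ, j ∈ I ↔ ∃ τ : Γ →* A, (∀ a, τ (ζ a) = a ^ j) ∧ ∀ b ∈ B, τ b = 1 :=
    fun j => Iff.rfl
  obtain ⟨m, hm⟩ := Int.subgroup_cyclic I
  rw [← AddSubgroup.zmultiples_eq_closure] at hm
  have hk : ∀ p : ℕ, p.Prime → ∃ k : ℕ, Nat.Coprime k p ∧ m ∣ (k : ℤ) := by
    intro p hp
    obtain ⟨k, τ, hcop, h1, h2⟩ := h p hp
    refine ⟨k, hcop, ?_⟩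
    rw [← Int.mem_zmultiples_iff, ← hm, hI]
    exact ⟨τ, fun a => by rw [h1, zpow_natCast], h2⟩
  have hm1 : m.natAbs = 1 := by
    by_contra hne
    obtain ⟨q, hq, hqm⟩ := Nat.exists_prime_and_dvd hne
    obtain ⟨k, hcop, hmk⟩ := hk q hq
    have h3 : (q : ℤ) ∣ (k : ℤ) := (Int.natCast_dvd.mpr hqm).trans hmk
    have h4 : q ∣ k := Int.natCast_dvd_natCast.mp h3
    exact hq.one_lt.ne' (hcop.symm.eq_one_of_dvd h4)
  have h1 : (1 : ℤ) ∈ I := by
    rw [hm, Int.mem_zmultiples_iff]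
    apply Int.natAbs_dvd_natAbs.mp
    rw [hm1]
    exact one_dvd _
  obtain ⟨τ, h2, h3⟩ := (hI 1).mp h1
  exact ⟨τ, fun a => by rw [h2, zpow_one], h3⟩

end TransferTools

end Cfsg.Agent.Helper15
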