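import Mathlib
import Cfsg.Prelude.Def_Characters
import Cfsg.Agent.Helper15.ProjExt2
import Cfsg.Agent.Helper15.ProjExtCyclic
import Cfsg.Agent.Helper15.TransferTools
import Cfsg.Agent.Helper79.Basic
import Cfsg.Agent.Helper3.RepEquiv

set_option autoImplicit false

namespace Cfsg.Agent.Helper15

open Subgroup MonoidHom

section SylowExt

variable {G : Type*} [Group G] {N : Subgroup G} [hN : N.Normal] {d : ℕ}
  (θ : Representation ℂ N (Fin d → ℂ))

/-- The projection of the lifting group to `G`. -/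
def liftPr : liftGroup θ →* G := (MonoidHom.fst G _).comp (liftGroup θ).subtype

theorem liftPr_apply (x : liftGroup θ) : liftPr θ x = x.1.1 := rfl

theorem liftPr_surjective [Finite N]
    (hinv : ∀ (g : G) (n : N), θ.character (conjN g n) = θ.character n) :
    Function.Surjective (liftPr θ) := by
  intro g
  obtain ⟨Q, hQ⟩ := exists_lift θ hinv g
  exact ⟨⟨(g, Q), hQ⟩, rfl⟩

/-- Central scalars in the lifting group. -/
def liftScalar (c : ℂˣ) : liftGroup θ := ⟨(1, scalarUnit d c), scalar_mem_liftGroup θ c⟩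

theorem liftScalar_mem_center (c : ℂˣ) : liftScalar θ c ∈ Subgroup.center (liftGroup θ) := by
  rw [Subgroup.mem_center_iff]
  intro y
  apply Subtype.ext
  refine Prod.ext ?_ ?_
  · show y.1.1 * 1 = 1 * y.1.1
    rw [mul_one, one_mul]
  · show y.1.2 * scalarUnit d c = scalarUnit d c * y.1.2
    rw [scalarUnit_comm]

/-- The embedding of `N` in the lifting group. -/
def liftBaseHom : N →* liftGroup θ where
  toFun n := ⟨((n : G), thetaUnit θ n), base_mem_liftGroup θ n⟩
  map_one' := by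
    apply Subtype.ext
    show (((1 : N) : G), thetaUnit θ 1) = 1
    rw [map_one]
    rfl
  map_mul' a b := by
    apply Subtype.ext
    show (((a * b : N) : G), thetaUnit θ (a * b)) = ((a : G), thetaUnit θ a) * ((b : G), thetaUnit θ b)
    rw [map_mul]
    rfl

theorem liftBaseHom_apply (n : N) :
    (liftBaseHom θ n : G × (Module.End ℂ (Fin d → ℂ))ˣ) = ((n : G), thetaUnit θ n) := rfl

theorem liftBaseHom_conj (x : liftGroup θ) (n : N) :
    x * liftBaseHom θ n * x⁻¹ = liftBaseHom θ (conjN x.1.1 n) := by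
  apply Subtype.ext
  refine Prod.ext rfl ?_
  show x.1.2 * thetaUnit θ n * x.1.2⁻¹ = thetaUnit θ (conjN x.1.1 n)
  rw [liftGroup_units θ x.2 n, mul_inv_cancel_right]

instance liftBaseHom_range_normal : (liftBaseHom θ).range.Normal := by
  constructor
  rintro _ ⟨n, rfl⟩ x
  exact ⟨conjN x.1.1 n, (liftBaseHom_conj θ x n).symm⟩

omit hN in
/-- A representation of `P ≥ N` extending `θ` gives lifts of the elements of `P`. -/
theorem graph_mem_liftGroup {P : Subgroup G} (hNP : N ≤ P)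
    (ρ' : Representation ℂ P (Fin d → ℂ)) (hρ' : ∀ n : N, ρ' ⟨n, hNP n.2⟩ = θ n) [hN : N.Normal]
    (x : P) : ((x : G), MonoidHom.toHomUnits ρ' x) ∈ liftGroup θ := by
  intro n
  show ρ' x * θ n = θ (conjN (x : G) n) * ρ' x
  rw [← hρ' n, ← hρ' (conjN (x : G) n), ← map_mul, ← map_mul]
  congr 1
  apply Subtype.ext
  show (x : G) * n = (x : G) * n * (x : G)⁻¹ * x
  group

/-- The transfer homomorphism attached to an extension of `θ` to a subgroup `P`. -/
theorem exists_transfer_hom [Finite G] (hθ : θ.IsIrreducible)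
    (hinv : ∀ (g : G) (n : N), θ.character (conjN g n) = θ.character n)
    (P : Subgroup G) (hNP : N ≤ P)
    (ρ' : Representation ℂ P (Fin d → ℂ)) (hρ' : ∀ n : N, ρ' ⟨n, hNP n.2⟩ = θ n) :
    ∃ τ : liftGroup θ →* ℂˣ, (∀ c : ℂˣ, τ (liftScalar θ c) = c ^ P.index) ∧
      ∀ n : N, τ (liftBaseHom θ n) = 1 := by
  have := hθ
  have hd : 0 < d := by simpa using Cfsg.Agent.Helper80.rep_finrank_pos θ
  obtain ⟨H, hHdef⟩ : ∃ H : Subgroup (liftGroup θ), H = P.comap (liftPr θ) := ⟨_, rfl⟩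
  have hHmem : ∀ x : liftGroup θ, x ∈ H ↔ x.1.1 ∈ P := by
    intro x
    rw [hHdef]
    rfl
  have hHidx : H.index = P.index := by
    rw [hHdef]
    exact Subgroup.index_comap_of_surjective P (liftPr_surjective θ hinv)
  have hHfin : H.FiniteIndex := ⟨by rw [hHidx]; exact Subgroup.FiniteIndex.index_ne_zero⟩
  have hex : ∀ a : H, ∃ c : ℂˣ, a.1.1.2 = scalarUnit d c *
      MonoidHom.toHomUnits ρ' ⟨a.1.1.1, (hHmem a.1).mp a.2⟩ := by
    intro a
    exact lift_eq_scalar_mul θ hθ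
      (graph_mem_liftGroup θ hNP ρ' hρ' ⟨a.1.1.1, (hHmem a.1).mp a.2⟩) a.1.2
  choose c hc using hex
  have hcmul : ∀ a b : H, c (a * b) = c a * c b := by
    intro a b
    apply scalarUnit_injective hd
    have h1 := hc (a * b)
    have h2 : (a * b).1.1.2 = a.1.1.2 * b.1.1.2 := rfl
    have h3 : MonoidHom.toHomUnits ρ' ⟨(a * b).1.1.1, (hHmem (a * b).1).mp (a * b).2⟩ =
        MonoidHom.toHomUnits ρ' ⟨a.1.1.1, (hHmem a.1).mp a.2⟩ *
          MonoidHom.toHomUnits ρ' ⟨b.1.1.1, (hHmem b.1).mp b.2⟩ := by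
      rw [← map_mul]
      rfl
    rw [h2, hc a, hc b, h3] at h1
    have h4 : scalarUnit d (c a) * MonoidHom.toHomUnits ρ' ⟨a.1.1.1, (hHmem a.1).mp a.2⟩ *
        (scalarUnit d (c b) * MonoidHom.toHomUnits ρ' ⟨b.1.1.1, (hHmem b.1).mp b.2⟩) =
        scalarUnit d (c a * c b) *
          (MonoidHom.toHomUnits ρ' ⟨a.1.1.1, (hHmem a.1).mp a.2⟩ *
            MonoidHom.toHomUnits ρ' ⟨b.1.1.1, (hHmem b.1).mp b.2⟩) := by
      calc scalarUnit d (c a) * MonoidHom.toHomUnits ρ' ⟨a.1.1.1, (hHmem a.1).mp a.2⟩ *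
            (scalarUnit d (c b) * MonoidHom.toHomUnits ρ' ⟨b.1.1.1, (hHmem b.1).mp b.2⟩)
          = scalarUnit d (c a) * (MonoidHom.toHomUnits ρ' ⟨a.1.1.1, (hHmem a.1).mp a.2⟩ *
              scalarUnit d (c b)) *
              MonoidHom.toHomUnits ρ' ⟨b.1.1.1, (hHmem b.1).mp b.2⟩ := by group
        _ = scalarUnit d (c a) * (scalarUnit d (c b) *
              MonoidHom.toHomUnits ρ' ⟨a.1.1.1, (hHmem a.1).mp a.2⟩) *
              MonoidHom.toHomUnits ρ' ⟨b.1.1.1, (hHmem b.1).mp b.2⟩ := by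
            rw [scalarUnit_comm (c b) (MonoidHom.toHomUnits ρ' ⟨a.1.1.1, (hHmem a.1).mp a.2⟩)]
        _ = scalarUnit d (c a) * scalarUnit d (c b) *
          (MonoidHom.toHomUnits ρ' ⟨a.1.1.1, (hHmem a.1).mp a.2⟩ *
            MonoidHom.toHomUnits ρ' ⟨b.1.1.1, (hHmem b.1).mp b.2⟩) := by group
        _ = _ := by rw [map_mul]
    rw [h4] at h1
    exact (mul_right_cancel h1).symm
  obtain ⟨δ, hδ⟩ : ∃ δ : H →* ℂˣ, ∀ a, δ a = c a := ⟨MonoidHom.mk' c hcmul, fun _ => rfl⟩
  refine ⟨transfer δ, fun z => ?_, fun n => ?_⟩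
  · have hzH : liftScalar θ z ∈ H := by
      rw [hHmem]
      exact P.one_mem
    rw [transfer_of_mem_center H δ _ (liftScalar_mem_center θ z) hzH, hHidx]
    congr 1
    rw [hδ]
    apply scalarUnit_injective hd
    have h1 := hc ⟨liftScalar θ z, hzH⟩
    have h2 : (⟨(liftScalar θ z).1.1, (hHmem _).mp hzH⟩ : P) = 1 := Subtype.ext rfl
    simp only at h1
    rw [h2, map_one, mul_one] at h1
    exact h1.symm
  · have hMH : (liftBaseHom θ).range ≤ H := by
      rintro _ ⟨m, rfl⟩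
      rw [hHmem]
      exact hNP m.2
    apply transfer_eq_one_of_normal H δ (liftBaseHom θ).range hMH _ _ ⟨n, rfl⟩
    rintro _ ⟨m, rfl⟩
    rw [hδ]
    apply scalarUnit_injective hd
    have h1 := hc ⟨liftBaseHom θ m, hMH ⟨m, rfl⟩⟩
    have h2 : MonoidHom.toHomUnits ρ' ⟨(liftBaseHom θ m).1.1, (hHmem _).mp (hMH ⟨m, rfl⟩)⟩ =
        thetaUnit θ m := by
      apply Units.ext
      exact hρ' m
    simp only at h1
    rw [h2] at h1
    have h3 : (liftBaseHom θ m).1.2 = thetaUnit θ m := rfl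
    rw [h3] at h1
    rw [map_one]
    exact (mul_eq_right.mp h1.symm)

/-- Extension from Sylow-type subgroups, at the level of representations. -/
theorem exists_rep_extension_of_sylow [Finite G] (hθ : θ.IsIrreducible)
    (hinv : ∀ (g : G) (n : N), θ.character (conjN g n) = θ.character n)
    (hsyl : ∀ p : ℕ, p.Prime → ∃ (P : Subgroup G) (hNP : N ≤ P)
      (ρ' : Representation ℂ P (Fin d → ℂ)), Nat.Coprime P.index p ∧
        ∀ n : N, ρ' ⟨n, hNP n.2⟩ = θ n) :
    ∃ ρ : Representation ℂ G (Fin d → ℂ), ∀ n : N, ρ n = θ n := by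
  obtain ⟨L, hL1, hL2⟩ := exists_hom_of_coprime_family (liftScalar θ)
    (Set.range (liftBaseHom θ)) (by
      intro p hp
      obtain ⟨P, hNP, ρ', hcop, hρ'⟩ := hsyl p hp
      obtain ⟨τ, h1, h2⟩ := exists_transfer_hom θ hθ hinv P hNP ρ' hρ'
      refine ⟨P.index, τ, hcop, h1, ?_⟩
      rintro _ ⟨n, rfl⟩
      exact h2 n)
  apply exists_rep_extension_of_hom θ (liftGroup θ) (exists_lift θ hinv) L
  · intro x hx1
    have h1 : ((1 : G), x.1.2) ∈ liftGroup θ := by
      have := x.2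
      rw [← hx1]
      exact this
    obtain ⟨c, hc⟩ := lift_eq_scalar_mul θ hθ (liftGroup θ).one_mem h1
    have hx : x = liftScalar θ c := by
      apply Subtype.ext
      refine Prod.ext hx1 ?_
      rw [hc]
      exact mul_one _
    rw [hx, hL1]
    rfl
  · intro n
    exact ⟨base_mem_liftGroup θ n, hL2 _ ⟨n, rfl⟩⟩

omit hN in
/-- A character of `P ≥ N` restricting to the character of `θ` is afforded by a representation
restricting to `θ` itself. -/
theorem exists_rep_of_char_extension [Finite N] {P : Subgroup G} (hNP : N ≤ P) (η : P → ℂ)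
    (hη : Cfsg.IsCharacter P η) (hηN : ∀ n : N, η ⟨n, hNP n.2⟩ = θ.character n) :
    ∃ ρ' : Representation ℂ P (Fin d → ℂ), ∀ n : N, ρ' ⟨n, hNP n.2⟩ = θ n := by
  obtain ⟨d', ρ, rfl⟩ := hη
  have hd' : d' = d := by
    have h1 := hηN 1
    have h2 : (⟨((1 : N) : G), hNP (1 : N).2⟩ : P) = 1 := Subtype.ext rfl
    rw [h2, Representation.char_one, Representation.char_one] at h1
    simpa using h1
  subst hd'
  obtain ⟨σ, hσ⟩ : ∃ σ : Representation ℂ N (Fin d' → ℂ), ∀ n : N, σ n = ρ ⟨n, hNP n.2⟩ :=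
    ⟨ρ.comp (Subgroup.inclusion hNP), fun _ => rfl⟩
  have hchar : σ.character = θ.character := by
    funext n
    rw [← hηN n]
    unfold Representation.character
    rw [hσ]
  obtain ⟨e⟩ := Cfsg.Agent.Helper3.equiv_of_character_eq σ θ hchar
  refine ⟨Cfsg.Agent.Helper79.transportRep ρ e.toLinearEquiv, fun n => ?_⟩
  apply LinearMap.ext
  intro w
  rw [Cfsg.Agent.Helper79.transportRep_apply, ← hσ]
  have h2 := LinearMap.congr_fun (e.toIntertwiningMap.isIntertwining' n) (e.toLinearEquiv.symm w)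
  have h3 : e.toIntertwiningMap.toLinearMap (e.toLinearEquiv.symm w) = w :=
    e.toLinearEquiv.apply_symm_apply w
  rw [LinearMap.comp_apply, LinearMap.comp_apply, h3] at h2
  exact h2

end SylowExt

end Cfsg.Agent.Helper15
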