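import Mathlib
import Cfsg.Prelude.Def_LieExceptional

set_option autoImplicit false

namespace Cfsg.Agent.Helper15

open MulAction

section Zassenhaus

variable {G Ω : Type*} [Group G] [MulAction G Ω]

theorem zass_two_trans (hZ : Cfsg.IsZassenhausGroup G Ω) {a b c d : Ω} (hab : a ≠ b)
    (hcd : c ≠ d) : ∃ g : G, g • a = c ∧ g • b = d :=
  (MulAction.is_two_pretransitive_iff.mp hZ.2.1) hab hcd

theorem zass_eq_one_of_fix_three (hZ : Cfsg.IsZassenhausGroup G Ω) {g : G} {a b c : Ω}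
    (hab : a ≠ b) (hbc : b ≠ c) (hac : a ≠ c) (ha : g • a = a) (hb : g • b = b)
    (hc : g • c = c) : g = 1 := hZ.2.2.1 g a b c hab hbc hac ha hb hc

theorem zass_exists_moved (hZ : Cfsg.IsZassenhausGroup G Ω) {g : G} (hg : g ≠ 1) :
    ∃ c : Ω, g • c ≠ c := by
  by_contra h
  push Not at h
  have := hZ.1
  exact hg (eq_of_smul_eq_smul (α := Ω) (fun c => by rw [h c, one_smul]))

theorem zass_pretrans (hZ : Cfsg.IsZassenhausGroup G Ω) : IsPretransitive G Ω := by
  have := hZ.2.1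
  exact MulAction.isPretransitive_of_is_two_pretransitive

/-- A non-identity element has at most two fixed points. -/
theorem zass_fix_le_two [Finite Ω] (hZ : Cfsg.IsZassenhausGroup G Ω) {g : G} (hg : g ≠ 1) :
    Nat.card (fixedBy Ω g) ≤ 2 := by
  by_contra h
  push Not at h
  have := Fintype.ofFinite (fixedBy Ω g)
  rw [Nat.card_eq_fintype_card, Fintype.two_lt_card_iff] at h
  obtain ⟨a, b, c, hab, hac, hbc⟩ := h
  exact hg (zass_eq_one_of_fix_three hZ (fun h => hab (Subtype.ext h))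
    (fun h => hbc (Subtype.ext h)) (fun h => hac (Subtype.ext h)) a.2 b.2 c.2)

theorem zass_three_le_card [Finite Ω] (hZ : Cfsg.IsZassenhausGroup G Ω) : 3 ≤ Nat.card Ω := by
  obtain ⟨g, hg, a, b, hab, ha, hb⟩ := hZ.2.2.2.1
  obtain ⟨c, hc⟩ := zass_exists_moved hZ hg
  have := Fintype.ofFinite Ω
  rw [Nat.card_eq_fintype_card]
  have : 2 < Fintype.card Ω := by
    rw [Fintype.two_lt_card_iff]
    refine ⟨a, b, c, hab, ?_, ?_⟩
    · rintro rfl; exact hc ha
    · rintro rfl; exact hc hb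
  exact this

theorem zass_card_stab_inf (hZ : Cfsg.IsZassenhausGroup G Ω) {a b x y : Ω}
    (hab : a ≠ b) (hxy : x ≠ y) :
    Nat.card (stabilizer G x ⊓ stabilizer G y : Subgroup G) =
      Nat.card (stabilizer G a ⊓ stabilizer G b : Subgroup G) := by
  obtain ⟨g, rfl, rfl⟩ := zass_two_trans hZ hab hxy
  rw [stabilizer_smul_eq_stabilizer_map_conj, stabilizer_smul_eq_stabilizer_map_conj,
    ← Subgroup.map_inf_eq _ _ _ (MulAut.conj g).injective]
  exact Subgroup.card_map_of_injective (MulAut.conj g).injective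

/-- The two point stabiliser is nontrivial. -/
theorem zass_two_le_card_stab_inf [Finite G] (hZ : Cfsg.IsZassenhausGroup G Ω) {a b : Ω}
    (hab : a ≠ b) : 2 ≤ Nat.card (stabilizer G a ⊓ stabilizer G b : Subgroup G) := by
  obtain ⟨g, hg, x, y, hxy, hx, hy⟩ := hZ.2.2.2.1
  rw [← zass_card_stab_inf hZ hab hxy]
  have : Nontrivial (stabilizer G x ⊓ stabilizer G y : Subgroup G) :=
    ⟨⟨⟨g, hx, hy⟩, 1, fun h => hg (congrArg Subtype.val h)⟩⟩
  exact Finite.one_lt_card

theorem zass_exists_stab_inf_ne_one (hZ : Cfsg.IsZassenhausGroup G Ω) {a b : Ω}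
    (hab : a ≠ b) : ∃ g : G, g ≠ 1 ∧ g • a = a ∧ g • b = b := by
  obtain ⟨g, hg, x, y, hxy, hx, hy⟩ := hZ.2.2.2.1
  obtain ⟨t, rfl, rfl⟩ := zass_two_trans hZ hxy hab
  refine ⟨t * g * t⁻¹, ?_, ?_, ?_⟩
  · intro h
    apply hg
    have : g = t⁻¹ * (t * g * t⁻¹) * t := by group
    rw [this, h]; group
  · rw [mul_smul, mul_smul, inv_smul_smul, hx]
  · rw [mul_smul, mul_smul, inv_smul_smul, hy]

end Zassenhaus

end Cfsg.Agent.Helper15
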