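import Mathlib
import Cfsg.Agent.Helper15.Zassenhaus

set_option autoImplicit false

namespace Cfsg.Agent.Helper15

open MulAction

section Burnside

variable {G X : Type*} [Group G] [MulAction G X]

/-- Burnside's lemma for a transitive action. -/
theorem sum_card_fixedBy_of_pretransitive [Fintype G] [Finite X] [Nonempty X]
    [IsPretransitive G X] : ∑ g : G, Nat.card (fixedBy X g) = Nat.card G := by
  classical
  have := Fintype.ofFinite X
  have h := MulAction.sum_card_fixedBy_eq_card_orbits_mul_card_group G X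
  have hsub : Subsingleton (orbitRel.Quotient G X) :=
    (pretransitive_iff_subsingleton_quotient G X).mp inferInstance
  have hne : Nonempty (orbitRel.Quotient G X) := ⟨Quotient.mk'' (Classical.arbitrary X)⟩
  have h1 : Fintype.card (Quotient (orbitRel G X)) = 1 := by
    rw [Fintype.card_eq_one_iff]
    exact ⟨Classical.choice hne, fun y => Subsingleton.elim _ _⟩
  simp only [Nat.card_eq_fintype_card]
  rw [h, h1, one_mul]

/-- Embeddings of `Fin 2` fixed by `g` are embeddings into the fixed points. -/
def fixedByEmbEquiv (g : G) : fixedBy (Fin 2 ↪ X) g ≃ (Fin 2 ↪ fixedBy X g) where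
  toFun f := ⟨fun i => ⟨f.1 i, by
    have := congrArg (fun e : Fin 2 ↪ X => e i) f.2
    simpa using this⟩, fun i j h => f.1.injective (congrArg Subtype.val h)⟩
  invFun e := ⟨e.trans (Function.Embedding.subtype _), by
    change g • (e.trans (Function.Embedding.subtype _)) = _
    ext i
    exact (e i).2⟩
  left_inv f := by ext i; rfl
  right_inv e := by ext i; rfl

theorem card_fixedBy_emb [Finite X] (g : G) :
    Nat.card (fixedBy (Fin 2 ↪ X) g) =
      Nat.card (fixedBy X g) * (Nat.card (fixedBy X g) - 1) := by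
  classical
  have := Fintype.ofFinite X
  rw [Nat.card_congr (fixedByEmbEquiv g), Nat.card_eq_fintype_card, Fintype.card_embedding_eq,
    Nat.card_eq_fintype_card]
  simp [Nat.descFactorial, mul_comm]

end Burnside

section Zassenhaus

variable {G Ω : Type*} [Group G] [MulAction G Ω]

theorem zass_card_group [Finite G] [Finite Ω] (hZ : Cfsg.IsZassenhausGroup G Ω) {a b : Ω}
    (hab : a ≠ b) :
    Nat.card G = Nat.card Ω * (Nat.card Ω - 1) *
      Nat.card (stabilizer G a ⊓ stabilizer G b : Subgroup G) := by
  classical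
  have : IsPretransitive G (Fin 2 ↪ Ω) := hZ.2.1
  have h1 := MulAction.index_stabilizer_of_transitive G (Function.Embedding.embFinTwo hab)
  have h2 : stabilizer G (Function.Embedding.embFinTwo hab) =
      stabilizer G a ⊓ stabilizer G b := by
    ext g
    simp only [mem_stabilizer_iff, Subgroup.mem_inf]
    constructor
    · intro h
      exact ⟨congrArg (fun f : Fin 2 ↪ Ω => f 0) h, congrArg (fun f : Fin 2 ↪ Ω => f 1) h⟩
    · rintro ⟨h1, h2⟩
      ext i
      fin_cases i
      · exact h1
      · exact h2
  rw [h2] at h1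
  have h3 := Subgroup.card_mul_index (stabilizer G a ⊓ stabilizer G b : Subgroup G)
  have h4 : Nat.card (Fin 2 ↪ Ω) = Nat.card Ω * (Nat.card Ω - 1) := by
    have := Fintype.ofFinite Ω
    rw [Nat.card_eq_fintype_card, Fintype.card_embedding_eq, Nat.card_eq_fintype_card]
    simp [Nat.descFactorial, mul_comm]
  rw [← h3, h1, h4, mul_comm]

theorem zass_sum_fix [Fintype G] [Finite Ω] (hZ : Cfsg.IsZassenhausGroup G Ω) :
    ∑ g : G, Nat.card (fixedBy Ω g) = Nat.card G := by
  have := zass_pretrans hZ
  have : Nonempty Ω := by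
    have := zass_three_le_card hZ
    exact (Nat.card_pos_iff.mp (by omega)).1
  exact sum_card_fixedBy_of_pretransitive

theorem zass_sum_fix2 [Fintype G] [Finite Ω] (hZ : Cfsg.IsZassenhausGroup G Ω) :
    ∑ g : G, Nat.card (fixedBy Ω g) * (Nat.card (fixedBy Ω g) - 1) = Nat.card G := by
  have : IsPretransitive G (Fin 2 ↪ Ω) := hZ.2.1
  obtain ⟨g, hg, a, b, hab, ha, hb⟩ := hZ.2.2.2.1
  have : Nonempty (Fin 2 ↪ Ω) := ⟨Function.Embedding.embFinTwo hab⟩
  rw [← sum_card_fixedBy_of_pretransitive (G := G) (X := Fin 2 ↪ Ω)]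
  exact Finset.sum_congr rfl (fun g _ => (card_fixedBy_emb g).symm)

theorem zass_card_fixedBy_one [Finite Ω] : Nat.card (fixedBy Ω (1 : G)) = Nat.card Ω := by
  have : fixedBy Ω (1 : G) = Set.univ := by
    ext x; simp
  rw [this, Nat.card_coe_set_eq, Set.ncard_univ]

/-- The counting identities for the numbers of elements with no fixed point, and with
exactly one fixed point. -/
theorem zass_count [Finite G] [Finite Ω] (hZ : Cfsg.IsZassenhausGroup G Ω) :
    2 * Nat.card {g : G // ∀ c : Ω, g • c ≠ c} + 2 + Nat.card Ω * (Nat.card Ω - 1) =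
        Nat.card G + 2 * Nat.card Ω ∧
      Nat.card {g : G // ∃ x : Ω, g • x = x ∧ ∀ c : Ω, g • c = c → c = x} + Nat.card Ω =
        Nat.card Ω * (Nat.card Ω - 1) := by
  classical
  have := Fintype.ofFinite G
  have hn := zass_three_le_card hZ
  have hA := zass_sum_fix hZ
  have hB := zass_sum_fix2 hZ
  set n := Nat.card Ω with hn_def
  set N := Nat.card G with hN_def
  have hz : ∀ g : G, (∀ c : Ω, g • c ≠ c) ↔ Nat.card (fixedBy Ω g) = 0 := by
    intro g
    rw [Nat.card_eq_zero]
    constructor
    · intro h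
      exact Or.inl ⟨fun x => h x.1 x.2⟩
    · rintro (h | h)
      · intro c hc
        exact h.false ⟨c, hc⟩
      · exact absurd (inferInstance : Finite (fixedBy Ω g)) (not_finite_iff_infinite.mpr h)
  have ho : ∀ g : G, (∃ x : Ω, g • x = x ∧ ∀ c : Ω, g • c = c → c = x) ↔
      Nat.card (fixedBy Ω g) = 1 := by
    intro g
    rw [Nat.card_eq_one_iff_exists]
    constructor
    · rintro ⟨x, hx, hc⟩
      exact ⟨⟨x, hx⟩, fun y => Subtype.ext (hc y.1 y.2)⟩
    · rintro ⟨x, hx⟩
      exact ⟨x.1, x.2, fun c hc => congrArg Subtype.val (hx ⟨c, hc⟩)⟩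
  have hcard0 : Nat.card {g : G // ∀ c : Ω, g • c ≠ c} =
      ∑ g : G, (if Nat.card (fixedBy Ω g) = 0 then 1 else 0) := by
    rw [Nat.card_eq_fintype_card, Fintype.card_subtype, Finset.card_filter]
    exact Finset.sum_congr rfl (fun g _ => by simp only [hz g])
  have hcard1 : Nat.card {g : G // ∃ x : Ω, g • x = x ∧ ∀ c : Ω, g • c = c → c = x} =
      ∑ g : G, (if Nat.card (fixedBy Ω g) = 1 then 1 else 0) := by
    rw [Nat.card_eq_fintype_card, Fintype.card_subtype, Finset.card_filter]
    exact Finset.sum_congr rfl (fun g _ => by simp only [ho g])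
  have hf1 : Nat.card (fixedBy Ω (1 : G)) = n := zass_card_fixedBy_one
  have key0 : ∀ g : G, 2 * (if Nat.card (fixedBy Ω g) = 0 then 1 else 0) +
      2 * Nat.card (fixedBy Ω g) + (if g = 1 then 2 + n * (n - 1) else 0) =
      2 + Nat.card (fixedBy Ω g) * (Nat.card (fixedBy Ω g) - 1) +
        (if g = 1 then 2 * n else 0) := by
    intro g
    by_cases hg : g = 1
    · subst hg
      rw [hf1]
      have : n ≠ 0 := by omega
      simp only [this, if_false, if_true]
      ring
    · have h2 := zass_fix_le_two hZ hg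
      simp only [hg, if_false]
      interval_cases h : Nat.card (fixedBy Ω g) <;> simp
  have key1 : ∀ g : G, (if Nat.card (fixedBy Ω g) = 1 then 1 else 0) +
      Nat.card (fixedBy Ω g) * (Nat.card (fixedBy Ω g) - 1) + (if g = 1 then n else 0) =
      Nat.card (fixedBy Ω g) + (if g = 1 then n * (n - 1) else 0) := by
    intro g
    by_cases hg : g = 1
    · subst hg
      rw [hf1]
      have : n ≠ 1 := by omega
      simp only [this, if_false, if_true]
      ring
    · have h2 := zass_fix_le_two hZ hg
      simp only [hg, if_false]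
      interval_cases h : Nat.card (fixedBy Ω g) <;> simp
  have s0 := Finset.sum_congr (rfl : (Finset.univ : Finset G) = Finset.univ)
    (fun g _ => key0 g)
  have s1 := Finset.sum_congr (rfl : (Finset.univ : Finset G) = Finset.univ)
    (fun g _ => key1 g)
  simp only [Finset.sum_add_distrib, ← Finset.mul_sum, Finset.sum_ite_eq', Finset.mem_univ,
    if_true, hA, hB, ← hcard0, ← hcard1, Finset.sum_const, Finset.card_univ, smul_eq_mul] at s0 s1
  have hNc : Fintype.card G = N := by rw [hN_def, Nat.card_eq_fintype_card]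
  rw [hNc] at s0
  constructor
  · linarith
  · linarith

end Zassenhaus

end Cfsg.Agent.Helper15
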